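import Cfsg.Agent.SylL34.Fusion
import Cfsg.Agent.Kinf.LocalBalance
import Cfsg.Agent.Invol.Isolated
import Cfsg.Agent.Invol.IsolatedApps
import Cfsg.Agent.Signalizer.Basic
import Cfsg.Agent.S0205
import Cfsg.Agent.S0217

/-!
Cores of centralizers, normal 2-complements, signalizer closures, and a criterion for a subgroup
containing all involutions.
-/

set_option autoImplicit false
set_option linter.unusedSectionVars false
set_option linter.style.haveILetI false

namespace CfsgLib.SylL34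

open Subgroup

variable {G : Type*} [Group G] [Finite G]

theorem ocore_normal : (Cfsg.oddCore G).Normal := Solvable.pPrimeCore_normal 2

theorem ocore_odd : Odd (Nat.card (Cfsg.oddCore G)) := Nat.coprime_two_right.1 (Solvable.coprime_card_pPrimeCore 2)

theorem le_ocore {N : Subgroup G} (hn : N.Normal) (ho : Odd (Nat.card N)) : N ≤ Cfsg.oddCore G :=
  Solvable.le_pPrimeCore 2 hn (Nat.coprime_two_right.2 ho)

theorem odd_orderOf_of_mem {N : Subgroup G} (ho : Odd (Nat.card N)) {x : G} (hx : x ∈ N) : Odd (orderOf x) :=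
  ho.of_dvd_nat (orderOf_dvd_natCard N hx)

theorem eq_one_odd_two {x : G} {k : ℕ} (ho : Odd (orderOf x)) (h : x ^ 2 ^ k = 1) : x = 1 :=
  orderOf_eq_one_iff.1 (Nat.eq_one_of_dvd_coprimes ((Nat.coprime_two_right.2 ho).pow_right k) dvd_rfl
    (orderOf_dvd_of_pow_eq_one h))

theorem eq_one_of_sq_odd {x : G} (h : x * x = 1) (ho : Odd (orderOf x)) : x = 1 :=
  eq_one_odd_two (k := 1) ho (by rwa [pow_one, sq])

theorem inf_eq_bot_of_odd {N P : Subgroup G} (ho : Odd (Nat.card N)) (hP : IsPGroup 2 P) {x : G}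
    (hx : x ∈ N) (hx' : x ∈ P) : x = 1 := by
  obtain ⟨k, hk⟩ := hP ⟨x, hx'⟩
  exact eq_one_odd_two (odd_orderOf_of_mem ho hx) (congrArg Subtype.val hk)

/-- The odd core of the centralizer of an element. -/
def Oc (x : G) : Subgroup G := Cfsg.centralizerPPrimeCore 2 x

theorem Oc_le (x : G) : Oc x ≤ centralizer ({x} : Set G) := LocalBalance.core_le _

theorem Oc_odd (x : G) : Odd (Nat.card (Oc x)) :=
  Nat.coprime_two_right.1 (LocalBalance.coprime_core (p := 2) (centralizer ({x} : Set G)))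

theorem Oc_comm {x g : G} (hg : g ∈ Oc x) : g * x = x * g := mem_centralizer_singleton_iff.1 (Oc_le x hg)

theorem cent_le_normalizer_Oc (x : G) : centralizer ({x} : Set G) ≤ normalizer (Oc x : Set G) :=
  le_normalizer.trans (LocalBalance.normalizer_le_normalizer_core (p := 2) (centralizer ({x} : Set G)))

theorem le_Oc {x : G} {N : Subgroup G} (hN : N ≤ centralizer ({x} : Set G))
    (hn : centralizer ({x} : Set G) ≤ normalizer (N : Set G)) (ho : Odd (Nat.card N)) : N ≤ Oc x :=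
  LocalBalance.le_core hN hn (Nat.coprime_two_right.2 ho)

theorem mem_Oc_iff {x y : G} :
    y ∈ Oc x ↔ ∃ h : y ∈ centralizer ({x} : Set G),
      (⟨y, h⟩ : centralizer ({x} : Set G)) ∈ Cfsg.oddCore (centralizer ({x} : Set G)) := by
  constructor
  · rintro ⟨v, hv, rfl⟩
    exact ⟨v.2, hv⟩
  · rintro ⟨h, hy⟩
    exact ⟨_, hy, rfl⟩

theorem cent_conj {x g y : G} : y ∈ centralizer ({g * x * g⁻¹} : Set G) ↔ g⁻¹ * y * g ∈ centralizer ({x} : Set G) := by
  rw [mem_centralizer_singleton_iff, mem_centralizer_singleton_iff]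
  constructor
  · intro h
    calc g⁻¹ * y * g * x = g⁻¹ * (y * (g * x * g⁻¹)) * g := by group
      _ = g⁻¹ * (g * x * g⁻¹ * y) * g := by rw [h]
      _ = x * (g⁻¹ * y * g) := by group
  · intro h
    calc y * (g * x * g⁻¹) = g * (g⁻¹ * y * g * x) * g⁻¹ := by group
      _ = g * (x * (g⁻¹ * y * g)) * g⁻¹ := by rw [h]
      _ = g * x * g⁻¹ * y := by group

theorem cj_centralizer (g x : G) : cj g (centralizer ({x} : Set G)) = centralizer ({g * x * g⁻¹} : Set G) := by
  ext y
  rw [mem_cj, cent_conj]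

theorem cj_Oc (g x : G) : cj g (Oc x) = Oc (g * x * g⁻¹) := by
  have key : ∀ g x : G, cj g (Oc x) ≤ Oc (g * x * g⁻¹) := by
    intro g x
    refine le_Oc ?_ (fun c hc => mem_normalizer_of_conj_mem ?_) (by rw [card_cj]; exact Oc_odd x)
    · rw [← cj_centralizer]
      exact map_mono (Oc_le x)
    · intro y hy
      rw [mem_cj] at hy ⊢
      rw [cent_conj] at hc
      have := conj_mem_of_normalizer (cent_le_normalizer_Oc x hc) hy
      simpa [mul_assoc] using this
  refine le_antisymm (key g x) fun y hy => ?_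
  have h := key g⁻¹ (g * x * g⁻¹) ((conj_mem_cj (g := g⁻¹)).2 hy)
  rw [show g⁻¹ * (g * x * g⁻¹) * g⁻¹⁻¹ = x by group] at h
  rw [mem_cj]
  simpa using h

theorem conj_mem_Oc {g x y : G} (hy : y ∈ Oc x) : g * y * g⁻¹ ∈ Oc (g * x * g⁻¹) :=
  cj_Oc g x ▸ conj_mem_cj.2 hy

/-- A subgroup with a Sylow 2-subgroup central in its normalizer has a normal 2-complement. -/
theorem twoNil (P : Sylow 2 G)
    (h : normalizer ((P : Subgroup G) : Set G) ≤ centralizer ((P : Subgroup G) : Set G)) :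
    (∀ g : G, ∃ o ∈ Cfsg.oddCore G, ∃ p ∈ (P : Subgroup G), g = o * p) ∧
      ∀ g : G, Odd (orderOf g) → g ∈ Cfsg.oddCore G := by
  haveI : Fact (Nat.Prime 2) := ⟨Nat.prime_two⟩
  set f := MonoidHom.transferSylow P h
  have hc := MonoidHom.ker_transferSylow_isComplement' P h
  have hcard : Nat.card f.ker = (P : Subgroup G).index := hc.index_eq_card.symm
  have hle : f.ker ≤ Cfsg.oddCore G := le_ocore inferInstance (by
    rw [hcard, ← Nat.not_even_iff_odd]
    exact fun he => P.not_dvd_index (even_iff_two_dvd.1 he))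
  refine ⟨fun g => ?_, fun g hg => hle ?_⟩
  · have hg : g ∈ f.ker ⊔ (P : Subgroup G) := by rw [hc.sup_eq_top]; exact mem_top g
    rw [← SetLike.mem_coe, Subgroup.normal_mul] at hg
    obtain ⟨o, ho, p, hp, rfl⟩ := hg
    exact ⟨o, hle ho, p, hp, rfl⟩
  · rw [MonoidHom.mem_ker]
    refine Subtype.ext ?_
    obtain ⟨k, hk⟩ := P.2 (f g)
    exact eq_one_odd_two (Odd.of_dvd_nat hg (by rw [orderOf_coe]; exact orderOf_map_dvd f g))
      (congrArg Subtype.val hk)

/-- A conjugate of an involution congruent to it modulo an odd subgroup normalised by it. -/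
theorem exists_conj_mod {N : Subgroup G} (hN : Odd (Nat.card N)) {w x : G} (hw : orderOf w = 2)
    (hx : orderOf x = 2) (h : x * w ∈ N) : ∃ o ∈ N, o * w * o⁻¹ = x := by
  obtain ⟨k, hk⟩ : ∃ k : ℕ, (x * w) ^ k * w * ((x * w) ^ k)⁻¹ = x := by
    obtain ⟨j, hj⟩ := odd_orderOf_of_mem hN h
    refine ⟨j + 1, ?_⟩
    have hxx := Invol.mul_self_eq_one hx
    have hww := Invol.mul_self_eq_one hw
    have hinv : w * (x * w) * w⁻¹ = (x * w)⁻¹ := by
      rw [mul_inv_rev, Invol.inv_eq_self hx, Invol.inv_eq_self hw, show w * (x * w) * w = w * x * (w * w) by group,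
        hww, mul_one]
    have h2 : w * ((x * w) ^ (j + 1))⁻¹ = (x * w) ^ (j + 1) * w := by
      have := congrArg (fun t => (t : G)⁻¹) (conj_pow (i := j + 1) (a := w) (b := x * w))
      rw [hinv, inv_pow] at this
      simp only [mul_inv_rev, inv_inv] at this
      calc w * ((x * w) ^ (j + 1))⁻¹ = w * ((x * w) ^ (j + 1))⁻¹ * (w⁻¹ * w) := by group
        _ = (w * (((x * w) ^ (j + 1))⁻¹ * w⁻¹)) * w := by group
        _ = (x * w) ^ (j + 1) * w := by rw [← this]
    rw [mul_assoc, h2, ← mul_assoc, ← pow_add, show j + 1 + (j + 1) = 2 * j + 1 + 1 by ring, pow_succ,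
      ← hj, pow_orderOf_eq_one, one_mul, mul_assoc, hww, mul_one]
  exact ⟨_, pow_mem h k, hk⟩

/-- Balanced odd cores on an elementary abelian group of order at least eight. -/
theorem closure_props {V : Subgroup G} (hsq : ∀ v ∈ V, v * v = 1) (h8 : 8 ≤ Nat.card V)
    (hbal : ∀ a ∈ V, a ≠ 1 → ∀ b ∈ V, b ≠ 1 → ∀ x ∈ Oc a, x * b = b * x → x ∈ Oc b) :
    ∃ W : Subgroup G, Odd (Nat.card W) ∧
      (∀ a ∈ V, a ≠ 1 → Oc a ≤ W) ∧ (∀ a ∈ V, a ≠ 1 → ∀ x ∈ W, x * a = a * x → x ∈ Oc a) ∧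
      normalizer (V : Set G) ≤ normalizer (W : Set G) ∧
      ∀ E : Subgroup G, E ≤ V → 4 ≤ Nat.card E → W ≤ ⨆ e : {e : G // e ∈ E ∧ e ≠ 1}, Oc (e : G) := by
  haveI : Fact (Nat.Prime 2) := ⟨Nat.prime_two⟩
  have hcomm : ∀ a ∈ V, ∀ b ∈ V, a * b = b * a := fun a ha b hb => comm_of_sq hsq ha hb
  have hexp : ∀ a ∈ V, a ^ 2 = 1 := fun a ha => by rw [sq]; exact hsq a ha
  have hc : ∀ a ∈ V, ∀ b ∈ V, b ∈ centralizer ({a} : Set G) := fun a ha b hb =>
    mem_centralizer_singleton_iff.2 (hcomm b hb a ha)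
  obtain ⟨hW, hWeq⟩ := Cfsg.Agent.S0217.result (p := 2) V hcomm hexp h8 (fun a => Oc a)
    (fun a _ _ => Oc_le a) (fun a _ _ => (Oc_odd a).not_two_dvd_nat)
    (fun a ha _ b hb x hx => conj_mem_of_normalizer (cent_le_normalizer_Oc a (hc a ha b hb)) hx)
    (fun a _ _ => Cfsg.Agent.S0205.result (Oc_odd a))
    (fun a ha ha1 b hb hb1 x hx => hbal a ha ha1 b hb hb1 x hx.1 (mem_centralizer_singleton_iff.1 hx.2))
  set W := ⨆ a : {a : G // a ∈ V ∧ a ≠ 1}, Oc (a : G) with hWdef
  have hle : ∀ a ∈ V, a ≠ 1 → Oc a ≤ W := fun a ha ha1 => le_iSup (fun a : {a : G // a ∈ V ∧ a ≠ 1} => Oc (a : G)) ⟨a, ha, ha1⟩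
  have hnorm : normalizer (V : Set G) ≤ normalizer (W : Set G) := by
    intro g hg
    refine mem_normalizer_of_cj (eq_of_le_of_card_ge ?_ (card_cj g W).ge)
    rw [cj, hWdef, Subgroup.map_iSup]
    refine iSup_le fun a => ?_
    show cj g (Oc (a : G)) ≤ _
    rw [cj_Oc]
    exact hle _ (conj_mem_of_normalizer hg a.2.1) fun e => a.2.2 (conj_eq_one_iff.1 e)
  refine ⟨W, Nat.not_even_iff_odd.1 fun he => hW (even_iff_two_dvd.1 he), hle,
    fun a ha ha1 x hx hxa => (hWeq a ha ha1).le ⟨hx, mem_centralizer_singleton_iff.2 hxa⟩, hnorm, ?_⟩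
  intro E hE hE4
  have hel : Cfsg.IsElementaryAbelian 2 V := ⟨⟨⟨fun a b => Subtype.ext (hcomm a a.2 b b.2)⟩⟩, hexp⟩
  refine Signalizer.le_of_forall_centralizer hel hE hE4 ?_ hW fun e he he1 => ?_
  · intro e he
    exact hnorm (le_normalizer (hE he))
  · rw [hWeq e (hE he) he1]
    exact le_iSup (fun e : {e : G // e ∈ E ∧ e ≠ 1} => Oc (e : G)) ⟨e, he, he1⟩

/-- Two classes of involutions: all lie in a subgroup containing the centralizers of its own. -/
theorem all_invols {M : Subgroup G} (hC : ∀ t ∈ M, orderOf t = 2 → centralizer ({t} : Set G) ≤ M)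
    {s t : G} (hs : s ∈ M) (hs2 : orderOf s = 2) (ht : t ∈ M) (ht2 : orderOf t = 2) (hst : ¬ IsConj s t)
    {x : G} (hx : orderOf x = 2) : x ∈ M := by
  have key : ∀ s ∈ M, orderOf s = 2 → ∀ y : G, orderOf y = 2 → ¬ IsConj s y → y ∈ M := by
    intro s hs hs2 y hy hn
    obtain ⟨i, hi, his, hiy⟩ := Invol.exists_commuting_invol hs2 hy hn
    exact hC i (hC s hs hs2 (mem_centralizer_singleton_iff.2 his.eq)) hi
      (mem_centralizer_singleton_iff.2 hiy.eq.symm)
  by_cases h : IsConj s x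
  · exact key t ht ht2 x hx fun h' => hst (h.trans h'.symm)
  · exact key s hs hs2 x hx h

/-- A subgroup containing every involution and a Sylow normalizer is everything. -/
theorem eq_top_of_invols (S : Sylow 2 G) {M : Subgroup G}
    (hgen : (S : Subgroup G) ≤ closure {t : G | t * t = 1})
    (hall : ∀ x : G, orderOf x = 2 → x ∈ M) (hN : normalizer ((S : Subgroup G) : Set G) ≤ M) : M = ⊤ := by
  haveI : Fact (Nat.Prime 2) := ⟨Nat.prime_two⟩
  set N := closure {t : G | t * t = 1}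
  haveI : N.Normal := by
    constructor
    intro n hn g
    suffices N ≤ N.comap (MulAut.conj g).toMonoidHom from this hn
    refine (closure_le _).2 fun t ht => subset_closure ?_
    exact conj_sq g t ht
  have hNM : N ≤ M := (closure_le _).2 fun t ht => by
    by_cases h1 : t = 1
    · rw [h1]; exact one_mem M
    · exact hall t (Invol.orderOf_eq_two ht h1)
  rw [eq_top_iff, ← Sylow.normalizer_sup_eq_top' S hgen]
  exact sup_le hN hNM

/-- Conjugation of an involution of `M` into a Sylow 2-subgroup contained in `M`. -/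
theorem conj_into (S : Sylow 2 G) {M : Subgroup G} (hM : (S : Subgroup G) ≤ M) {t : G} (ht : t ∈ M)
    (h2 : t * t = 1) : ∃ m ∈ M, m * t * m⁻¹ ∈ (S : Subgroup G) := by
  obtain ⟨m, hm⟩ := exists_conj_mem (S.subtype hM) (x := (⟨t, ht⟩ : M)) (Subtype.ext h2)
  exact ⟨m, m.2, hm⟩

/-- Centralizers of all involutions of `M`, from those of the Sylow subgroup. -/
theorem cent_of_rep (S : Sylow 2 G) {M : Subgroup G} (hM : (S : Subgroup G) ≤ M)
    (hC : ∀ s ∈ (S : Subgroup G), orderOf s = 2 → centralizer ({s} : Set G) ≤ M) :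
    ∀ t ∈ M, orderOf t = 2 → centralizer ({t} : Set G) ≤ M := by
  intro t ht ht2 c hc
  obtain ⟨m, hm, hmS⟩ := conj_into S hM ht (Invol.mul_self_eq_one ht2)
  have h1 : m * c * m⁻¹ ∈ M := hC _ hmS (by rw [Invol.orderOf_conj_eq, ht2]) (cent_conj.2 (by
    rwa [show m⁻¹ * (m * c * m⁻¹) * m = c by group]))
  have := mul_mem (mul_mem (inv_mem hm) h1) hm
  rwa [show m⁻¹ * (m * c * m⁻¹) * m = c by group] at this

/-- Two classes of involutions and centralizers in `M` force `M = G`. -/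
theorem top_of_cent (S : Sylow 2 G) {M : Subgroup G}
    (hgen : (S : Subgroup G) ≤ closure {t : G | t * t = 1})
    (hN : normalizer ((S : Subgroup G) : Set G) ≤ M)
    (hC : ∀ s ∈ (S : Subgroup G), orderOf s = 2 → centralizer ({s} : Set G) ≤ M)
    {s t : G} (hs : s ∈ (S : Subgroup G)) (hs2 : orderOf s = 2) (ht : t ∈ (S : Subgroup G))
    (ht2 : orderOf t = 2) (hst : ¬ IsConj s t) : M = ⊤ := by
  have hSM : (S : Subgroup G) ≤ M := le_normalizer.trans hN
  exact eq_top_of_invols S hgen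
    (fun x hx => all_invols (cent_of_rep S hSM hC) (hSM hs) hs2 (hSM ht) ht2 hst hx) hN

/-- Normalizers of Sylow subgroups map onto normalizers. -/
theorem sylow_lift {H : Type*} [Group H] (f : G →* H) (hf : Function.Surjective f) (S : Sylow 2 G) {v : H}
    (hv : v ∈ normalizer (((S : Subgroup G).map f : Subgroup H) : Set H)) :
    ∃ n ∈ normalizer ((S : Subgroup G) : Set G), f n = v := by
  obtain ⟨n, rfl⟩ := hf v
  set K := ((S : Subgroup G).map f).comap f
  have hSK : (S : Subgroup G) ≤ K := le_comap_map f _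
  have hnK : cj n (S : Subgroup G) ≤ K := by
    rintro _ ⟨x, hx, rfl⟩
    show f (n * x * n⁻¹) ∈ (S : Subgroup G).map f
    rw [map_mul, map_mul, map_inv]
    exact (mem_normalizer_iff.1 hv (f x)).1 (mem_map_of_mem f hx)
  obtain ⟨k, hk⟩ := exists_cj_le (S.subtype hSK) (P := (cj n (S : Subgroup G)).subgroupOf K)
    ((S.2.map _).comap_subtype)
  obtain ⟨p, hp, hpk⟩ := k.2
  refine ⟨p⁻¹ * (k * n), mem_normalizer_of_conj_mem fun x hx => ?_, ?_⟩
  · have := hk ((conj_mem_cj (g := k)).2 (show (⟨_, hnK (conj_mem_cj.2 hx)⟩ : K) ∈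
      (cj n (S : Subgroup G)).subgroupOf K from conj_mem_cj.2 hx))
    rw [Sylow.coe_subtype, mem_subgroupOf] at this
    have h2 := mul_mem (mul_mem (inv_mem hp) this) hp
    rw [show p⁻¹ * (k * n) * x * (p⁻¹ * (k * n))⁻¹ = p⁻¹ * (k * (n * x * n⁻¹) * (k : G)⁻¹) * p by group]
    simpa using h2
  · rw [map_mul, map_mul, map_inv, hpk]
    group

end CfsgLib.SylL34
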