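import Cfsg.Agent.SylL34.Tools
import Cfsg.Agent.Blocks.KleinOrder
import Cfsg.Agent.Char.Kernel

/-!
A bound on the centralizer of an involution, Klein four Sylow subgroup and one class of involutions.
-/

set_option autoImplicit false
set_option linter.unusedSectionVars false
set_option linter.unusedSimpArgs false
set_option linter.style.haveILetI false

namespace CfsgLib.SylL34

open Cfsg Finset CfsgLib.Block CfsgLib.Block.Chr CfsgLib.Char

universe u

variable {K : Type u} [Group K] [Finite K]

theorem length_le_card (P : Subgroup K) {l : List K} (hl : l.Nodup) (h : ∀ x ∈ l, x ∈ P) :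
    l.length ≤ Nat.card P := by
  classical
  haveI := Fintype.ofFinite P
  have h1 : (l.pmap (fun x hx => (⟨x, hx⟩ : P)) h).Nodup :=
    hl.pmap fun a _ b _ e => congrArg Subtype.val e
  have h2 := h1.length_le_card
  rwa [List.length_pmap, ← Nat.card_eq_fintype_card] at h2

/-- A Klein four Sylow subgroup with trivial odd core: `3 |C(J)|³ ≤ |K| |C(P)|²`, equality only if `C(J)`
has order four. -/
theorem char_four (P : Sylow 2 K) (hP : IsKleinFour (P : Subgroup K))
    (hone : ∀ s t : K, orderOf s = 2 → orderOf t = 2 → IsConj s t) {J : K}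
    (hJP : J ∈ (P : Subgroup K)) (hJ : orderOf J = 2) (hO : Cfsg.oddCore K = ⊥) :
    3 * Nat.card (Subgroup.centralizer ({J} : Set K)) ^ 3 ≤
        Nat.card K * Nat.card (Subgroup.centralizer ((P : Subgroup K) : Set K)) ^ 2 ∧
      (3 * Nat.card (Subgroup.centralizer ({J} : Set K)) ^ 3 =
          Nat.card K * Nat.card (Subgroup.centralizer ((P : Subgroup K) : Set K)) ^ 2 →
        Nat.card (Subgroup.centralizer ({J} : Set K)) = 4) := by
  classical
  haveI : Fact (Nat.Prime 2) := ⟨Nat.prime_two⟩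
  haveI := Fintype.ofFinite K
  letI := irrFintype (G := K)
  obtain ⟨M, hM⟩ := exists_isPModular Nat.prime_two
  haveI := hM.2.1.isPrime
  haveI := hP
  have hcard : Nat.card P = 4 := IsKleinFour.card_four
  have hexp : ∀ x : P, x * x = 1 := fun x => IsKleinFour.mul_self x
  have hsq : ∀ x ∈ (P : Subgroup K), x * x = 1 := fun x hx => congrArg Subtype.val (hexp ⟨x, hx⟩)
  have hcm : ∀ x ∈ (P : Subgroup K), ∀ y ∈ (P : Subgroup K), x * y = y * x := fun x hx y hy =>
    comm_of_sq hsq hx hy
  obtain ⟨hB4, v, hv1, hv, -⟩ := klein_singular hM P hcard hexp hone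
  obtain ⟨-, v', -, hv', -⟩ := klein_principal hM P hcard hexp hone
  have hform := klein_order_formula hM P hP hone hJP hJ
  set B := univ.filter (· ∈ principalBlock M K) with hBdef
  have hmem : ∀ χ, χ ∈ B ↔ χ ∈ principalBlock M K := fun χ => by simp [hBdef]
  set c := Nat.card (Subgroup.centralizer ({J} : Set K)) with hc
  set d := Nat.card (Subgroup.centralizer ((P : Subgroup K) : Set K)) with hd
  have hc0 : 0 < c := Nat.card_pos
  have hd0 : 0 < d := Nat.card_pos
  by_cases hlin : ∃ χ ∈ B, χ ≠ oneIrr K ∧ charDegree (χ : K → ℂ) = 1 ∧ v χ = 1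
  · obtain ⟨χ, hχB, hne, hdeg, hvχ⟩ := hlin
    have hch := isCharacter_irr χ
    set N := kerSubgroup hch
    haveI : N.Normal := kerSubgroup_normal hch
    have h1 : (χ : K → ℂ) 1 = 1 := by rw [(irr_one χ).1, hdeg, Nat.cast_one]
    have heven : ∀ g : K, 2 ∣ orderOf g → g ∈ N := fun g hg => (mem_kerSubgroup hch g).2 (by
      rw [(hv χ ((hmem χ).1 hχB)).2 g hg, hvχ, h1, Int.cast_one])
    have hNtop : N ≠ ⊤ := fun h => by
      refine hne (Subtype.ext (funext fun g => ?_))
      rw [oneIrr_coe, ← h1]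
      exact (mem_kerSubgroup hch g).1 (show g ∈ N by rw [h]; exact Subgroup.mem_top g)
    -- centralizers of involutions lie in the kernel
    have hCN : ∀ s : K, orderOf s = 2 → Subgroup.centralizer ({s} : Set K) ≤ N := by
      intro s hs x hx
      by_cases h : 2 ∣ orderOf x
      · exact heven x h
      have hsx : 2 ∣ orderOf (s * x) := by
        rw [(show Commute s x from (Subgroup.mem_centralizer_singleton_iff.1 hx).symm).orderOf_mul_eq_mul_orderOf_of_coprime
          (by rw [hs]; exact (Nat.prime_two.coprime_iff_not_dvd).2 h), hs]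
        exact dvd_mul_right 2 _
      have := mul_mem (inv_mem (heven s (hs ▸ dvd_rfl))) (heven _ hsx)
      rwa [inv_mul_cancel_left] at this
    have hJ1 : J ≠ 1 := Invol.ne_one hJ
    have hPN : (P : Subgroup K) ≤ N := fun x hx =>
      hCN J hJ (Subgroup.mem_centralizer_singleton_iff.2 (hcm x hx J hJP))
    -- the stabilizer of `J` in the normalizer centralises `P`
    have hstab : ∀ n ∈ Subgroup.normalizer ((P : Subgroup K) : Set K), n * J * n⁻¹ = J →
        n ∈ Subgroup.centralizer ((P : Subgroup K) : Set K) := by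
      intro n hn hnJ
      refine Subgroup.mem_centralizer_iff.2 fun x hx => ?_
      suffices h : n * x * n⁻¹ = x from (mul_inv_eq_iff_eq_mul.1 h).symm
      by_cases hx1 : x = 1
      · subst hx1; group
      by_cases hxJ : x = J
      · rw [hxJ, hnJ]
      haveI := Fintype.ofFinite (P : Subgroup K)
      -- the elements of the four-group
      have hall : ∀ y ∈ (P : Subgroup K), y = 1 ∨ y = J ∨ y = x ∨ y = J * x := by
        intro y hy
        by_contra! hy'
        obtain ⟨y1, y2, y3, y4⟩ := hy'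
        have e1 : J * x ≠ 1 := fun e => hxJ (by
          rw [← inv_eq_of_sq (hsq J hJP)]; exact (inv_eq_of_mul_eq_one_right e).symm)
        have hl : [1, J, x, J * x, y].Nodup := by
          simp [hJ1, Ne.symm hJ1, hx1, Ne.symm hx1, hxJ, Ne.symm hxJ, e1, Ne.symm e1, Ne.symm y1, Ne.symm y2,
            Ne.symm y3, Ne.symm y4]
        have hx' : x ∈ (P : Subgroup K) := hx
        have := length_le_card (P : Subgroup K) hl (by simp [hJP, hx', hy, one_mem, mul_mem hJP hx'])
        simp only [List.length_cons, List.length_nil] at this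
        omega
      have hxc : n * x * n⁻¹ = x ∨ n * x * n⁻¹ = J * x := by
        rcases hall _ (conj_mem_of_normalizer hn hx) with h | h | h | h
        · exact absurd (conj_eq_one_iff.1 h) hx1
        · exact absurd (mul_left_cancel (mul_right_cancel (h.trans hnJ.symm))) hxJ
        · exact Or.inl h
        · exact Or.inr h
      rcases hxc with h | h
      · exact h
      exfalso
      have h2 : Commute (n * n) x := mul_inv_eq_iff_eq_mul.1 (by
        calc n * n * x * (n * n)⁻¹ = n * (n * x * n⁻¹) * n⁻¹ := by group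
          _ = n * J * n⁻¹ * (n * x * n⁻¹) := by conv_lhs => rw [h]
                                                group
          _ = J * (J * x) := by rw [hnJ, h]
          _ = x := by rw [← mul_assoc, hsq J hJP, one_mul])
      obtain ⟨m, k, ⟨j, rfl⟩, hk⟩ := exists_odd_pow n
      have hmP := mem_of_two hk (pow_mem hn _)
      have h3 : n ^ (2 * j + 1) * x * (n ^ (2 * j + 1))⁻¹ = x := by
        rw [hcm _ hmP x hx, mul_inv_cancel_right]
      rw [pow_succ', pow_mul, sq, show n * (n * n) ^ j * x * (n * (n * n) ^ j)⁻¹ =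
        n * ((n * n) ^ j * x * ((n * n) ^ j)⁻¹) * n⁻¹ by group, (h2.pow_left j).eq, mul_inv_cancel_right, h] at h3
      exact hJ1 (mul_right_cancel (h3.trans (one_mul x).symm))
    obtain ⟨n, hn, hnN⟩ : ∃ n ∈ Subgroup.normalizer ((P : Subgroup K) : Set K), n ∉ N := by
      by_contra! h
      refine hNtop (top_le_iff.1 ?_)
      rw [← Sylow.normalizer_sup_eq_top' P hPN]
      exact sup_le h le_rfl
    have hCP : Subgroup.centralizer ((P : Subgroup K) : Set K) ≤ N := fun x hx =>
      hCN J hJ (Subgroup.mem_centralizer_singleton_iff.2 (Subgroup.mem_centralizer_iff.1 hx J hJP).symm)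
    have hNP : ∀ n' ∈ Subgroup.normalizer ((P : Subgroup K) : Set K), n' ∈ N →
        n' ∈ Subgroup.centralizer ((P : Subgroup K) : Set K) := by
      intro n' hn' hn'N
      by_cases h0 : n' * J * n'⁻¹ = J
      · exact hstab n' hn' h0
      exfalso
      have hnJ : n * J * n⁻¹ ≠ J := fun h => hnN (hCP (hstab n hn h))
      have hnJ' : n⁻¹ * J * n ≠ J := fun h => hnJ (by
        conv_lhs => rw [← h]
        group)
      have htwo : ∀ a b c : K, a ∈ (P : Subgroup K) → b ∈ (P : Subgroup K) → c ∈ (P : Subgroup K) →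
          a ≠ 1 → b ≠ 1 → c ≠ 1 → a ≠ J → b ≠ J → c ≠ J → a = b ∨ a = c ∨ b = c := by
        intro a b c ha hb hc' ha1 hb1 hc1 haJ hbJ hcJ
        by_contra! h
        obtain ⟨hab, hac, hbc⟩ := h
        have hl : [1, J, a, b, c].Nodup := by
          simp [Ne.symm hJ1, Ne.symm ha1, Ne.symm hb1, Ne.symm hc1, Ne.symm haJ, Ne.symm hbJ, Ne.symm hcJ, hab,
            hac, hbc]
        have := length_le_card (P : Subgroup K) hl (by simp [hJP, ha, hb, hc', one_mem])
        simp only [List.length_cons, List.length_nil] at this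
        omega
      have key : ∀ g ∈ Subgroup.normalizer ((P : Subgroup K) : Set K), g * J * g⁻¹ ∈ (P : Subgroup K) ∧
          g * J * g⁻¹ ≠ 1 := fun g hg =>
        ⟨conj_mem_of_normalizer hg hJP, fun e => hJ1 (conj_eq_one_iff.1 e)⟩
      have hk' := key n⁻¹ (inv_mem hn)
      rw [inv_inv] at hk'
      rcases htwo (n * J * n⁻¹) (n⁻¹ * J * n) (n' * J * n'⁻¹) (key n hn).1 hk'.1 (key n' hn').1
        (key n hn).2 hk'.2 (key n' hn').2 hnJ hnJ' h0 with e | e | e
      · -- `n²` would centralise `P`
        have h2 : n * n ∈ Subgroup.centralizer ((P : Subgroup K) : Set K) := by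
          refine hstab _ (mul_mem hn hn) ?_
          calc n * n * J * (n * n)⁻¹ = n * (n * J * n⁻¹) * n⁻¹ := by group
            _ = n * (n⁻¹ * J * n) * n⁻¹ := by rw [e]
            _ = J := by group
        obtain ⟨m, k, ⟨j, rfl⟩, hk⟩ := exists_odd_pow n
        have hmN : n ^ (2 * j + 1) ∈ N := hPN (mem_of_two hk (pow_mem hn _))
        rw [pow_succ, pow_mul, sq] at hmN
        exact hnN ((mul_mem_cancel_left (pow_mem (hCP h2) j)).1 hmN)
      · refine hnN ?_
        have h2 : n⁻¹ * n' ∈ Subgroup.centralizer ((P : Subgroup K) : Set K) := by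
          refine hstab _ (mul_mem (inv_mem hn) hn') ?_
          calc n⁻¹ * n' * J * (n⁻¹ * n')⁻¹ = n⁻¹ * (n' * J * n'⁻¹) * n := by group
            _ = n⁻¹ * (n * J * n⁻¹) * n := by rw [e]
            _ = J := by group
        have := mul_mem hn'N (inv_mem (hCP h2))
        rwa [mul_inv_rev, inv_inv, mul_inv_cancel_left] at this
      · refine hnN ?_
        have h2 : n * n' ∈ Subgroup.centralizer ((P : Subgroup K) : Set K) := by
          refine hstab _ (mul_mem hn hn') ?_
          calc n * n' * J * (n * n')⁻¹ = n * (n' * J * n'⁻¹) * n⁻¹ := by group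
            _ = n * (n⁻¹ * J * n) * n⁻¹ := by rw [e]
            _ = J := by group
        have := mul_mem (hCP h2) (inv_mem hn'N)
        rwa [mul_inv_cancel_right] at this
    -- the kernel is `P`
    have hNeq : ∀ g ∈ N, g ∈ (P : Subgroup K) := by
      intro g hg
      set P' := P.subtype hPN
      obtain ⟨h2, -⟩ := twoNil P' (fun y hy => Subgroup.mem_centralizer_iff.2 fun x hx => Subtype.ext
        (Subgroup.mem_centralizer_iff.1 (hNP y (mem_normalizer_of_conj_mem fun w hw =>
          (Subgroup.mem_normalizer_iff.1 hy ⟨w, hPN hw⟩).1 hw) y.2) x hx))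
      obtain ⟨o, ho, p, hp, e⟩ := h2 ⟨g, hg⟩
      have hle : (Cfsg.oddCore N).map N.subtype ≤ (⊥ : Subgroup K) := by
        rw [← hO]
        refine le_ocore (Subgroup.normalizer_eq_top_iff.1 (top_le_iff.1 ?_))
          (by rw [Subgroup.card_map_of_injective N.subtype_injective]; exact ocore_odd)
        exact (Subgroup.normalizer_eq_top_iff.2 (inferInstance : N.Normal)).ge.trans
          (LocalBalance.normalizer_le_normalizer_core (p := 2) N)
      have ho1 : (o : K) = 1 := Subgroup.mem_bot.1 (hle ⟨o, ho, rfl⟩)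
      have e' : g = (o : K) * p := congrArg Subtype.val e
      rw [e', ho1, one_mul]
      exact hp
    have hC4 : Subgroup.centralizer ({J} : Set K) = (P : Subgroup K) :=
      le_antisymm (fun x hx => hNeq x (hCN J hJ hx))
        fun x hx => Subgroup.mem_centralizer_singleton_iff.2 (hcm x hx J hJP)
    have hD4 : Subgroup.centralizer ((P : Subgroup K) : Set K) = (P : Subgroup K) :=
      le_antisymm (fun x hx => hNeq x (hCP hx)) fun x hx => Subgroup.mem_centralizer_iff.2 fun y hy => hcm y hy x hx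
    have hc4 : c = 4 := by rw [hc, hC4]; exact hcard
    have hd4 : d = 4 := by rw [hd, hD4]; exact hcard
    have hK12 : 12 ≤ Nat.card K := by
      have hdvd : 4 ∣ Nat.card K := hcard ▸ Subgroup.card_subgroup_dvd_card (P : Subgroup K)
      obtain ⟨e, he⟩ := hdvd
      have h2 : ¬ 2 ∣ (P : Subgroup K).index := P.not_dvd_index
      have h3 := (P : Subgroup K).card_mul_index
      have h4 : (P : Subgroup K).index ≠ 1 := fun h => hnN (hPN ((Subgroup.index_eq_one.1 h).symm ▸ Subgroup.mem_top n))
      rw [hcard, he] at h3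
      have h5 : (P : Subgroup K).index ≠ 0 := Subgroup.index_ne_zero_of_finite
      rw [he]
      omega
    rw [hc4, hd4]
    exact ⟨by nlinarith, fun _ => rfl⟩
  -- no linear character: a strict bound
  push Not at hlin
  have hterm : ∀ χ ∈ B, χ ≠ oneIrr K → ∃ r : ℝ, (χ : K → ℂ) J / (χ : K → ℂ) 1 = (r : ℂ) ∧ r ≤ 1 / 5 := by
    intro χ hχ hne
    have hm := (hmem χ).1 hχ
    have hvJ : (χ : K → ℂ) J = (v χ : ℂ) := (hv χ hm).2 J (hJ ▸ dvd_rfl)
    have hvv : v χ = v' χ := by
      have := (hv' χ hm).1 J hJ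
      rw [hvJ] at this
      exact_mod_cast this
    have hdvd := (hv' χ hm).2.2
    rw [← hvv] at hdvd
    have hpos := (irr_one χ).2
    refine ⟨(v χ : ℝ) / (charDegree (χ : K → ℂ) : ℝ), by rw [hvJ, (irr_one χ).1]; push_cast; rfl, ?_⟩
    rcases (hv χ hm).1 with h | h
    · rw [h] at hdvd ⊢
      have hne1 : charDegree (χ : K → ℂ) ≠ 1 := fun e => hlin χ hχ hne e h
      have h5 : 5 ≤ charDegree (χ : K → ℂ) := by
        obtain ⟨q, hq⟩ := hdvd
        omega
      rw [Int.cast_one]
      exact one_div_le_one_div_of_le (by norm_num) (by exact_mod_cast h5)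
    · rw [h]
      push_cast
      refine le_trans (div_nonpos_of_nonpos_of_nonneg (by norm_num) (Nat.cast_nonneg _)) (by norm_num)
  choose r hr hr5 using hterm
  have h1B : oneIrr K ∈ B := (hmem _).2 oneIrr_mem_principalBlock
  have hsum : ∑ χ ∈ B, (χ : K → ℂ) J / (χ : K → ℂ) 1 =
      ((1 + ∑ χ ∈ (B.erase (oneIrr K)).attach, r χ.1 (mem_of_mem_erase χ.2) (ne_of_mem_erase χ.2) : ℝ) : ℂ) := by
    rw [← add_sum_erase _ _ h1B]
    push_cast
    congr 1
    · simp [oneIrr_coe]
    · rw [← sum_attach]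
      exact sum_congr rfl fun χ _ => hr χ.1 _ _
  have hbound : ∑ χ ∈ (B.erase (oneIrr K)).attach, r χ.1 (mem_of_mem_erase χ.2) (ne_of_mem_erase χ.2) ≤ 3 / 5 := by
    refine (sum_le_card_nsmul _ _ (1 / 5 : ℝ) fun χ _ => hr5 _ _ _).trans ?_
    rw [card_attach, card_erase_of_mem h1B, hB4, nsmul_eq_mul]
    norm_num
  rw [hsum] at hform
  set s : ℝ := 1 + ∑ χ ∈ (B.erase (oneIrr K)).attach, r χ.1 (mem_of_mem_erase χ.2) (ne_of_mem_erase χ.2)
  have hd' : (d : ℂ) ≠ 0 := Nat.cast_ne_zero.2 hd0.ne'
  have hform' : (Nat.card K : ℝ) * s * (d : ℝ) ^ 2 = 8 * (c : ℝ) ^ 3 := by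
    rw [eq_div_iff (pow_ne_zero 2 hd')] at hform
    exact_mod_cast hform
  have hle : (5 : ℝ) * (c : ℝ) ^ 3 ≤ (Nat.card K : ℝ) * (d : ℝ) ^ 2 := by
    have h0 : (0 : ℝ) ≤ (Nat.card K : ℝ) * (d : ℝ) ^ 2 := by positivity
    nlinarith
  have hle' : 5 * c ^ 3 ≤ Nat.card K * d ^ 2 := by exact_mod_cast hle
  have hpos : 0 < c ^ 3 := by positivity
  exact ⟨by omega, fun h => by omega⟩

end CfsgLib.SylL34
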