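import Cfsg.Agent.SylL34.CaseII
import Cfsg.Agent.SylL34.CharFour
import Cfsg.Agent.Signalizer.Wielandt

/-!
A moving automizer: the group `C(a)/O(C(a))⟨U⟩` with Klein four Sylow subgroup.
-/

set_option autoImplicit false
set_option linter.unusedSectionVars false
set_option linter.unusedSimpArgs false
set_option linter.style.haveILetI false

namespace CfsgLib.SylL34

open Subgroup

variable {G : Type*} [Group G] [Finite G]

/-- The size of a class under a subgroup. -/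
theorem card_orbit (H : Subgroup G) (x : G) :
    Nat.card {y : G // ∃ h ∈ H, h * x * h⁻¹ = y} * Nat.card (H ⊓ centralizer ({x} : Set G) : Subgroup G) =
      Nat.card H := by
  set C := (centralizer ({x} : Set G)).subgroupOf H
  have hC : Nat.card C = Nat.card (H ⊓ centralizer ({x} : Set G) : Subgroup G) := by
    show Nat.card ((centralizer ({x} : Set G)).subgroupOf H) = _
    rw [← inf_subgroupOf_left, Nat.card_congr (subgroupOfEquivOfLe inf_le_left).toEquiv]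
  have key : ∀ n m : H, (n : G) * x * (n : G)⁻¹ = (m : G) * x * (m : G)⁻¹ ↔ n⁻¹ * m ∈ C := by
    intro n m
    rw [mem_subgroupOf, mem_centralizer_singleton_iff]
    push_cast
    constructor
    · intro e
      calc (n : G)⁻¹ * m * x = (n : G)⁻¹ * (m * x * (m : G)⁻¹) * m := by group
        _ = (n : G)⁻¹ * (n * x * (n : G)⁻¹) * m := by rw [e]
        _ = x * ((n : G)⁻¹ * m) := by group
    · intro e
      calc (n : G) * x * (n : G)⁻¹ = n * (x * ((n : G)⁻¹ * m)) * (m : G)⁻¹ := by group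
        _ = n * ((n : G)⁻¹ * m * x) * (m : G)⁻¹ := by rw [e]
        _ = m * x * (m : G)⁻¹ := by group
  let f : H ⧸ C → {y : G // ∃ h ∈ H, h * x * h⁻¹ = y} := fun q => Quotient.liftOn' q
    (fun n => ⟨(n : G) * x * (n : G)⁻¹, n, n.2, rfl⟩)
    fun n m h => Subtype.ext ((key n m).2 (QuotientGroup.leftRel_apply.1 h))
  have hf : Function.Bijective f := by
    constructor
    · intro p q
      induction p using Quotient.inductionOn' with
      | h n =>
      induction q using Quotient.inductionOn' with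
      | h m =>
      intro e
      exact QuotientGroup.eq.2 ((key n m).1 (congrArg Subtype.val e))
    · rintro ⟨_, n, hn, rfl⟩
      exact ⟨QuotientGroup.mk ⟨n, hn⟩, rfl⟩
  rw [← Nat.card_congr (Equiv.ofBijective f hf), ← index_eq_card, ← hC, mul_comm, card_mul_index]

/-- The image of a subgroup with its kernel. -/
theorem card_map_mul {H : Type*} [Group H] (f : G →* H) (X : Subgroup G) :
    Nat.card (X.map f) * Nat.card (f.ker ⊓ X : Subgroup G) = Nat.card X := by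
  have h := (f.comp X.subtype).ker.card_mul_index
  rw [index_ker, MonoidHom.range_comp, range_subtype] at h
  rw [mul_comm, ← h]
  congr 1
  rw [show (f.comp X.subtype).ker = (f.ker ⊓ X).subgroupOf X by
    ext x; simp [mem_subgroupOf, MonoidHom.mem_ker]]
  exact Nat.card_congr (subgroupOfEquivOfLe inf_le_right).toEquiv |>.symm

/-- An element of `C(a)` with an action moving every central involution. -/
def Moves (A B : Subgroup G) (a : G) : Prop :=
  ∃ n ∈ normalizer (A : Set G), n * a = a * n ∧ ∀ w ∈ A ⊓ B, w ≠ 1 → n * w * n⁻¹ ≠ w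

namespace Dat

variable {S : Sylow 2 G} {A B : Subgroup G} (D : Dat S A B)
include D

theorem zne_two {z : G} (hz : z ∈ A ⊓ B) (hz1 : z ≠ 1) : ∃ w ∈ A ⊓ B, w ≠ 1 ∧ w ≠ z := by
  by_contra! h
  have h2 : Nat.card (A ⊓ B : Subgroup G) ≤ Nat.card (zpowers z) := card_le_of_le fun w hw => by
    by_cases hw1 : w = 1
    · exact hw1 ▸ one_mem _
    · exact (h w hw hw1) ▸ mem_zpowers z
  rw [D.cI, Nat.card_zpowers, D.orderA (mem_inf.1 hz).1 hz1] at h2
  omega

theorem not_zne (hA : ¬ Fus A B) {x z : G} (hx : x ∈ A) (hz : z ∈ A ⊓ B) (h : IsConj z x) : x ∈ A ⊓ B := by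
  refine mem_inf.2 ⟨hx, ?_⟩
  by_contra hxB
  exact hA ⟨x, hx, hxB, z, hz, h.symm⟩

/-- The moving element is transitive on the central involutions. -/
theorem moves_trans (hA : ¬ Fus A B) {a : G} (ha : a ∈ A) (haB : a ∉ B) (hmv : Moves A B a) {z w : G}
    (hz : z ∈ A ⊓ B) (hz1 : z ≠ 1) (hw : w ∈ A ⊓ B) (hw1 : w ≠ 1) :
    ∃ n : G, n ∈ normalizer (A : Set G) ∧ n * a = a * n ∧ n * z * n⁻¹ = w := by
  obtain ⟨n, hn, hna, hmove⟩ := hmv
  set y := n * z * n⁻¹ with hy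
  have hyZ : y ∈ A ⊓ B := D.normA_Z hA hn hz
  have hy1 : y ≠ 1 := fun e => hz1 (conj_eq_one_iff.1 e)
  have hzy : z ≠ y := fun e => hmove z hz hz1 e.symm
  have hn2 : n * n * a = a * (n * n) := by rw [mul_assoc, hna, ← mul_assoc, hna, mul_assoc]
  rcases D.exists_third hz hyZ hz1 hy1 hzy hw with h | h | h | h
  · exact absurd h hw1
  · exact ⟨1, one_mem _, by simp, by rw [h]; group⟩
  · exact ⟨n, hn, hna, h.symm⟩
  refine ⟨n * n, mul_mem hn hn, hn2, ?_⟩
  have e : n * n * z * (n * n)⁻¹ = n * y * n⁻¹ := by rw [hy]; group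
  rw [e, h]
  rcases D.exists_third hz hyZ hz1 hy1 hzy (D.normA_Z hA hn hyZ) with h' | h' | h' | h'
  · exact absurd (conj_eq_one_iff.1 h') hy1
  · exfalso
    obtain ⟨j, hj⟩ := D.odd_act hA ha haB hn hna
    rcases D.act_dichotomy hA ha haB (mul_mem hn hn) hn2 with hc | hc
    · have h1 := hj z (mem_inf.1 hz).1
      have h2 : Commute ((n * n) ^ j) z := (show Commute (n * n) z from hc z (mem_inf.1 hz).1).pow_left j
      rw [pow_succ', pow_mul, sq, mul_assoc, h2.eq, ← mul_assoc, ← mul_assoc z] at h1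
      exact hmove z hz hz1 (mul_inv_eq_iff_eq_mul.2 (mul_right_cancel h1))
    · exact hc z hz hz1 (e.trans h')
  · exact absurd h' (hmove y hyZ hy1)
  · exact h'

/-- If one element of `A` outside the centre moves, all do. -/
theorem moves_all (hA : ¬ Fus A B) {a : G} (ha : a ∈ A) (haB : a ∉ B) (hmv : Moves A B a) {c : G}
    (hc : c ∈ A) (hcB : c ∉ B) : Moves A B c := by
  obtain ⟨n, hn, hna, hmove⟩ := hmv
  obtain ⟨v, hv, hfix⟩ := D.exists_fixed hA ha haB hn hna hmove hc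
  obtain ⟨b, hb, hbv⟩ := D.exists_comm hc hcB hv
  have hbZ : ∀ w ∈ A ⊓ B, b * w * b⁻¹ = w := fun w hw => by rw [D.center_comm hw (D.hB hb), mul_inv_cancel_right]
  refine ⟨b⁻¹ * n * b, mul_mem (mul_mem (inv_mem (D.le_normA (D.hB hb))) hn) (D.le_normA (D.hB hb)), ?_, ?_⟩
  · calc b⁻¹ * n * b * c = b⁻¹ * (n * (b * c * b⁻¹)) * b := by group
      _ = b⁻¹ * (c * v * n) * b := by rw [hbv, hfix n hn hna]
      _ = b⁻¹ * (b * c * b⁻¹ * n) * b := by rw [hbv]
      _ = c * (b⁻¹ * n * b) := by group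
  · intro w hw hw1 e
    refine hmove w hw hw1 ?_
    calc n * w * n⁻¹ = n * (b * w * b⁻¹) * n⁻¹ := by rw [hbZ w hw]
      _ = b * (b⁻¹ * n * b * w * (b⁻¹ * n * b)⁻¹) * b⁻¹ := by group
      _ = w := by rw [e, hbZ w hw]

/-- A conjugate of a central involution in `C(a)` is conjugate there into the centre. -/
theorem cent_into (hA : ¬ Fus A B) {a z t : G} (ha : a ∈ A) (haB : a ∉ B) (hz : z ∈ A ⊓ B) (hz1 : z ≠ 1)
    (ht : t * a = a * t) (h : IsConj z t) :
    ∃ c : G, c * a = a * c ∧ c * t * c⁻¹ ∈ A ⊓ B ∧ c * t * c⁻¹ ≠ 1 := by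
  obtain ⟨g, hg⟩ := isConj_iff.1 h
  obtain ⟨P, hP⟩ := D.sylowA hA ha haB
  obtain ⟨c, hc⟩ := exists_conj_mem P (x := (⟨t, mem_centralizer_singleton_iff.2 ht⟩ : centralizer ({a} : Set G)))
    (Subtype.ext (hg ▸ conj_sq g z (D.eA z (mem_inf.1 hz).1)))
  rw [hP, mem_subgroupOf] at hc
  refine ⟨c, mem_centralizer_singleton_iff.1 c.2, D.not_zne hA hc hz (h.trans (isConj_iff.2 ⟨c, rfl⟩)), fun e => ?_⟩
  exact hz1 (conj_eq_one_iff.1 (hg.trans (conj_eq_one_iff.1 e)))

/-- `C(a, z) = (O(C(z)) ∩ C(a)) A`. -/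
theorem card_cent_az {a z : G} (hz : z ∈ A ⊓ B) (hz1 : z ≠ 1) (ha : a ∈ A) (haB : a ∉ B) (X : Subgroup G)
    (hAX : A ≤ X) :
    Nat.card (centralizer ({a} : Set G) ⊓ centralizer ({z} : Set G) ⊓ X : Subgroup G) =
      16 * Nat.card (Oc z ⊓ centralizer ({a} : Set G) ⊓ X : Subgroup G) := by
  rw [← D.cA, mul_comm, ← Nat.card_prod]
  refine (Nat.card_eq_of_bijective (fun p : (Oc z ⊓ centralizer ({a} : Set G) ⊓ X : Subgroup G) × A =>
    (⟨p.1 * p.2, mul_mem ⟨⟨p.1.2.1.2, Oc_le z p.1.2.1.1⟩, p.1.2.2⟩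
      ⟨⟨mem_centralizer_singleton_iff.2 (comm_of_sq D.eA p.2.2 ha), D.le_cent hz (D.hA p.2.2)⟩, hAX p.2.2⟩⟩ :
      (centralizer ({a} : Set G) ⊓ centralizer ({z} : Set G) ⊓ X : Subgroup G))) ⟨?_, ?_⟩).symm
  · intro p q e
    have e' : (p.1 : G) * p.2 = q.1 * q.2 := congrArg Subtype.val e
    have h1 : (q.1 : G)⁻¹ * p.1 = q.2 * (p.2 : G)⁻¹ := by
      calc (q.1 : G)⁻¹ * p.1 = (q.1 : G)⁻¹ * (p.1 * p.2) * (p.2 : G)⁻¹ := by group
        _ = _ := by rw [e']; group
    have h2 : (q.1 : G)⁻¹ * p.1 = 1 := inf_eq_bot_of_odd (Oc_odd z) (isPGroup_of_sq D.eA)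
      (mul_mem (inv_mem q.1.2.1.1) p.1.2.1.1) (h1 ▸ mul_mem q.2.2 (inv_mem p.2.2))
    have h3 : (p.1 : G) = q.1 := (inv_mul_eq_one.1 h2).symm
    rw [h3] at e'
    exact Prod.ext (Subtype.ext h3) (Subtype.ext (mul_left_cancel e'))
  · rintro ⟨g, ⟨hga, hgz⟩, hgX⟩
    obtain ⟨o, ho, x, hx, hoa, rfl⟩ :=
      D.cza_decomp hz hz1 ha haB hgz (mem_centralizer_singleton_iff.1 hga)
    exact ⟨⟨⟨o, ⟨ho, mem_centralizer_singleton_iff.2 hoa⟩, (mul_mem_cancel_right (hAX hx)).1 hgX⟩, ⟨x, hx⟩⟩, rfl⟩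

theorem card_cent_aZ {a z w : G} (hz : z ∈ A ⊓ B) (hz1 : z ≠ 1) (hw : w ∈ A ⊓ B) (ha : a ∈ A) (haB : a ∉ B) :
    Nat.card (centralizer ({a} : Set G) ⊓ centralizer ({z} : Set G) ⊓ centralizer ({w} : Set G) : Subgroup G) =
      16 * Nat.card (Oc z ⊓ centralizer ({a} : Set G) ⊓ centralizer ({w} : Set G) : Subgroup G) :=
  D.card_cent_az hz hz1 ha haB _ fun x hx => D.le_cent hw (D.hA hx)

theorem card_cent_az' {a z : G} (hz : z ∈ A ⊓ B) (hz1 : z ≠ 1) (ha : a ∈ A) (haB : a ∉ B) :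
    Nat.card (centralizer ({a} : Set G) ⊓ centralizer ({z} : Set G) : Subgroup G) =
      16 * Nat.card (Oc z ⊓ centralizer ({a} : Set G) : Subgroup G) := by
  simpa using D.card_cent_az hz hz1 ha haB ⊤ le_top

/-- The centralizer of a moving involution against the centralizers of the central ones. -/
theorem moving_quot (hA : ¬ Fus A B) {a z w : G} (ha : a ∈ A) (haB : a ∉ B) (hmv : Moves A B a)
    (hz : z ∈ A ⊓ B) (hz1 : z ≠ 1) (hw : w ∈ A ⊓ B) (hw1 : w ≠ 1) (hzw : z ≠ w) :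
    3 * Nat.card (centralizer ({a} : Set G) ⊓ centralizer ({z} : Set G) : Subgroup G) ^ 3 ≤
        Nat.card (centralizer ({a} : Set G)) * Nat.card (centralizer ({a} : Set G) ⊓ centralizer ({z} : Set G) ⊓
          centralizer ({w} : Set G) : Subgroup G) ^ 2 ∧
      (3 * Nat.card (centralizer ({a} : Set G) ⊓ centralizer ({z} : Set G) : Subgroup G) ^ 3 =
          Nat.card (centralizer ({a} : Set G)) * Nat.card (centralizer ({a} : Set G) ⊓ centralizer ({z} : Set G) ⊓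
            centralizer ({w} : Set G) : Subgroup G) ^ 2 →
        (∀ g ∈ centralizer ({a} : Set G), g * z = z * g → Odd (orderOf g) → g ∈ Oc a) ∧
          ∀ g ∈ centralizer ({a} : Set G), ∃ o ∈ Oc a, ∃ n ∈ normalizer (A : Set G), g = o * n) := by
  classical
  haveI : Fact (Nat.Prime 2) := ⟨Nat.prime_two⟩
  obtain ⟨n₀, hn₀, hna₀, hmove⟩ := id hmv
  obtain ⟨U, hUA, hU4, -, hUB, hfix⟩ := D.symm.fixed_four hA ha haB hn₀ hna₀
    (fun v hv => hmove v ((inf_comm B A).le hv))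
  set C := centralizer ({a} : Set G) with hC
  have hAC : A ≤ C := fun x hx => mem_centralizer_singleton_iff.2 (comm_of_sq D.eA hx ha)
  set O := Cfsg.oddCore C with hOdef
  haveI hOn : O.Normal := ocore_normal
  set U' := U.subgroupOf C
  have hUC : U ≤ C := hUA.trans hAC
  -- `U` is central modulo the core
  have hUcen : ∀ u ∈ U', ∀ g : C, u * g * u⁻¹ * g⁻¹ ∈ O := by
    intro u hu g
    by_cases hu1 : u = 1
    · subst hu1; simp
    exact IsoApps.comm_mem_oddCore (D.isolated_fixed hA ha haB (hUA hu)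
      (fun e => hu1 (Subtype.ext e)) (hfix _ hu)) g
  set N := O ⊔ U'
  have hNmem : ∀ x ∈ N, ∃ o ∈ O, ∃ u ∈ U', x = o * u := fun x hx => by
    rw [← SetLike.mem_coe, Subgroup.normal_mul] at hx
    obtain ⟨o, ho, u, hu, rfl⟩ := hx
    exact ⟨o, ho, u, hu, rfl⟩
  haveI hN : N.Normal := ⟨fun x hx g => by
    obtain ⟨o, ho, u, hu, rfl⟩ := hNmem x hx
    rw [show g * (o * u) * g⁻¹ = g * o * g⁻¹ * (u * g * u⁻¹ * g⁻¹)⁻¹ * u by group]
    exact mul_mem (mul_mem (mem_sup_left (hOn.conj_mem o ho g)) (mem_sup_left (inv_mem (hUcen u hu g))))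
      (mem_sup_right hu)⟩
  have hOA : ∀ x ∈ O, (x : G) ∈ A → x = 1 := fun x hx hxA =>
    inf_eq_bot_of_odd ocore_odd ((isPGroup_of_sq D.eA).comap_subtype (K := C)) hx hxA
  have hNA : ∀ x ∈ N, (x : G) ∈ A → (x : G) ∈ U := by
    intro x hx hxA
    obtain ⟨o, ho, u, hu, rfl⟩ := hNmem x hx
    rw [hOA o ho ((mul_mem_cancel_right (hUA hu)).1 hxA), one_mul]
    exact hu
  -- the four-group
  obtain ⟨P₀, hP₀⟩ := D.sylowA hA ha haB
  set q := QuotientGroup.mk' N
  have hq : Function.Surjective q := QuotientGroup.mk'_surjective N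
  set P := P₀.mapSurjective hq
  have hqker : ∀ x : C, q x = 1 ↔ x ∈ N := fun x => QuotientGroup.eq_one_iff x
  set zC : (A ⊓ B : Subgroup G) → C := fun v => ⟨v, hAC v.2.1⟩
  have hzP : ∀ v, q (zC v) ∈ (P : Subgroup (C ⧸ N)) := fun v =>
    mem_map_of_mem q (show zC v ∈ (P₀ : Subgroup C) by rw [hP₀]; exact v.2.1)
  have hinj : ∀ v v', q (zC v) = q (zC v') → v = v' := by
    intro v v' e
    have h1 : (zC v)⁻¹ * zC v' ∈ N := QuotientGroup.eq.1 e
    have h2 : (v : G)⁻¹ * v' ∈ U := hNA _ h1 (mul_mem (inv_mem v.2.1) v'.2.1)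
    exact Subtype.ext (inv_mul_eq_one.1 (hUB _ h2 (mul_mem (inv_mem v.2.2) v'.2.2)))
  have hsurP : ∀ p ∈ (P : Subgroup (C ⧸ N)), ∃ v, q (zC v) = p := by
    rintro _ ⟨x, hx, rfl⟩
    rw [hP₀] at hx
    let f : U × (A ⊓ B : Subgroup G) → A := fun p => ⟨p.1 * p.2, mul_mem (hUA p.1.2) p.2.2.1⟩
    have hf : Function.Injective f := by
      intro p p' e
      have e' : (p.1 : G) * p.2 = p'.1 * p'.2 := congrArg Subtype.val e
      have h1 : (p'.1 : G)⁻¹ * p.1 = p'.2 * (p.2 : G)⁻¹ := by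
        calc (p'.1 : G)⁻¹ * p.1 = (p'.1 : G)⁻¹ * (p.1 * p.2) * (p.2 : G)⁻¹ := by group
          _ = _ := by rw [e']; group
      have h2 := hUB _ (mul_mem (inv_mem p'.1.2) p.1.2) (h1 ▸ mul_mem p'.2.2.2 (inv_mem p.2.2.2))
      have h3 : (p.1 : G) = p'.1 := (inv_mul_eq_one.1 h2).symm
      rw [h3] at e'
      exact Prod.ext (Subtype.ext h3) (Subtype.ext (mul_left_cancel e'))
    have hfb := hf.bijective_of_nat_card_le (by rw [Nat.card_prod, hU4, D.cI, D.cA])
    obtain ⟨⟨u, v⟩, huv⟩ := hfb.2 ⟨x, hx⟩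
    refine ⟨v, ?_⟩
    have hxe : x = (⟨u, hUC u.2⟩ : C) * zC v := Subtype.ext (congrArg Subtype.val huv).symm
    rw [hxe, map_mul, (hqker ⟨u, hUC u.2⟩).2 (mem_sup_right (show (⟨u, hUC u.2⟩ : C) ∈ U' from u.2)), one_mul]
  have hP4 : Nat.card (P : Subgroup (C ⧸ N)) = 4 := by
    rw [← D.cI]
    exact (Nat.card_eq_of_bijective (fun v => (⟨_, hzP v⟩ : (P : Subgroup (C ⧸ N))))
      ⟨fun v v' e => hinj v v' (congrArg Subtype.val e),
        fun ⟨p, hp⟩ => (hsurP p hp).imp fun v h => Subtype.ext h⟩).symm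
  have hPsq : ∀ p ∈ (P : Subgroup (C ⧸ N)), p * p = 1 := by
    intro p hp
    obtain ⟨v, rfl⟩ := hsurP p hp
    rw [← map_mul, show zC v * zC v = 1 from Subtype.ext (D.eA v v.2.1), map_one]
  have hKF : IsKleinFour (P : Subgroup (C ⧸ N)) := by
    haveI : Nontrivial (P : Subgroup (C ⧸ N)) := Finite.one_lt_card_iff_nontrivial.1 (by omega)
    exact ⟨hP4, Monoid.exponent_eq_prime_iff Nat.prime_two |>.2 fun g hg =>
      Invol.orderOf_eq_two (Subtype.ext (hPsq g g.2)) hg⟩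
  have hzne : ∀ {v : G} (hv : v ∈ A ⊓ B), v ≠ 1 → q (zC ⟨v, hv⟩) ≠ 1 := fun {v} hv hv1 e =>
    hv1 (congrArg Subtype.val (hinj ⟨v, hv⟩ 1 (e.trans (map_one q).symm)))
  have hone : ∀ s t : C ⧸ N, orderOf s = 2 → orderOf t = 2 → IsConj s t := by
    suffices h : ∀ s : C ⧸ N, orderOf s = 2 → IsConj (q (zC ⟨z, hz⟩)) s from
      fun s t hs ht => (h s hs).symm.trans (h t ht)
    intro s hs
    obtain ⟨g, hg⟩ := exists_conj_mem P (Invol.mul_self_eq_one hs)
    obtain ⟨⟨v, hv⟩, hv'⟩ := hsurP _ hg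
    have hv1 : v ≠ 1 := by
      rintro rfl
      have h1 : g * s * g⁻¹ = 1 := hv'.symm.trans (map_one q)
      exact Invol.ne_one hs (conj_eq_one_iff.1 h1)
    obtain ⟨n, -, hna, e⟩ := D.moves_trans hA ha haB hmv hz hz1 hv hv1
    refine (isConj_iff.2 ⟨q ⟨n, mem_centralizer_singleton_iff.2 hna⟩, ?_⟩).trans (isConj_iff.2 ⟨g, rfl⟩).symm
    rw [← hv', ← map_mul, ← map_inv, ← map_mul]
    exact congrArg q (Subtype.ext e)
  have hO : Cfsg.oddCore (C ⧸ N) = ⊥ := by
    rw [eq_bot_iff]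
    intro v hv
    obtain ⟨x, rfl⟩ := hq v
    rw [mem_bot, hqker]
    haveI : (Cfsg.oddCore (C ⧸ N)).Normal := ocore_normal
    set L := (Cfsg.oddCore (C ⧸ N)).comap q
    have hNL : N ≤ L := fun y hy => by rw [mem_comap, (hqker y).2 hy]; exact one_mem _
    have hU2 : IsPGroup 2 (U'.subgroupOf L) :=
      ((isPGroup_of_sq fun u hu => D.eA u (hUA hu)).comap_subtype).comap_subtype
    obtain ⟨Q, hQ⟩ := hU2.exists_le_sylow
    have hQU : ∀ y ∈ (Q : Subgroup L), (y : C) ∈ U' := by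
      intro y hy
      obtain ⟨k, hk⟩ := Q.2 ⟨y, hy⟩
      have hk' : (y : L) ^ 2 ^ k = 1 := congrArg Subtype.val hk
      have hp : q (y : C) = 1 := by
        refine eq_one_odd_two (k := k) (odd_orderOf_of_mem ocore_odd y.2) ?_
        rw [← map_pow, show ((y : C)) ^ 2 ^ k = 1 from congrArg Subtype.val hk', map_one]
      obtain ⟨o, ho, u, hu, e⟩ := hNmem _ ((hqker _).1 hp)
      have huQ : (⟨u, hNL (mem_sup_right hu)⟩ : L) ∈ (Q : Subgroup L) := hQ hu
      have e' : y = ⟨o, hNL (mem_sup_left ho)⟩ * ⟨u, hNL (mem_sup_right hu)⟩ := Subtype.ext e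
      rw [e'] at hy
      have : o = 1 := inf_eq_bot_of_odd ocore_odd (Q.2.map L.subtype) ho ⟨_, (mul_mem_cancel_right huQ).1 hy, rfl⟩
      rw [e, this, one_mul]
      exact hu
    obtain ⟨h1, -⟩ := twoNil Q (fun n hn => mem_centralizer_iff.2 fun y hy => Subtype.ext (by
      have hy' := hQU y hy
      have hny := hQU _ (conj_mem_of_normalizer hn hy)
      have h2 : (n : C) * (y : C) * (n : C)⁻¹ * (y : C)⁻¹ = 1 := by
        refine hOA _ ?_ (mul_mem (hUA hny) (inv_mem (hUA hy')))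
        have := inv_mem (hUcen _ hy' (n : C))
        rwa [show ((y : C) * (n : C) * (y : C)⁻¹ * (n : C)⁻¹)⁻¹ = (n : C) * (y : C) * (n : C)⁻¹ * (y : C)⁻¹ by
          group] at this
      exact (mul_inv_eq_iff_eq_mul.1 (mul_inv_eq_one.1 h2)).symm))
    obtain ⟨o, ho, p, hp, e⟩ := h1 ⟨x, hv⟩
    have hle : (Cfsg.oddCore L).map L.subtype ≤ O := by
      haveI : L.Normal := Normal.comap inferInstance q
      refine le_ocore (normalizer_eq_top_iff.1 (top_le_iff.1 ?_))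
        (by rw [card_map_of_injective L.subtype_injective]; exact ocore_odd)
      exact (normalizer_eq_top_iff.2 (inferInstance : L.Normal)).ge.trans
        (LocalBalance.normalizer_le_normalizer_core (p := 2) L)
    rw [show x = (o : C) * p from congrArg Subtype.val e]
    exact mul_mem (mem_sup_left (hle ⟨o, ho, rfl⟩)) (mem_sup_right (hQU p hp))
  -- images of centralizers
  set Cz : Subgroup C := centralizer ({zC ⟨z, hz⟩} : Set C)
  set Cw : Subgroup C := centralizer ({zC ⟨w, hw⟩} : Set C)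
  have hz2 : orderOf z = 2 := D.orderA hz.1 hz1
  have hL1 : ∀ (v : G) (hv : v ∈ A ⊓ B), v ≠ 1 → ∀ (M : Subgroup C) (g o u : C), M ≤ O → o ∈ M → u ∈ U' →
      g * zC ⟨v, hv⟩ * g⁻¹ * zC ⟨v, hv⟩ = o * u →
      ∃ o' ∈ M, o' * zC ⟨v, hv⟩ * o'⁻¹ = g * zC ⟨v, hv⟩ * g⁻¹ := by
    intro v hv hv1 M g o u hM ho hu e
    set t := g * zC ⟨v, hv⟩ * g⁻¹ with ht
    set x := u * zC ⟨v, hv⟩ with hx
    have hv2 : zC ⟨v, hv⟩ * zC ⟨v, hv⟩ = 1 := Subtype.ext (D.eA v hv.1)
    have hvne : zC ⟨v, hv⟩ ≠ 1 := fun e' => hv1 (congrArg Subtype.val e')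
    have hxA : (x : G) ∈ A := mul_mem (hUA hu) hv.1
    have hx2 : x * x = 1 := Subtype.ext (D.eA _ hxA)
    have hx1 : x ≠ 1 := fun e' => by
      have : (v : G) ∈ U := by
        have h1 := inv_mem (show (u : G) ∈ U from hu)
        have h2 : (v : G) = (u : G)⁻¹ := eq_inv_of_mul_eq_one_right (congrArg Subtype.val e')
        rw [h2]; exact h1
      exact hv1 (hUB v this hv.2)
    have hmem : t * x ∈ M := by
      have h1 : t = o * u * (zC ⟨v, hv⟩)⁻¹ := eq_mul_inv_of_mul_eq e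
      rw [inv_eq_of_sq hv2] at h1
      rw [h1, mul_assoc o u, ← hx, mul_assoc, hx2, mul_one]
      exact ho
    obtain ⟨o', ho', e'⟩ : ∃ o' ∈ M, o' * x * o'⁻¹ = t :=
      exists_conj_mod (Odd.of_dvd_nat ocore_odd (card_dvd_of_le hM))
      (Invol.orderOf_eq_two hx2 hx1) (Invol.orderOf_eq_two (conj_sq g _ hv2) fun h => hvne (conj_eq_one_iff.1 h)) hmem
    have hu1 : u = 1 := by
      have hc : IsConj v (x : G) := isConj_iff.2 ⟨((o'⁻¹ * g : C) : G), by
        rw [show (x : G) = ((o'⁻¹ * t * o' : C) : G) by rw [← e']; group, ht]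
        push_cast [zC]
        group⟩
      have h2 : (u : G) ∈ B := by
        have := mem_inf.1 (D.not_zne hA hxA hv hc)
        exact (mul_mem_cancel_right (H := B) (mem_inf.1 hv).2).1 this.2
      exact Subtype.ext (hUB _ hu h2)
    refine ⟨o', ho', ?_⟩
    rw [← e', hx, hu1, one_mul]
  have hCz : Cz.map q = centralizer ({q (zC ⟨z, hz⟩)} : Set (C ⧸ N)) := by
    refine le_antisymm ?_ fun v hv => ?_
    · rintro _ ⟨g, hg, rfl⟩
      refine mem_centralizer_singleton_iff.2 ?_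
      rw [← map_mul, mem_centralizer_singleton_iff.1 hg, map_mul]
    obtain ⟨g, rfl⟩ := hq v
    have h1 : g * zC ⟨z, hz⟩ * g⁻¹ * zC ⟨z, hz⟩ ∈ N := by
      rw [← hqker, map_mul, map_mul, map_mul, map_inv, mem_centralizer_singleton_iff.1 hv, mul_inv_cancel_right,
        ← map_mul, show zC ⟨z, hz⟩ * zC ⟨z, hz⟩ = 1 from Subtype.ext (D.eA z hz.1), map_one]
    obtain ⟨o, ho, u, hu, e⟩ := hNmem _ h1
    obtain ⟨o', ho', e'⟩ := hL1 z hz hz1 O g o u le_rfl ho hu e
    refine ⟨o'⁻¹ * g, mem_centralizer_singleton_iff.2 ?_, by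
      rw [map_mul, map_inv, (hqker o').2 (mem_sup_left ho'), inv_one, one_mul]⟩
    calc o'⁻¹ * g * zC ⟨z, hz⟩ = o'⁻¹ * (g * zC ⟨z, hz⟩ * g⁻¹) * g := by group
      _ = zC ⟨z, hz⟩ * (o'⁻¹ * g) := by rw [← e']; group
  have hCw : (Cz ⊓ Cw).map q = centralizer ((P : Subgroup (C ⧸ N)) : Set (C ⧸ N)) := by
    refine le_antisymm ?_ fun v hv => ?_
    · rintro _ ⟨g, ⟨hgz, hgw⟩, rfl⟩
      refine mem_centralizer_iff.2 fun p hp => ?_
      obtain ⟨⟨y, hy⟩, rfl⟩ := hsurP p hp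
      rw [← map_mul, ← map_mul]
      congr 1
      refine Subtype.ext ?_
      have e1 : (g : G) * z = z * g := congrArg Subtype.val (mem_centralizer_singleton_iff.1 hgz)
      have e2 : (g : G) * w = w * g := congrArg Subtype.val (mem_centralizer_singleton_iff.1 hgw)
      show y * (g : G) = (g : G) * y
      rcases D.exists_third hz hw hz1 hw1 hzw hy with rfl | rfl | rfl | rfl
      · simp
      · exact e1.symm
      · exact e2.symm
      · exact ((show Commute (g : G) z from e1).mul_right (show Commute (g : G) w from e2)).eq.symm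
    have hvz : v ∈ centralizer ({q (zC ⟨z, hz⟩)} : Set (C ⧸ N)) :=
      mem_centralizer_singleton_iff.2 (mem_centralizer_iff.1 hv _ (hzP ⟨z, hz⟩)).symm
    rw [← hCz] at hvz
    obtain ⟨g, hg, rfl⟩ := hvz
    have h1 : g * zC ⟨w, hw⟩ * g⁻¹ * zC ⟨w, hw⟩ ∈ N := by
      rw [← hqker, map_mul, map_mul, map_mul, map_inv, ← mem_centralizer_iff.1 hv _ (hzP ⟨w, hw⟩),
        mul_inv_cancel_right, ← map_mul, show zC ⟨w, hw⟩ * zC ⟨w, hw⟩ = 1 from Subtype.ext (D.eA w hw.1), map_one]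
    obtain ⟨o, ho, u, hu, e⟩ := hNmem _ h1
    have hcomm : ∀ (y : G) (hy : y ∈ A), (⟨y, hAC hy⟩ : C) ∈ Cz := fun y hy =>
      mem_centralizer_singleton_iff.2 (Subtype.ext (comm_of_sq D.eA hy hz.1))
    have hoz : o ∈ O ⊓ Cz := by
      refine ⟨ho, ?_⟩
      have h2 : o = g * zC ⟨w, hw⟩ * g⁻¹ * zC ⟨w, hw⟩ * u⁻¹ := by rw [e]; group
      have hg' : g ∈ Cz := hg
      show o ∈ Cz
      rw [h2]
      exact mul_mem (mul_mem (mul_mem (mul_mem hg' (hcomm w (mem_inf.1 hw).1)) (inv_mem hg')) (hcomm w (mem_inf.1 hw).1))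
        (inv_mem (hcomm u (hUA hu)))
    obtain ⟨o', ho', e'⟩ := hL1 w hw hw1 (O ⊓ Cz) g o u inf_le_left hoz hu e
    refine ⟨o'⁻¹ * g, mem_inf.2 ⟨mul_mem (inv_mem (mem_inf.1 ho').2) hg, mem_centralizer_singleton_iff.2 ?_⟩, by
      rw [map_mul, map_inv, (hqker o').2 (mem_sup_left (mem_inf.1 ho').1), inv_one, one_mul]⟩
    calc o'⁻¹ * g * zC ⟨w, hw⟩ = o'⁻¹ * (g * zC ⟨w, hw⟩ * g⁻¹) * g := by group
      _ = zC ⟨w, hw⟩ * (o'⁻¹ * g) := by rw [← e']; group
  -- kernels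
  have hker : ∀ X : Subgroup C, U' ≤ X → Nat.card (q.ker ⊓ X : Subgroup C) = 4 * Nat.card (O ⊓ X : Subgroup C) := by
    intro X hX
    rw [QuotientGroup.ker_mk', ← hU4, ← Nat.card_congr (subgroupOfEquivOfLe hUC).toEquiv, mul_comm, ← Nat.card_prod]
    refine (Nat.card_eq_of_bijective (fun p : (O ⊓ X : Subgroup C) × U' => (⟨p.1 * p.2,
      mem_inf.2 ⟨mul_mem (mem_sup_left p.1.2.1) (mem_sup_right p.2.2), mul_mem p.1.2.2 (hX p.2.2)⟩⟩ :
      (N ⊓ X : Subgroup C))) ⟨?_, ?_⟩).symm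
    · intro p p' e
      have e' : (p.1 : C) * p.2 = p'.1 * p'.2 := congrArg Subtype.val e
      have h1 : (p'.1 : C)⁻¹ * p.1 = p'.2 * (p.2 : C)⁻¹ := by
        calc (p'.1 : C)⁻¹ * p.1 = (p'.1 : C)⁻¹ * (p.1 * p.2) * (p.2 : C)⁻¹ := by group
          _ = _ := by rw [e']; group
      have h2 := hOA _ (mul_mem (inv_mem p'.1.2.1) p.1.2.1) (h1 ▸ mul_mem (hUA p'.2.2) (inv_mem (hUA p.2.2)))
      have h3 : (p.1 : C) = p'.1 := (inv_mul_eq_one.1 h2).symm
      rw [h3] at e'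
      exact Prod.ext (Subtype.ext h3) (Subtype.ext (mul_left_cancel e'))
    · rintro ⟨x, hxN, hxX⟩
      obtain ⟨o, ho, u, hu, rfl⟩ := hNmem x hxN
      exact ⟨⟨⟨o, ho, (mul_mem_cancel_right (hX hu)).1 hxX⟩, ⟨u, hu⟩⟩, rfl⟩
  have hUz : U' ≤ Cz := fun u hu => mem_centralizer_singleton_iff.2 (Subtype.ext (comm_of_sq D.eA (hUA hu) hz.1))
  have hUw : U' ≤ Cw := fun u hu => mem_centralizer_singleton_iff.2 (Subtype.ext (comm_of_sq D.eA (hUA hu) hw.1))
  have hx := card_map_mul q (⊤ : Subgroup C)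
  rw [map_top_of_surjective q hq, card_top, card_top, hker ⊤ le_top, inf_top_eq] at hx
  have hy := card_map_mul q Cz
  rw [hCz, hker Cz hUz] at hy
  have hw' := card_map_mul q (Cz ⊓ Cw)
  rw [hCw, hker _ (le_inf hUz hUw)] at hw'
  -- centralizers in `C`
  have hsub : ∀ v : (A ⊓ B : Subgroup G),
      (centralizer ({zC v} : Set C)).map C.subtype = C ⊓ centralizer ({(v : G)} : Set G) := by
    intro v
    ext g
    constructor
    · rintro ⟨x, hx, rfl⟩
      exact ⟨x.2, mem_centralizer_singleton_iff.2 (congrArg Subtype.val (mem_centralizer_singleton_iff.1 hx))⟩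
    · rintro ⟨hg, hgv⟩
      exact ⟨⟨g, hg⟩, mem_centralizer_singleton_iff.2 (Subtype.ext (mem_centralizer_singleton_iff.1 hgv)), rfl⟩
  have hcz : Nat.card Cz = Nat.card (C ⊓ centralizer ({z} : Set G) : Subgroup G) := by
    rw [← hsub ⟨z, hz⟩, card_map_of_injective C.subtype_injective]
  have hcw : Nat.card (Cz ⊓ Cw : Subgroup C) =
      Nat.card (C ⊓ centralizer ({z} : Set G) ⊓ centralizer ({w} : Set G) : Subgroup G) := by
    rw [Nat.card_congr ((Cz ⊓ Cw).equivMapOfInjective C.subtype C.subtype_injective).toEquiv,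
      map_inf _ _ _ C.subtype_injective,
      hsub ⟨z, hz⟩, hsub ⟨w, hw⟩]
    congr 2
    exact le_antisymm (le_inf inf_le_left (inf_le_right.trans inf_le_right))
      (le_inf inf_le_left (le_inf (inf_le_left.trans inf_le_left) inf_le_right))
  -- the order formula on the core
  have hWiel : Nat.card O * Nat.card (O ⊓ (Cz ⊓ Cw) : Subgroup C) ^ 2 =
      Nat.card (O ⊓ Cz : Subgroup C) ^ 3 := by
    set E := (A ⊓ B : Subgroup G).subgroupOf C
    have hEC : (A ⊓ B : Subgroup G) ≤ C := inf_le_left.trans hAC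
    have hE4 : Nat.card E = 2 ^ 2 := by rw [Nat.card_congr (subgroupOfEquivOfLe hEC).toEquiv, D.cI]; rfl
    have hel : Cfsg.IsElementaryAbelian 2 E :=
      ⟨⟨⟨fun x y => Subtype.ext (Subtype.ext (comm_of_sq D.eA x.2.1 y.2.1))⟩⟩,
        fun x hx => Subtype.ext (by push_cast; rw [sq]; exact D.eA x hx.1)⟩
    have h := Signalizer.wielandt hel hE4 (K := O) (ocore_odd.not_two_dvd_nat)
      ((normalizer_eq_top_iff.2 hOn).symm ▸ le_top)
    have hzw' : z * w ∈ A ⊓ B := mul_mem hz hw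
    have hzw1 : z * w ≠ 1 := fun e => hzw (by
      rw [← inv_eq_of_sq (D.eA z hz.1)]; exact inv_eq_of_mul_eq_one_right e)
    set e₁ := zC ⟨z, hz⟩ with he₁
    set e₂ := zC ⟨w, hw⟩ with he₂
    set e₃ := zC ⟨z * w, hzw'⟩ with he₃
    have hlines : Signalizer.lines 2 E = ({zpowers e₁, zpowers e₂, zpowers e₃} : Finset (Subgroup C)) := by
      ext X
      rw [Signalizer.mem_lines]
      simp only [Finset.mem_insert, Finset.mem_singleton]
      constructor
      · rintro ⟨hXE, hX2⟩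
        haveI : Nontrivial X := Finite.one_lt_card_iff_nontrivial.1 (by omega)
        obtain ⟨⟨x, hxX⟩, hx1⟩ := exists_ne (1 : X)
        have hxne : x ≠ 1 := fun e => hx1 (Subtype.ext e)
        have hXeq : X = zpowers x := (eq_of_le_of_card_ge (zpowers_le.2 hxX) (by
          rw [hX2, Nat.card_zpowers, Invol.orderOf_eq_two (Subtype.ext (D.eA x (hXE hxX).1)) hxne])).symm
        rcases D.exists_third hz hw hz1 hw1 hzw (hXE hxX) with e | e | e | e
        · exact absurd (Subtype.ext e) hxne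
        · left; rw [hXeq, show x = e₁ from Subtype.ext e]
        · right; left; rw [hXeq, show x = e₂ from Subtype.ext e]
        · right; right; rw [hXeq, show x = e₃ from Subtype.ext e]
      · have hgen : ∀ (v : G) (hv : v ∈ A ⊓ B), v ≠ 1 →
            zpowers (zC ⟨v, hv⟩) ≤ E ∧ Nat.card (zpowers (zC ⟨v, hv⟩)) = 2 := fun v hv hv1 =>
          ⟨zpowers_le.2 hv, by
            rw [Nat.card_zpowers, Invol.orderOf_eq_two (Subtype.ext (D.eA v hv.1)) fun e => hv1 (congrArg Subtype.val e)]⟩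
        rintro (rfl | rfl | rfl)
        · exact hgen z hz hz1
        · exact hgen w hw hw1
        · exact hgen _ hzw' hzw1
    have hne : ∀ v v' : (A ⊓ B : Subgroup G), (v : G) ≠ 1 → v ≠ v' → zpowers (zC v) ≠ zpowers (zC v') := by
      intro v v' hv1 hvv' e
      obtain ⟨k, hk⟩ := mem_zpowers_iff.1 (e ▸ mem_zpowers (zC v) : zC v ∈ zpowers (zC v'))
      have hv'2 : (v' : G) ^ (2 : ℤ) = 1 := by rw [zpow_two]; exact D.eA v' v'.2.1
      have hk' : (v' : G) ^ k = v := congrArg Subtype.val hk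
      rcases Int.even_or_odd k with ⟨j, rfl⟩ | ⟨j, rfl⟩
      · exact hv1 (by rw [← hk', ← two_mul, zpow_mul, hv'2, one_zpow])
      · exact hvv' (Subtype.ext (by rw [← hk', zpow_add, zpow_mul, hv'2, one_zpow, one_mul, zpow_one]))
    have h12 : zpowers e₁ ∉ ({zpowers e₂, zpowers e₃} : Finset (Subgroup C)) := by
      simp only [Finset.mem_insert, Finset.mem_singleton, not_or]
      exact ⟨hne _ _ hz1 fun e => hzw (congrArg Subtype.val e),
        hne _ _ hz1 fun e => hw1 (mul_eq_left.1 (congrArg Subtype.val e).symm)⟩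
    have h23 : zpowers e₂ ∉ ({zpowers e₃} : Finset (Subgroup C)) := by
      simp only [Finset.mem_singleton]
      exact hne _ _ hw1 fun e => hz1 (mul_eq_right.1 (congrArg Subtype.val e).symm)
    have hcz' : ∀ x : C, centralizer ((zpowers x : Subgroup C) : Set C) = centralizer ({x} : Set C) := fun x => by
      rw [zpowers_eq_closure, centralizer_closure]
    have hsame : ∀ (v : G) (hv : v ∈ A ⊓ B), v ≠ 1 →
        Nat.card (O ⊓ centralizer ({zC ⟨v, hv⟩} : Set C) : Subgroup C) = Nat.card (O ⊓ Cz : Subgroup C) := by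
      intro v hv hv1
      obtain ⟨n, -, hna, e⟩ := D.moves_trans hA ha haB hmv hz hz1 hv hv1
      have hne' : (⟨n, mem_centralizer_singleton_iff.2 hna⟩ : C) * zC ⟨z, hz⟩ *
          (⟨n, mem_centralizer_singleton_iff.2 hna⟩ : C)⁻¹ = zC ⟨v, hv⟩ := Subtype.ext e
      rw [← card_cj (⟨n, mem_centralizer_singleton_iff.2 hna⟩ : C) (O ⊓ Cz), cj,
        map_inf _ _ _ (MulAut.conj _).injective]
      show _ = Nat.card (cj _ O ⊓ cj _ Cz : Subgroup C)
      rw [cj_centralizer, hne', cj_of_mem_normalizer (by rw [normalizer_eq_top_iff.2 hOn]; exact mem_top _)]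
    have hEcent : O ⊓ centralizer ((E : Subgroup C) : Set C) = O ⊓ (Cz ⊓ Cw) := by
      refine le_antisymm (inf_le_inf_left _ (le_inf (centralizer_le ?_) (centralizer_le ?_)))
        (inf_le_inf_left _ fun g hg => mem_centralizer_iff.2 fun y hy => ?_)
      · simp only [Set.singleton_subset_iff]; exact hz
      · simp only [Set.singleton_subset_iff]; exact hw
      have c1 : Commute g e₁ := mem_centralizer_singleton_iff.1 hg.1
      have c2 : Commute g e₂ := mem_centralizer_singleton_iff.1 hg.2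
      rcases D.exists_third hz hw hz1 hw1 hzw (show ((y : C) : G) ∈ A ⊓ B from hy) with e | e | e | e
      · rw [show y = 1 from Subtype.ext e, one_mul, mul_one]
      · rw [show y = e₁ from Subtype.ext e]; exact c1.eq.symm
      · rw [show y = e₂ from Subtype.ext e]; exact c2.eq.symm
      · rw [show y = e₁ * e₂ from Subtype.ext e]; exact (c1.mul_right c2).eq.symm
    rw [hlines, Finset.prod_insert h12, Finset.prod_insert h23, Finset.prod_singleton,
      Finset.card_insert_of_notMem h12, Finset.card_insert_of_notMem h23, Finset.card_singleton, hcz', hcz', hcz',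
      hsame w hw hw1, hsame _ hzw' hzw1, hEcent] at h
    rw [← h]
    ring
  have hoz : 0 < Nat.card (O ⊓ Cz : Subgroup C) := Nat.card_pos
  obtain ⟨hb, he⟩ := char_four P hKF hone (hzP ⟨z, hz⟩)
    (Invol.orderOf_eq_two (hPsq _ (hzP ⟨z, hz⟩)) (hzne hz hz1)) hO
  set k := Nat.card (C ⧸ N)
  set c := Nat.card (centralizer ({q (zC ⟨z, hz⟩)} : Set (C ⧸ N))) with hcdef
  set d := Nat.card (centralizer ((P : Subgroup (C ⧸ N)) : Set (C ⧸ N)))
  set oz := Nat.card (O ⊓ Cz : Subgroup C)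
  set oW := Nat.card (O ⊓ (Cz ⊓ Cw) : Subgroup C)
  rw [← hcz, ← hcw, ← hx, ← hy, ← hw']
  have key : k * (4 * Nat.card O) * (d * (4 * oW)) ^ 2 = 64 * oz ^ 3 * (k * d ^ 2) := by
    calc k * (4 * Nat.card O) * (d * (4 * oW)) ^ 2 = 64 * (Nat.card O * oW ^ 2) * (k * d ^ 2) := by ring
      _ = _ := by rw [hWiel]
  have key' : 3 * (c * (4 * oz)) ^ 3 = 64 * oz ^ 3 * (3 * c ^ 3) := by ring
  rw [key, key']
  refine ⟨Nat.mul_le_mul_left _ hb, fun h => ?_⟩
  have heq : 3 * c ^ 3 = k * d ^ 2 := Nat.eq_of_mul_eq_mul_left (by positivity) h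
  have hc4 : c = 4 := he heq
  refine ⟨fun g hg hgz hgo => ?_, fun g hg => ?_⟩
  swap
  · have hPle : (P : Subgroup (C ⧸ N)) ≤ centralizer ((P : Subgroup (C ⧸ N)) : Set (C ⧸ N)) := fun p hp =>
      mem_centralizer_iff.2 fun p' hp' => comm_of_sq hPsq hp' hp
    have hd4 : d = 4 := by
      refine le_antisymm ?_ (hP4 ▸ card_le_of_le hPle)
      refine le_trans (card_le_of_le fun x hx => ?_) hc4.le
      exact mem_centralizer_singleton_iff.2 (mem_centralizer_iff.1 hx _ (hzP ⟨z, hz⟩)).symm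
    have hk12 : k = 12 := by rw [hc4, hd4] at heq; omega
    set NA := normalizer ((A.subgroupOf C : Subgroup C) : Set C)
    have hPL : (P : Subgroup (C ⧸ N)) ≤ NA.map q := map_mono (hP₀.le.trans le_normalizer)
    set n₁ : C := ⟨n₀, mem_centralizer_singleton_iff.2 hna₀⟩
    have hn₁ : n₁ ∈ NA := mem_normalizer_of_conj_mem fun x hx => by
      show n₀ * (x : G) * n₀⁻¹ ∈ A
      exact conj_mem_of_normalizer hn₀ hx
    have hn₁P : q n₁ ∉ (P : Subgroup (C ⧸ N)) := fun hmem => by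
      have h1 := comm_of_sq hPsq hmem (hzP ⟨z, hz⟩)
      have h2 : q (zC ⟨n₀ * z * n₀⁻¹, D.normA_Z hA hn₀ hz⟩) = q (zC ⟨z, hz⟩) := by
        rw [show zC ⟨n₀ * z * n₀⁻¹, D.normA_Z hA hn₀ hz⟩ = n₁ * zC ⟨z, hz⟩ * n₁⁻¹ from rfl, map_mul, map_mul,
          map_inv, h1, mul_inv_cancel_right]
      exact hmove z hz hz1 (congrArg Subtype.val (hinj _ _ h2))
    have hL : NA.map q = ⊤ := by
      apply eq_top_of_card_eq
      have h1 := card_dvd_of_le hPL
      have h2 := card_subgroup_dvd_card (NA.map q)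
      have h3 : Nat.card (P : Subgroup (C ⧸ N)) < Nat.card (NA.map q) := by
        refine lt_of_le_of_ne (card_le_of_le hPL) fun e => hn₁P ?_
        rw [eq_of_le_of_card_ge hPL e.ge]
        exact mem_map_of_mem q hn₁
      rw [hP4] at h1 h3
      change Nat.card (NA.map q) ∣ k at h2
      rw [hk12] at h2
      show Nat.card (NA.map q) = k
      rw [hk12]
      obtain ⟨m, hm⟩ := h1
      have := Nat.le_of_dvd (by norm_num) h2
      rw [hm] at h2 this h3 ⊢
      have hm3 : m ≤ 3 := by omega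
      interval_cases m <;> omega
    obtain ⟨n, hn, e⟩ : q ⟨g, hg⟩ ∈ NA.map q := hL ▸ mem_top _
    obtain ⟨o, ho, u, hu, e'⟩ := hNmem (⟨g, hg⟩ * n⁻¹) ((hqker _).1 (by rw [map_mul, map_inv, e, mul_inv_cancel]))
    refine ⟨o, ⟨o, ho, rfl⟩, (u : G) * n, mul_mem (le_normalizer (hUA hu)) ?_, ?_⟩
    · refine mem_normalizer_of_conj_mem fun x hx => ?_
      have h1 := conj_mem_of_normalizer (show n ∈ NA from hn) (show (⟨x, hAC hx⟩ : C) ∈ A.subgroupOf C from hx)
      exact h1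
    · have h1 : g * (n : G)⁻¹ = (o : G) * u := congrArg Subtype.val e'
      calc g = g * (n : G)⁻¹ * n := by group
        _ = _ := by rw [h1]; group
  have hCP : centralizer ({q (zC ⟨z, hz⟩)} : Set (C ⧸ N)) = (P : Subgroup (C ⧸ N)) :=
    (eq_of_le_of_card_ge (fun p hp => mem_centralizer_singleton_iff.2 (comm_of_sq hPsq hp (hzP ⟨z, hz⟩)))
      (by rw [hP4, ← hcdef, hc4])).symm
  have hgC : (⟨g, hg⟩ : C) ∈ Cz := mem_centralizer_singleton_iff.2 (Subtype.ext hgz)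
  have hgP : q ⟨g, hg⟩ ∈ (P : Subgroup (C ⧸ N)) := by
    rw [← hCP, ← hCz]
    exact mem_map_of_mem q hgC
  have hgo' : Odd (orderOf (⟨g, hg⟩ : C)) := by rwa [← orderOf_coe]
  have hq1 : q ⟨g, hg⟩ = 1 := eq_one_of_sq_odd (hPsq _ hgP) (hgo'.of_dvd_nat (orderOf_map_dvd q _))
  obtain ⟨o, ho, u, hu, e⟩ := hNmem _ ((hqker _).1 hq1)
  have h2 : (⟨g, hg⟩ : C) * ⟨g, hg⟩ ∈ O := by
    have hu2 : u * u = 1 := Subtype.ext (D.eA u (hUA hu))
    rw [e, show o * u * (o * u) = o * (u * o * u⁻¹) * (u * u) by group, hu2, mul_one]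
    exact mul_mem ho (hOn.conj_mem o ho u)
  refine ⟨⟨g, hg⟩, ?_, rfl⟩
  obtain ⟨j, hj⟩ := hgo'
  have h3 := pow_mem h2 (j + 1)
  rwa [← sq, ← pow_mul, show 2 * (j + 1) = 2 * j + 1 + 1 by ring, pow_succ, ← hj, pow_orderOf_eq_one,
    one_mul] at h3

end Dat

end CfsgLib.SylL34
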