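import Cfsg.Agent.SylL34.Type
import Mathlib.GroupTheory.Transfer
import Mathlib.GroupTheory.GroupAction.Quotient

/-!
Fusion of involutions for a Sylow 2-subgroup of type `PSL(3, 4)`.
-/

set_option autoImplicit false
set_option linter.unusedSectionVars false
set_option linter.unusedSimpArgs false
set_option linter.style.haveILetI false

namespace CfsgLib.SylL34

open Subgroup

variable {G : Type*} [Group G] [Finite G]

/-- A power of odd exponent of an element is a 2-element. -/
theorem exists_odd_pow (g : G) : ∃ m k : ℕ, Odd m ∧ (g ^ m) ^ 2 ^ k = 1 := by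
  obtain ⟨k, m, hm, h⟩ := Nat.exists_eq_two_pow_mul_odd (orderOf_pos g).ne'
  exact ⟨m, k, hm, by rw [← pow_mul, mul_comm, ← h, pow_orderOf_eq_one]⟩

theorem isPGroup_zpowers_of {g : G} {k : ℕ} (h : g ^ 2 ^ k = 1) : IsPGroup 2 (zpowers g) := by
  obtain ⟨i, -, hi⟩ := (Nat.dvd_prime_pow Nat.prime_two).1 (orderOf_dvd_of_pow_eq_one h)
  exact IsPGroup.of_card (n := i) (by rw [Nat.card_zpowers, hi])

theorem isPGroup_of_sq {H : Subgroup G} (h : ∀ x ∈ H, x * x = 1) : IsPGroup 2 H :=
  fun x => ⟨1, Subtype.ext (by rw [pow_one, sq]; exact h x x.2)⟩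

/-- A 2-element normalising a Sylow 2-subgroup lies in it. -/
theorem mem_of_two {S : Sylow 2 G} {t : G} {k : ℕ} (ht : t ^ 2 ^ k = 1)
    (hn : t ∈ normalizer ((S : Subgroup G) : Set G)) : t ∈ (S : Subgroup G) := by
  have h := S.3 ((isPGroup_zpowers_of ht).to_sup_of_normal_right' S.2 (zpowers_le.2 hn)) le_sup_right
  exact h ▸ mem_sup_left (mem_zpowers t)

/-- A 2-subgroup is conjugate into `S`. -/
theorem exists_cj_le (S : Sylow 2 G) {P : Subgroup G} (hP : IsPGroup 2 P) :
    ∃ g : G, cj g P ≤ (S : Subgroup G) := by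
  haveI : Fact (Nat.Prime 2) := ⟨Nat.prime_two⟩
  obtain ⟨Q, hQ⟩ := hP.exists_le_sylow
  obtain ⟨g, hg⟩ := MulAction.exists_smul_eq G Q S
  refine ⟨g, fun x hx => ?_⟩
  obtain ⟨y, hy, rfl⟩ := hx
  rw [← hg, Sylow.coe_subgroup_smul]
  exact smul_mem_pointwise_smul y _ _ (hQ hy)

theorem exists_conj_mem (S : Sylow 2 G) {x : G} (hx : x * x = 1) : ∃ g : G, g * x * g⁻¹ ∈ (S : Subgroup G) := by
  obtain ⟨g, hg⟩ := exists_cj_le S (isPGroup_zpowers_of (g := x) (k := 1) (by rwa [pow_one, sq]))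
  exact ⟨g, hg (conj_mem_cj.2 (mem_zpowers x))⟩

theorem card_two_part (S : Sylow 2 G) (hS : Nat.card (S : Subgroup G) = 64) : ¬ 2 ^ 7 ∣ Nat.card G := by
  haveI : Fact (Nat.Prime 2) := ⟨Nat.prime_two⟩
  intro h
  have h1 := (Nat.prime_two.pow_dvd_iff_le_factorization Nat.card_pos.ne').1 h
  have h2 := S.card_eq_multiplicity
  rw [hS, show (64 : ℕ) = 2 ^ 6 from rfl] at h2
  have h3 := Nat.pow_right_injective le_rfl h2
  omega

/-- A normal 2-group inside the normalizer of the Sylow 2-subgroup. -/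
theorem le_sylow_of_le_normalizer (S : Sylow 2 G) {P : Subgroup G} (hP : IsPGroup 2 P)
    (h : P ≤ normalizer ((S : Subgroup G) : Set G)) : P ≤ (S : Subgroup G) :=
  fun x hx => by
    obtain ⟨k, hk⟩ := hP ⟨x, hx⟩
    exact mem_of_two (congrArg Subtype.val hk) (h hx)

/-- Some element of `A` outside the centre is conjugate into the centre. -/
def Fus (A B : Subgroup G) : Prop := ∃ a ∈ A, a ∉ B ∧ ∃ z ∈ A ⊓ B, IsConj a z

namespace Dat

variable {S : Sylow 2 G} {A B : Subgroup G} (D : Dat S A B)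
include D

theorem eq_of_sq_le {g : G} {X : Subgroup G} (hX : ∀ x ∈ X, x * x = 1) (hc : Nat.card X = 16)
    (h : cj g X ≤ (S : Subgroup G)) : cj g X = A ∨ cj g X = B :=
  D.sixteen h (cj_sq hX) (by rw [card_cj, hc])

/-- Elements of the normalizer of `S` normalise `A` and `B`. -/
theorem normS_le : normalizer ((S : Subgroup G) : Set G) ≤ normalizer (A : Set G) := by
  intro n hn
  have hle : ∀ (g : G), g ∈ normalizer ((S : Subgroup G) : Set G) → cj g A = A ∨ cj g A = B := fun g hg =>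
    D.eq_of_sq_le D.eA D.cA fun x hx => by
      obtain ⟨y, hy, rfl⟩ := hx
      exact conj_mem_of_normalizer hg (D.hA hy)
  rcases hle n hn with h | h
  · exact mem_normalizer_of_cj h
  exfalso
  have hAB : A ≠ B := fun e => by
    have := D.cI
    rw [e, inf_idem, D.cB] at this
    omega
  have hnn : cj (n * n) A = A := by
    rcases hle (n * n) (mul_mem hn hn) with h2 | h2
    · exact h2
    · rw [← cj_cj, h] at h2
      have := congrArg (cj n⁻¹) (h2.trans h.symm)
      rw [cj_inv_cj, cj_inv_cj] at this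
      exact absurd this.symm hAB
  obtain ⟨m, k, hm, hk⟩ := exists_odd_pow n
  have hnm : n ^ m ∈ (S : Subgroup G) := mem_of_two hk (pow_mem hn m)
  obtain ⟨j, rfl⟩ := hm
  have h1 : cj (n ^ (2 * j + 1)) A = A := cj_of_mem_normalizer (D.le_normA hnm)
  have h2 : n ^ (2 * j) ∈ normalizer (A : Set G) := by
    rw [pow_mul, sq]
    exact pow_mem (mem_normalizer_of_cj hnn) j
  rw [pow_succ', ← cj_cj, cj_of_mem_normalizer h2, h] at h1
  exact hAB h1.symm

/-- `A` and `B` are not conjugate. -/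
theorem not_conjAB (g : G) : cj g A ≠ B := by
  haveI : Fact (Nat.Prime 2) := ⟨Nat.prime_two⟩
  intro h
  set M := normalizer (B : Set G)
  have hSM : (S : Subgroup G) ≤ M := D.symm.le_normA
  have hSgM : cj g (S : Subgroup G) ≤ M := by
    rintro _ ⟨x, hx, rfl⟩
    refine mem_normalizer_of_conj_mem fun b hb => ?_
    rw [← h, mem_cj] at hb ⊢
    simpa [mul_assoc] using D.normA hx hb
  let P : Sylow 2 M := S.subtype hSM
  let Q : Subgroup M := (cj g (S : Subgroup G)).subgroupOf M
  have hQ : IsPGroup 2 Q := (S.2.map _).comap_subtype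
  obtain ⟨n, hn⟩ := exists_cj_le P hQ
  have hn' : cj ((n : G) * g) (S : Subgroup G) = (S : Subgroup G) := by
    refine eq_of_le_of_card_ge (fun x hx => ?_) (card_cj _ _).ge
    rw [← cj_cj, mem_cj] at hx
    have hy : (n : G)⁻¹ * x * n ∈ M := hSgM hx
    have := hn ((conj_mem_cj (g := n)).2 (show (⟨_, hy⟩ : M) ∈ Q from hx))
    rw [Sylow.coe_subtype, mem_subgroupOf] at this
    simpa [mul_assoc] using this
  have h1 := cj_of_mem_normalizer (D.normS_le (mem_normalizer_of_cj hn'))
  rw [← cj_cj, h, cj_of_mem_normalizer n.2] at h1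
  have := D.cI
  rw [← h1, inf_idem, D.cB] at this
  omega

theorem not_conjBA (g : G) : cj g B ≠ A := fun h => D.not_conjAB g⁻¹ (by rw [← h, cj_inv_cj])

/-- A conjugate of `A` in a subgroup below `S` is `A`. -/
theorem eqA_of_le {g : G} (h : cj g A ≤ (S : Subgroup G)) : cj g A = A :=
  (D.eq_of_sq_le D.eA D.cA h).resolve_right (D.not_conjAB g)

/-- Central elements: fusion is controlled by the normalizer of `S`. -/
theorem burn {z w g : G} (hz : z ∈ A ⊓ B) (hw : w ∈ A ⊓ B) (h : g * z * g⁻¹ = w) :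
    ∃ n ∈ normalizer ((S : Subgroup G) : Set G), n * z * n⁻¹ = w := by
  haveI : Fact (Nat.Prime 2) := ⟨Nat.prime_two⟩
  have hC : ∀ v ∈ A ⊓ B, v ∈ centralizer ((S : Subgroup G) : Set G) := fun v hv =>
    mem_centralizer_iff.2 fun x hx => D.center_comm hv hx
  obtain ⟨n, hn, e⟩ := S.conj_eq_normalizer_conj_of_mem_centralizer z g⁻¹ (hC z hz)
    (by rw [inv_inv, h]; exact hC w hw)
  exact ⟨n⁻¹, inv_mem hn, by rw [inv_inv, ← e, inv_inv, h]⟩

/-- Conjugation into the centre is done in the normalizer of `A`. -/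
theorem conj_in_normA {a z g : G} (ha : a ∈ A) (hz : z ∈ A ⊓ B) (h : g * a * g⁻¹ = z) :
    ∃ n ∈ normalizer (A : Set G), n * a * n⁻¹ = z := by
  haveI : Fact (Nat.Prime 2) := ⟨Nat.prime_two⟩
  set C := centralizer ({z} : Set G)
  have hSC : (S : Subgroup G) ≤ C := fun x hx => mem_centralizer_singleton_iff.2 (D.center_comm hz hx)
  have hAC : cj g A ≤ C := by
    rintro _ ⟨x, hx, rfl⟩
    refine mem_centralizer_singleton_iff.2 ?_
    rw [← h]
    calc g * x * g⁻¹ * (g * a * g⁻¹) = g * (x * a) * g⁻¹ := by group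
      _ = g * (a * x) * g⁻¹ := by rw [comm_of_sq D.eA hx ha]
      _ = g * a * g⁻¹ * (g * x * g⁻¹) := by group
  obtain ⟨c, hc⟩ := exists_cj_le (S.subtype hSC) (P := (cj g A).subgroupOf C)
    (((isPGroup_of_sq D.eA).map _).comap_subtype)
  have hle : cj ((c : G) * g) A ≤ (S : Subgroup G) := fun x hx => by
    rw [← cj_cj, mem_cj] at hx
    have := hc ((conj_mem_cj (g := c)).2 (show (⟨_, hAC hx⟩ : C) ∈ (cj g A).subgroupOf C from hx))
    rw [Sylow.coe_subtype, mem_subgroupOf] at this
    simpa [mul_assoc] using this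
  refine ⟨c * g, mem_normalizer_of_cj (D.eqA_of_le hle), ?_⟩
  rw [show (c : G) * g * a * ((c : G) * g)⁻¹ = c * (g * a * g⁻¹) * (c : G)⁻¹ by group, h,
    mem_centralizer_singleton_iff.1 c.2, mul_inv_cancel_right]

/-- The four cosets of the centre in `A`. -/
theorem cosets {a c : G} (ha : a ∈ A) (hc : c ∈ A) (haB : a ∉ B) (hcB : c ∉ B) (hac : a * c ∉ B) {x : G}
    (hx : x ∈ A) : x ∈ B ∨ a * x ∈ B ∨ c * x ∈ B ∨ a * c * x ∈ B := by
  classical
  by_contra! hne
  haveI := Fintype.ofFinite A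
  haveI := Fintype.ofFinite (A ⊓ B : Subgroup G)
  let r : Fin 5 → A := ![1, ⟨a, ha⟩, ⟨c, hc⟩, ⟨a * c, mul_mem ha hc⟩, ⟨x, hx⟩]
  let f : Fin 5 × (A ⊓ B : Subgroup G) → A := fun p => r p.1 * ⟨p.2, (mem_inf.1 p.2.2).1⟩
  have haa : a * a = 1 := D.eA a ha
  have hcc : c * c = 1 := D.eA c hc
  have hac' : c * a = a * c := comm_of_sq D.eA hc ha
  have hac1 : c * (a * c) = a := by rw [← mul_assoc, hac', mul_assoc, hcc, mul_one]
  have hac2 : a * (a * c) = c := by rw [← mul_assoc, haa, one_mul]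
  obtain ⟨hx1, hx2, hx3, hx4⟩ := hne
  -- distinct cosets
  have hr : ∀ i j : Fin 5, i < j → ((r i : A) : G) * r j ∉ B := by
    intro i j hij
    fin_cases i <;> fin_cases j <;>
      simp_all [r, haB, hcB, hac, hx1, hx2, hx3, hx4, hac1, hac2]
  have hf : Function.Injective f := by
    rintro ⟨i, v⟩ ⟨j, w⟩ e
    have e' : ((r i : A) : G) * v = (r j : A) * w := congrArg Subtype.val e
    have key : ∀ i j : Fin 5, ∀ v w : (A ⊓ B : Subgroup G), ((r i : A) : G) * v = (r j : A) * w →
        ((r i : A) : G) * r j ∈ B := by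
      intro i j v w e'
      have : ((r i : A) : G) * r j = (v : G) * w := by
        have h1 := congrArg (fun t => ((r i : A) : G) * t * w) e'
        beta_reduce at h1
        rw [← mul_assoc, D.eA _ (r i).2, one_mul, mul_assoc (r i : A).1 _ (w : G), mul_assoc (r j : A).1,
          D.eA _ (mem_inf.1 w.2).1, mul_one] at h1
        exact h1.symm
      rw [this]
      exact mul_mem (mem_inf.1 v.2).2 (mem_inf.1 w.2).2
    rcases lt_trichotomy i j with h | h | h
    · exact absurd (key i j v w e') (hr i j h)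
    · subst h
      exact Prod.ext rfl (Subtype.ext (mul_left_cancel e'))
    · exact absurd (key j i w v e'.symm) (hr j i h)
  have := Fintype.card_le_of_injective f hf
  rw [Fintype.card_prod, Fintype.card_fin, ← Nat.card_eq_fintype_card, ← Nat.card_eq_fintype_card, D.cI,
    D.cA] at this
  omega

/-- The classes of `N(A)` on `A`. -/
def orb (_D : Dat S A B) (x : G) : Set G := {y | ∃ n ∈ normalizer (A : Set G), n * x * n⁻¹ = y}

theorem orb_refl (x : G) : x ∈ D.orb x := ⟨1, one_mem _, by group⟩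

theorem orb_symm {x y : G} (h : y ∈ D.orb x) : x ∈ D.orb y := by
  obtain ⟨n, hn, rfl⟩ := h
  exact ⟨n⁻¹, inv_mem hn, by group⟩

theorem orb_trans {x y v : G} (h : y ∈ D.orb x) (h' : v ∈ D.orb y) : v ∈ D.orb x := by
  obtain ⟨n, hn, rfl⟩ := h
  obtain ⟨m, hm, rfl⟩ := h'
  exact ⟨m * n, mul_mem hm hn, by group⟩

theorem orb_A {x y : G} (hx : x ∈ A) (h : y ∈ D.orb x) : y ∈ A := by
  obtain ⟨n, hn, rfl⟩ := h
  exact conj_mem_of_normalizer hn hx

theorem orb_ne {x y : G} (hx : x ≠ 1) (h : y ∈ D.orb x) : y ≠ 1 := by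
  obtain ⟨n, -, rfl⟩ := h
  exact fun e => hx (conj_eq_one_iff.1 e)

theorem orb_coset {x y w : G} (hx : x ∈ A) (h : y ∈ D.orb x) (hy : y ∉ B) (hw : w ∈ A ⊓ B) :
    y * w ∈ D.orb x := by
  obtain ⟨b, hb, hbw⟩ := D.exists_comm (D.orb_A hx h) hy hw
  exact D.orb_trans h ⟨b, D.le_normA (D.hB hb), hbw⟩

theorem orb_card (x : G) : Nat.card (D.orb x) *
    Nat.card ((centralizer ({x} : Set G)).subgroupOf (normalizer (A : Set G))) =
      Nat.card (normalizer (A : Set G)) := by
  set N := normalizer (A : Set G)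
  set C := (centralizer ({x} : Set G)).subgroupOf N
  have key : ∀ n m : N, (n : G) * x * (n : G)⁻¹ = (m : G) * x * (m : G)⁻¹ ↔ n⁻¹ * m ∈ C := by
    intro n m
    rw [mem_subgroupOf, mem_centralizer_singleton_iff]
    push_cast
    constructor
    · intro e
      calc (n : G)⁻¹ * m * x = (n : G)⁻¹ * (m * x * (m : G)⁻¹) * m := by group
        _ = (n : G)⁻¹ * (n * x * (n : G)⁻¹) * m := by rw [e]
        _ = x * ((n : G)⁻¹ * m) := by group
    · intro e
      calc (n : G) * x * (n : G)⁻¹ = n * (x * ((n : G)⁻¹ * m)) * (m : G)⁻¹ := by group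
        _ = n * ((n : G)⁻¹ * m * x) * (m : G)⁻¹ := by rw [e]
        _ = m * x * (m : G)⁻¹ := by group
  let f : N ⧸ C → D.orb x := fun q => Quotient.liftOn' q
    (fun n => (⟨(n : G) * x * (n : G)⁻¹, n, n.2, rfl⟩ : D.orb x))
    fun n m h => Subtype.ext ((key n m).2 (QuotientGroup.leftRel_apply.1 h))
  have hf : Function.Bijective f := by
    constructor
    · intro p q
      induction p using Quotient.inductionOn' with
      | h n =>
      induction q using Quotient.inductionOn' with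
      | h m =>
      intro e
      exact QuotientGroup.eq.2 ((key n m).1 (congrArg Subtype.val e))
    · rintro ⟨_, n, hn, rfl⟩
      exact ⟨QuotientGroup.mk ⟨n, hn⟩, rfl⟩
  rw [← Nat.card_congr (Equiv.ofBijective f hf), ← index_eq_card, mul_comm, card_mul_index]

theorem orb_two {x : G} (hx : x ∈ A) {k : ℕ} (hk : 2 ^ k ∣ Nat.card (D.orb x)) : k ≤ 2 := by
  by_contra hlt
  have h16 : 2 ^ 4 ∣ Nat.card ((centralizer ({x} : Set G)).subgroupOf (normalizer (A : Set G))) := by
    rw [show (2 : ℕ) ^ 4 = 16 from rfl, ← D.cA, ← Nat.card_congr (subgroupOfEquivOfLe (le_normalizer : A ≤ _)).toEquiv]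
    exact card_dvd_of_le fun y hy => mem_centralizer_singleton_iff.2 (comm_of_sq D.eA hy hx)
  refine card_two_part S D.cS ?_
  have h := Nat.mul_dvd_mul hk h16
  rw [D.orb_card, ← pow_add] at h
  exact (pow_dvd_pow 2 (by omega)).trans (h.trans (card_subgroup_dvd_card _))

theorem orb_odd {z : G} (hz : z ∈ A ⊓ B) : Odd (Nat.card (D.orb z)) := by
  rw [← Nat.not_even_iff_odd]
  intro he
  have h64 : 2 ^ 6 ∣ Nat.card ((centralizer ({z} : Set G)).subgroupOf (normalizer (A : Set G))) := by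
    rw [show (2 : ℕ) ^ 6 = 64 from rfl, ← D.cS, ← Nat.card_congr (subgroupOfEquivOfLe D.le_normA).toEquiv]
    exact card_dvd_of_le fun y hy => mem_centralizer_singleton_iff.2 (D.center_comm hz hy)
  refine card_two_part S D.cS ?_
  have h := Nat.mul_dvd_mul (even_iff_two_dvd.1 he) h64
  rw [D.orb_card] at h
  exact (dvd_trans (by norm_num) h).trans (card_subgroup_dvd_card _)

/-- No coset of the centre is invariant when fusion occurs. -/
theorem no_coset {a z : G} (haB : a ∉ B) (hz : z ∈ A ⊓ B) (h : a ∈ D.orb z) {c : G}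
    (hc : c ∈ A) (hinv : ∀ y ∈ D.orb c, c * y ∈ A ⊓ B) (hcB : c ∉ B) : False := by
  obtain ⟨n, hn, rfl⟩ := h
  have hcz : c * z ∈ D.orb c := D.orb_coset hc (D.orb_refl c) hcB hz
  have h1 := hinv _ ⟨n, hn, rfl⟩
  have h2 := hinv _ (D.orb_trans hcz ⟨n, hn, rfl⟩)
  have h3 := mul_mem (inv_mem h1) h2
  rw [show (c * (n * c * n⁻¹))⁻¹ * (c * (n * (c * z) * n⁻¹)) = n * z * n⁻¹ by group] at h3
  exact haB (mem_inf.1 h3).2

/-- Fusion into the centre makes `N(A)` transitive on the involutions of `A`. -/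
theorem trans_of_fus (hF : Fus A B) {x y : G} (hx : x ∈ A) (hy : y ∈ A) (hx1 : x ≠ 1) (hy1 : y ≠ 1) :
    ∃ n ∈ normalizer (A : Set G), n * x * n⁻¹ = y := by
  classical
  obtain ⟨a, ha, haB, z, hz, hc⟩ := hF
  obtain ⟨g, hg⟩ := isConj_iff.1 hc
  have haz : a ∈ D.orb z := D.orb_symm (D.conj_in_normA ha hz hg)
  have hz1 : z ≠ 1 := fun e => haB (by
    rw [e, conj_eq_one_iff] at hg
    rw [hg]; exact one_mem B)
  have hzA := (mem_inf.1 hz).1
  suffices key : ∀ v ∈ A, v ≠ 1 → v ∈ D.orb z by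
    exact D.orb_trans (D.orb_symm (key x hx hx1)) (key y hy hy1)
  -- the elements of an orbit of a central element
  have hodd : ∀ w ∈ A ⊓ B, ∀ v ∈ A ⊓ B, w ≠ 1 → v ≠ 1 → v ≠ w → v ∈ D.orb w →
      ∀ u ∈ A ⊓ B, u ≠ 1 → u ∈ D.orb w := by
    intro w hw v hv hw1 hv1 hvw hvO u hu hu1
    by_contra huO
    have hO : ∀ t ∈ D.orb w, t ∈ B → t = w ∨ t = v := by
      intro t ht htB
      rcases D.exists_third hw hv hw1 hv1 hvw.symm (mem_inf.2 ⟨D.orb_A (mem_inf.1 hw).1 ht, htB⟩) with
        h | h | h | h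
      · exact absurd h (D.orb_ne hw1 ht)
      · exact Or.inl h
      · exact Or.inr h
      · rcases D.exists_third hw hv hw1 hv1 hvw.symm hu with h' | h' | h' | h'
        · exact absurd h' hu1
        · exact absurd (h' ▸ D.orb_refl w) huO
        · exact absurd (h' ▸ hvO) huO
        · exact absurd (h'.trans h.symm ▸ ht) huO
    -- the orbit has even size
    haveI := Fintype.ofFinite (D.orb w)
    refine Nat.not_even_iff_odd.2 (D.orb_odd hw) ?_
    have hwv : w * v ∈ A ⊓ B := mul_mem hw hv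
    let σ : D.orb w → D.orb w := fun t =>
      if ht : (t : G) ∈ B then (if (t : G) = w then ⟨v, hvO⟩ else ⟨w, D.orb_refl w⟩)
      else ⟨t * (w * v), D.orb_coset (mem_inf.1 hw).1 t.2 ht hwv⟩
    have hwv1 : w * v ≠ 1 := fun e => hvw (by
      rw [← inv_eq_of_sq (D.eA w (mem_inf.1 hw).1)]; exact (inv_eq_of_mul_eq_one_right e).symm)
    have hσ : Function.Involutive σ := by
      intro t
      by_cases ht : (t : G) ∈ B
      · rcases hO t t.2 ht with e | e
        · have : t = ⟨w, D.orb_refl w⟩ := Subtype.ext e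
          subst this
          simp [σ, (mem_inf.1 hw).2, (mem_inf.1 hv).2, hvw]
        · have : t = ⟨v, hvO⟩ := Subtype.ext e
          subst this
          simp [σ, (mem_inf.1 hw).2, (mem_inf.1 hv).2, hvw]
      · have ht' : (t : G) * (w * v) ∉ B := fun h => ht ((mul_mem_cancel_right (mem_inf.1 hwv).2).1 h)
        refine Subtype.ext ?_
        simp only [σ, dif_neg ht, dif_neg ht']
        rw [mul_assoc (t : G), D.eA _ (mem_inf.1 hwv).1, mul_one]
    have hfp : ∀ t, σ t ≠ t := by
      intro t e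
      have e' : (σ t : G) = t := congrArg Subtype.val e
      by_cases ht : (t : G) ∈ B
      · rcases hO t t.2 ht with h | h
        · simp [σ, ht, h, (mem_inf.1 hw).2, hvw] at e'
        · simp [σ, ht, h, (mem_inf.1 hv).2, hvw] at e'
          exact hvw e'.symm
      · simp only [σ, dif_neg ht] at e'
        exact hwv1 (mul_left_cancel (e'.trans (mul_one (t : G)).symm))
    rw [Nat.card_eq_fintype_card, ← Finset.card_univ]
    have hs : (hσ.toPerm σ).support = Finset.univ := by
      ext t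
      simp [Equiv.Perm.mem_support, hfp t]
    rw [even_iff_two_dvd, ← hs]
    refine Equiv.Perm.two_dvd_card_support (Equiv.ext fun t => ?_)
    simp [pow_two, hσ t]
  -- all central involutions are in the orbit
  have hall : ∀ w ∈ A ⊓ B, w ≠ 1 → w ∈ D.orb z := by
    intro w hw hw1
    by_contra hwO
    have hwz : w ≠ z := fun e => hwO (e ▸ D.orb_refl z)
    set v := z * w
    have hv : v ∈ A ⊓ B := mul_mem hz hw
    have hv1 : v ≠ 1 := fun e => hwz (by
      rw [← inv_eq_of_sq (D.eA z hzA)]; exact (inv_eq_of_mul_eq_one_right e).symm)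
    have hvz : v ≠ z := fun e => hw1 (mul_left_cancel (e.trans (mul_one z).symm))
    have hvw : v ≠ w := fun e => hz1 (mul_right_cancel (e.trans (one_mul w).symm))
    have hvO : v ∉ D.orb z := fun h => hwO (hodd z hz v hv hz1 hv1 hvz h w hw hw1)
    have hwv : v ∉ D.orb w := fun h => hwO (D.orb_symm (hodd w hw v hv hw1 hv1 hvw h z hz hz1))
    -- each orbit leaves the centre
    have hleave : ∀ p q : G, p ∈ A ⊓ B → q ∈ A ⊓ B → q = z * p → q ∉ D.orb z → p ∉ D.orb z →
        q ∉ D.orb p → p ≠ 1 → ∃ c ∈ D.orb p, c ∉ B := by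
      intro p q hp hq hqp hqO hpO hqp' hp1
      by_contra! hno
      have hfix : ∀ n ∈ normalizer (A : Set G), n * p * n⁻¹ = p := by
        intro n hn
        have hmem : n * p * n⁻¹ ∈ D.orb p := ⟨n, hn, rfl⟩
        have hz' : z ≠ p := fun e => hpO (e ▸ D.orb_refl z)
        rcases D.exists_third hz hp hz1 hp1 hz'
          (mem_inf.2 ⟨D.orb_A (mem_inf.1 hp).1 hmem, hno _ hmem⟩) with h | h | h | h
        · exact absurd h (D.orb_ne hp1 hmem)
        · exact absurd (D.orb_symm (h ▸ hmem)) hpO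
        · exact h
        · exact absurd (hqp ▸ h ▸ hmem) hqp'
      obtain ⟨n, hn, hna⟩ := haz
      have h1 : a * p ∈ D.orb q := ⟨n, hn, by
        rw [hqp, show n * (z * p) * n⁻¹ = n * z * n⁻¹ * (n * p * n⁻¹) by group, hna, hfix n hn]⟩
      exact hqO (D.orb_trans (D.orb_coset hzA ⟨n, hn, hna⟩ haB hp) (D.orb_symm h1))
    obtain ⟨c, hc, hcB⟩ := hleave w v hw hv rfl hvO hwO hwv hw1
    obtain ⟨d, hd, hdB⟩ := hleave v w hv hw (by rw [← mul_assoc, D.eA z hzA, one_mul]) hwO hvO
      (fun h => hwv (D.orb_symm h)) hv1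
    have hcA := D.orb_A (mem_inf.1 hw).1 hc
    have hdA := D.orb_A (mem_inf.1 hv).1 hd
    have hsep : ∀ s t : G, s ∈ A → t ∈ D.orb s → t ∉ B → ∀ s' t' : G, s' ∈ A → t' ∈ D.orb s' →
        t * t' ∈ B → s' ∈ D.orb s := by
      intro s t hs ht htB s' t' hs' ht' htt
      have h1 := D.orb_coset hs ht htB (mem_inf.2 ⟨mul_mem (D.orb_A hs ht) (D.orb_A hs' ht'), htt⟩)
      rw [← mul_assoc, D.eA t (D.orb_A hs ht), one_mul] at h1
      exact D.orb_trans h1 (D.orb_symm ht')
    have hac : a * c ∉ B := fun h => hwO (hsep z a hzA haz haB w c (mem_inf.1 hw).1 hc h)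
    have hcd : c * d ∉ B := fun h => hwv (hsep w c (mem_inf.1 hw).1 hc hcB v d (mem_inf.1 hv).1 hd h)
    have had : a * d ∉ B := fun h => hvO (hsep z a hzA haz haB v d (mem_inf.1 hv).1 hd h)
    -- `a c d` is central
    have hO : ∀ t ∈ D.orb z, t ∈ B ∨ a * t ∈ B := by
      intro t ht
      by_contra! h
      rcases D.cosets ha hcA haB hcB hac (D.orb_A hzA ht) with h' | h' | h' | h'
      · exact h.1 h'
      · exact h.2 h'
      · exact hwO (D.orb_trans (D.orb_refl z) (hsep z t hzA ht h.1 w c (mem_inf.1 hw).1 hc (by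
          rwa [comm_of_sq D.eA (D.orb_A hzA ht) hcA])))
      · rcases D.cosets ha hcA haB hcB hac hdA with e | e | e | e
        · exact hdB e
        · exact had e
        · exact hcd e
        · refine hvO (hsep z t hzA ht h.1 v d (mem_inf.1 hv).1 hd ?_)
          have := mul_mem h' e
          rwa [show a * c * t * (a * c * d) = t * d by
            have hm := mul_mem ha hcA
            rw [comm_of_sq D.eA hm (D.orb_A hzA ht), show t * (a * c) * (a * c * d) =
              t * ((a * c) * (a * c)) * d by group, D.eA _ hm, mul_one]] at this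
    -- products of two elements of the orbit
    have haw := D.orb_coset hzA haz haB hw
    obtain ⟨m, hm, rfl⟩ := hc
    have hma : m * a * m⁻¹ ∈ D.orb z := D.orb_trans haz ⟨m, hm, rfl⟩
    have hmaw : m * (a * w) * m⁻¹ ∈ D.orb z := D.orb_trans haw ⟨m, hm, rfl⟩
    have hprod : m * w * m⁻¹ = m * a * m⁻¹ * (m * (a * w) * m⁻¹) := by
      rw [show m * a * m⁻¹ * (m * (a * w) * m⁻¹) = m * (a * a) * w * m⁻¹ by group, D.eA a ha, mul_one]
    rcases hO _ hma with h1 | h1 <;> rcases hO _ hmaw with h2 | h2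
    · exact hcB (hprod ▸ mul_mem h1 h2)
    · refine hac ?_
      rw [hprod, ← mul_assoc, comm_of_sq D.eA ha (D.orb_A hzA hma), mul_assoc]
      exact mul_mem h1 h2
    · refine hac ?_
      rw [hprod, ← mul_assoc]
      exact mul_mem h1 h2
    · refine hcB ?_
      have := mul_mem h1 h2
      rwa [show a * (m * a * m⁻¹) * (a * (m * (a * w) * m⁻¹)) = m * a * m⁻¹ * (m * (a * w) * m⁻¹) by
        rw [comm_of_sq D.eA ha (D.orb_A hzA hma),
          show m * a * m⁻¹ * a * (a * (m * (a * w) * m⁻¹)) = m * a * m⁻¹ * (a * a) * (m * (a * w) * m⁻¹) by group,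
          D.eA a ha, mul_one], ← hprod] at this
  -- no further orbit
  intro v hvA hv1
  by_cases hvB : v ∈ B
  · exact hall v (mem_inf.2 ⟨hvA, hvB⟩) hv1
  by_contra hvO
  have hout : ∀ t ∈ D.orb v, t ∉ B := fun t ht htB =>
    hvO (D.orb_trans (hall t (mem_inf.2 ⟨D.orb_A hvA ht, htB⟩) (D.orb_ne hv1 ht)) (D.orb_symm ht))
  have hav : a * v ∉ B := fun h => hvO (by
    have := D.orb_coset hzA haz haB (mem_inf.2 ⟨mul_mem ha hvA, h⟩)
    rwa [← mul_assoc, D.eA a ha, one_mul] at this)
  by_cases hsecond : a * v ∈ D.orb v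
  · -- an orbit of eight elements
    have he : Nat.card (D.orb v) = 8 := by
      let f : Bool × (A ⊓ B : Subgroup G) → D.orb v := fun p => if p.1 then
        ⟨a * v * p.2, D.orb_coset hvA hsecond hav p.2.2⟩ else
        ⟨v * p.2, D.orb_coset hvA (D.orb_refl v) hvB p.2.2⟩
      have hf : Function.Bijective f := by
        constructor
        · rintro ⟨i, p⟩ ⟨j, q⟩ e
          have e' : ((f (i, p)) : G) = f (j, q) := congrArg Subtype.val e
          cases i <;> cases j <;> simp only [f, Bool.false_eq_true, if_true, if_false] at e'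
          · exact Prod.ext rfl (Subtype.ext (mul_left_cancel e'))
          · refine absurd ?_ haB
            have : a = v * p * (q : G)⁻¹ * v⁻¹ := by rw [e']; group
            rw [this, show v * p * (q : G)⁻¹ * v⁻¹ = v * ((p : G) * (q : G)⁻¹) * v⁻¹ by group,
              comm_of_sq D.eA hvA (mem_inf.1 (mul_mem p.2 (inv_mem q.2))).1, mul_inv_cancel_right]
            exact (mem_inf.1 (mul_mem p.2 (inv_mem q.2))).2
          · refine absurd ?_ haB
            have : a = v * q * (p : G)⁻¹ * v⁻¹ := by rw [← e']; group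
            rw [this, show v * q * (p : G)⁻¹ * v⁻¹ = v * ((q : G) * (p : G)⁻¹) * v⁻¹ by group,
              comm_of_sq D.eA hvA (mem_inf.1 (mul_mem q.2 (inv_mem p.2))).1, mul_inv_cancel_right]
            exact (mem_inf.1 (mul_mem q.2 (inv_mem p.2))).2
          · exact Prod.ext rfl (Subtype.ext (mul_left_cancel e'))
        · rintro ⟨t, ht⟩
          have htA := D.orb_A hvA ht
          rcases D.cosets ha hvA haB hvB hav htA with h | h | h | h
          · exact absurd h (hout t ht)
          · exfalso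
            have := D.orb_coset hzA haz haB (mem_inf.2 ⟨mul_mem ha htA, h⟩)
            rw [← mul_assoc, D.eA a ha, one_mul] at this
            exact hvO (D.orb_trans this (D.orb_symm ht))
          · exact ⟨(false, ⟨v * t, mem_inf.2 ⟨mul_mem hvA htA, h⟩⟩), Subtype.ext (by
              show v * (v * t) = t
              rw [← mul_assoc, D.eA v hvA, one_mul])⟩
          · exact ⟨(true, ⟨a * v * t, mem_inf.2 ⟨mul_mem (mul_mem ha hvA) htA, h⟩⟩), Subtype.ext (by
              show a * v * (a * v * t) = t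
              rw [← mul_assoc, D.eA _ (mul_mem ha hvA), one_mul])⟩
      rw [← Nat.card_congr (Equiv.ofBijective f hf), Nat.card_prod, Nat.card_eq_fintype_card, Fintype.card_bool,
        D.cI]
    have := D.orb_two hvA (k := 3) (by rw [he]; norm_num)
    omega
  · refine D.no_coset haB hz haz hvA (fun y hy => ?_) hvB
    have hyA := D.orb_A hvA hy
    rcases D.cosets ha hvA haB hvB hav hyA with h | h | h | h
    · exact absurd h (hout y hy)
    · exfalso
      have := D.orb_coset hzA haz haB (mem_inf.2 ⟨mul_mem ha hyA, h⟩)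
      rw [← mul_assoc, D.eA a ha, one_mul] at this
      exact hvO (D.orb_trans this (D.orb_symm hy))
    · exact mem_inf.2 ⟨mul_mem hvA hyA, h⟩
    · refine absurd ?_ hsecond
      have := D.orb_coset hvA hy (hout y hy) (mem_inf.2 ⟨mul_mem (mul_mem ha hvA) hyA, h⟩)
      rwa [comm_of_sq D.eA (mul_mem ha hvA) hyA, ← mul_assoc y, D.eA y hyA, one_mul] at this

/-- Without fusion the elements outside the centre are never conjugate into it. -/
theorem not_isConj_of_not_fus (hF : ¬ Fus A B) {a z : G} (ha : a ∈ A) (haB : a ∉ B) (hz : z ∈ A ⊓ B) :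
    ¬ IsConj a z := fun h => hF ⟨a, ha, haB, z, hz, h⟩

end Dat

end CfsgLib.SylL34
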