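import Cfsg.Agent.SylL34.NormalSylow

/-!
The centralizer of a central involution: `C(z) = O(C(z)) (N(S) ∩ C(z))`.
-/

set_option autoImplicit false
set_option linter.unusedSectionVars false
set_option linter.unusedSimpArgs false
set_option linter.style.haveILetI false

namespace CfsgLib.SylL34

open Subgroup

variable {G : Type*} [Group G] [Finite G]

theorem join_normalized {g : G} {U V : Subgroup G} (hU : g ∈ normalizer (U : Set G))
    (hV : g ∈ normalizer (V : Set G)) : g ∈ normalizer ((U ⊔ V : Subgroup G) : Set G) :=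
  mem_normalizer_of_cj (by rw [cj, Subgroup.map_sup]; exact congrArg₂ (· ⊔ ·) (cj_of_mem_normalizer hU) (cj_of_mem_normalizer hV))

/-- An odd subgroup of `C(z)` normalised modulo `O(C(z))` lies in it. -/
theorem le_Oc_of_mod {z : G} {N : Subgroup G} (hN : N ≤ centralizer ({z} : Set G)) (ho : Odd (Nat.card N))
    (h : ∀ g ∈ centralizer ({z} : Set G), ∃ o ∈ Oc z, ∃ n, n ∈ normalizer (N : Set G) ∧ n * z = z * n ∧ g = o * n) :
    N ≤ Oc z := by
  have hle : Oc z ⊔ N ≤ centralizer ({z} : Set G) := sup_le (Oc_le z) hN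
  refine le_trans le_sup_right (le_Oc hle (fun g hg => ?_) ?_)
  · obtain ⟨o, hoz, n, hn, hnz, rfl⟩ := h g hg
    exact mul_mem (le_normalizer (mem_sup_left hoz))
      (join_normalized (cent_le_normalizer_Oc z (mem_centralizer_singleton_iff.2 hnz)) hn)
  · rw [sup_comm]
    exact Odd.of_dvd_nat (ho.mul (Oc_odd z)) (Solvable.card_sup_dvd (hN.trans (cent_le_normalizer_Oc z)))

theorem mem_centZ_iff {A B : Subgroup G} {g : G} :
    g ∈ centralizer ((A ⊓ B : Subgroup G) : Set G) ↔ ∀ w ∈ A ⊓ B, g * w = w * g :=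
  ⟨fun h w hw => (mem_centralizer_iff.1 h w hw).symm, fun h => mem_centralizer_iff.2 fun w hw => (h w hw).symm⟩

namespace Dat

variable {S : Sylow 2 G} {A B : Subgroup G} (D : Dat S A B)
include D

theorem le_cent {z : G} (hz : z ∈ A ⊓ B) : (S : Subgroup G) ≤ centralizer ({z} : Set G) :=
  fun _ hx => mem_centralizer_singleton_iff.2 (D.center_comm hz hx)

theorem le_centZ : (S : Subgroup G) ≤ centralizer ((A ⊓ B : Subgroup G) : Set G) :=
  fun _ hx => mem_centralizer_iff.2 fun _ hw => (D.center_comm hw hx).symm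

theorem sq_mem {x : G} (hx : x ∈ (S : Subgroup G)) : x * x ∈ A ⊓ B := by
  obtain ⟨a, ha, b, hb, rfl⟩ := D.decomp hx
  have h := D.comm_mem ha hb
  rw [inv_eq_of_sq (D.eA a ha), inv_eq_of_sq (D.eB b hb)] at h
  rwa [show a * b * (a * b) = a * b * a * b by group]

theorem gen_invols : (S : Subgroup G) ≤ closure {t : G | t * t = 1} := fun x hx => by
  obtain ⟨a, ha, b, hb, rfl⟩ := D.decomp hx
  exact mul_mem (subset_closure (D.eA a ha)) (subset_closure (D.eB b hb))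

/-- A nontrivial central involution is isolated in the centralizer of another one. -/
theorem isolated {z w : G} (hz : z ∈ A ⊓ B) (hz1 : z ≠ 1) (hw : w ∈ A ⊓ B) (hw1 : w ≠ 1) :
    Cfsg.IsIsolatedInvolution (⟨w, D.le_cent hz (D.z_le_S hw)⟩ : centralizer ({z} : Set G)) := by
  set C := centralizer ({z} : Set G) with hC
  have D' := D.restrict C (D.le_cent hz)
  set P := S.subtype (D.le_cent hz)
  have hzC : z ∈ C := D.le_cent hz (D.z_le_S hz)
  have hz' : (⟨z, hzC⟩ : C) ∈ A.subgroupOf C ⊓ B.subgroupOf C := hz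
  have hw' : (⟨w, D.le_cent hz (D.z_le_S hw)⟩ : C) ∈ A.subgroupOf C ⊓ B.subgroupOf C := hw
  have hzc : ∀ c : C, c * ⟨z, hzC⟩ = ⟨z, hzC⟩ * c := fun c => Subtype.ext (mem_centralizer_singleton_iff.1 c.2)
  have hnf : ∀ {S' : Sylow 2 C} {A' B' : Subgroup C}, Dat S' A' B' → (⟨z, hzC⟩ : C) ∈ A' → (⟨z, hzC⟩ : C) ∈ B' →
      ¬ Fus A' B' := by
    intro S' A' B' D₀ hA' hB' hF
    obtain ⟨a, ha, haB⟩ := D₀.exists_noncentral
    obtain ⟨n, -, hn⟩ := D₀.trans_of_fus hF hA' ha (fun e => hz1 (congrArg Subtype.val e))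
      (fun e => haB (e ▸ one_mem B'))
    rw [hzc n, mul_inv_cancel_right] at hn
    exact haB (hn ▸ hB')
  refine Invol.isolated_of_sylow P (by rw [← orderOf_coe]; exact D.orderA (mem_inf.1 hw).1 hw1) ?_
  intro g hg
  set v := g * (⟨w, D.le_cent hz (D.z_le_S hw)⟩ : C) * g⁻¹ with hv
  have hv2 : v * v = 1 := conj_sq g _ (Subtype.ext (D.eA w (mem_inf.1 hw).1))
  have hvZ : v ∈ A.subgroupOf C ⊓ B.subgroupOf C := by
    rcases D'.inv v hg hv2 with h | h
    · refine ⟨h, ?_⟩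
      by_contra hvB
      exact hnf D' (mem_inf.1 hz').1 (mem_inf.1 hz').2
        ⟨v, h, hvB, _, hw', isConj_iff.2 ⟨g⁻¹, by rw [hv]; group⟩⟩
    · refine ⟨?_, h⟩
      by_contra hvA
      exact hnf D'.symm (mem_inf.1 hz').2 (mem_inf.1 hz').1
        ⟨v, h, hvA, _, by rw [inf_comm]; exact hw', isConj_iff.2 ⟨g⁻¹, by rw [hv]; group⟩⟩
  obtain ⟨n, hn, hnv⟩ := D'.burn hw' hvZ hv.symm
  by_cases hwz : w = z
  · subst hwz
    rw [← hnv]
    exact (hzc n).symm ▸ mul_inv_cancel_right _ _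
  have hne : (⟨z, hzC⟩ : C) ≠ ⟨w, D.le_cent hz (D.z_le_S hw)⟩ := fun e => hwz (congrArg Subtype.val e).symm
  rcases D'.exists_third hz' hw' (fun e => hz1 (congrArg Subtype.val e)) (fun e => hw1 (congrArg Subtype.val e))
    hne hvZ with h | h | h | h
  · exact absurd (conj_eq_one_iff.1 (hv.symm.trans h)) fun e => hw1 (congrArg Subtype.val e)
  · rw [h] at hnv
    refine absurd ?_ hne
    calc (⟨z, hzC⟩ : C) = n⁻¹ * ⟨z, hzC⟩ * n := by rw [mul_assoc, ← hzc n, inv_mul_cancel_left]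
      _ = n⁻¹ * (n * ⟨w, D.le_cent hz (D.z_le_S hw)⟩ * n⁻¹) * n := by rw [hnv]
      _ = _ := by group
  · exact h
  · exfalso
    set w' : C := ⟨w, D.le_cent hz (D.z_le_S hw)⟩
    set z' : C := ⟨z, hzC⟩
    rw [h] at hnv
    have h2 : n * n * w' * (n * n)⁻¹ = w' := by
      calc n * n * w' * (n * n)⁻¹ = n * (n * w' * n⁻¹) * n⁻¹ := by group
        _ = n * z' * n⁻¹ * (n * w' * n⁻¹) := by conv_lhs => rw [hnv]
                                                group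
        _ = z' * (z' * w') := by rw [hzc n, mul_inv_cancel_right, hnv]
        _ = w' := by rw [← mul_assoc, D'.eA _ (mem_inf.1 hz').1, one_mul]
    obtain ⟨m, k, ⟨j, rfl⟩, hk⟩ := exists_odd_pow n
    have hS : n ^ (2 * j + 1) ∈ (P : Subgroup C) := mem_of_two hk (pow_mem hn _)
    have h3 : (n * n) ^ j * w' * ((n * n) ^ j)⁻¹ = w' := by
      have hc : Commute (n * n) w' := by
        show n * n * w' = w' * (n * n)
        calc n * n * w' = n * n * w' * (n * n)⁻¹ * (n * n) := by group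
          _ = _ := by rw [h2]
      rw [(hc.pow_left j).eq, mul_inv_cancel_right]
    have h5 : n ^ (2 * j + 1) * w' * (n ^ (2 * j + 1))⁻¹ = z' * w' := by
      rw [pow_succ', pow_mul, sq, show n * (n * n) ^ j * w' * (n * (n * n) ^ j)⁻¹ =
        n * ((n * n) ^ j * w' * ((n * n) ^ j)⁻¹) * n⁻¹ by group, h3, hnv]
    rw [D'.center_comm hw' hS, mul_inv_cancel_right] at h5
    exact hz1 (congrArg Subtype.val (mul_right_cancel (h5.symm.trans (one_mul w').symm)))

theorem conjZ_mod {z w g : G} (hz : z ∈ A ⊓ B) (hz1 : z ≠ 1) (hw : w ∈ A ⊓ B)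
    (hg : g ∈ centralizer ({z} : Set G)) : w * g * w⁻¹ * g⁻¹ ∈ Oc z := by
  by_cases hw1 : w = 1
  · subst hw1
    rw [one_mul, inv_one, mul_one, mul_inv_cancel]
    exact one_mem _
  exact ⟨_, IsoApps.comm_mem_oddCore (D.isolated hz hz1 hw hw1) ⟨g, hg⟩, rfl⟩

theorem cz_split {z g : G} (hz : z ∈ A ⊓ B) (hz1 : z ≠ 1) (hg : g ∈ centralizer ({z} : Set G)) :
    ∃ o ∈ Oc z, ∃ c ∈ centralizer ((A ⊓ B : Subgroup G) : Set G), g = o * c := by
  obtain ⟨w, hw, hw1, hwz⟩ : ∃ w ∈ A ⊓ B, w ≠ 1 ∧ w ≠ z := by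
    by_contra! h
    have h2 : Nat.card (A ⊓ B : Subgroup G) ≤ Nat.card (zpowers z) := card_le_of_le fun w hw => by
      by_cases hw1 : w = 1
      · exact hw1 ▸ one_mem _
      · exact (h w hw hw1) ▸ mem_zpowers z
    rw [D.cI, Nat.card_zpowers, D.orderA (mem_inf.1 hz).1 hz1] at h2
    omega
  obtain ⟨o, ho, c, hc, e⟩ := IsoApps.exists_mul (D.isolated hz hz1 hw hw1) ⟨g, hg⟩
  refine ⟨o, ⟨o, ho, rfl⟩, c, mem_centralizer_iff.2 fun v hv => ?_, congrArg Subtype.val e⟩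
  have hcz : z * (c : G) = c * z := (mem_centralizer_singleton_iff.1 c.2).symm
  have hcw : w * (c : G) = c * w := (congrArg Subtype.val (mem_centralizer_singleton_iff.1 hc)).symm
  rcases D.exists_third hz hw hz1 hw1 (Ne.symm hwz) hv with rfl | rfl | rfl | rfl
  · rw [one_mul, mul_one]
  · exact hcz
  · exact hcw
  · rw [mul_assoc, hcw, ← mul_assoc, hcz, mul_assoc]

/-- The normalizer of `S` fixing the centre pointwise: cosets. -/
theorem act_A {n : G} (hn : n ∈ normalizer ((S : Subgroup G) : Set G))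
    (hnZ : ∀ w ∈ A ⊓ B, n * w = w * n) {a : G} (ha : a ∈ A) (haB : a ∉ B)
    (h : a * (n * a * n⁻¹) ∈ A ⊓ B) {c : G} (hc : c ∈ A) : c * (n * c * n⁻¹) ∈ A ⊓ B := by
  have hnA := D.normS_le hn
  by_cases hcB : c ∈ B
  · rw [hnZ c (mem_inf.2 ⟨hc, hcB⟩), mul_inv_cancel_right, D.eA c hc]; exact one_mem _
  have hnc : n * c * n⁻¹ ∈ A := conj_mem_of_normalizer hnA hc
  by_cases hac : a * c ∈ B
  · have h1 : n * (a * c) * n⁻¹ = a * c := by
      rw [hnZ _ (mem_inf.2 ⟨mul_mem ha hc, hac⟩), mul_inv_cancel_right]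
    have h2 : n * c * n⁻¹ = n * a * n⁻¹ * (n * (a * c) * n⁻¹) := by
      rw [show n * a * n⁻¹ * (n * (a * c) * n⁻¹) = n * (a * a) * c * n⁻¹ by group, D.eA a ha, mul_one]
    rw [h2, h1, comm_of_sq D.eA hc (mul_mem (conj_mem_of_normalizer hnA ha) (mul_mem ha hc)),
      show n * a * n⁻¹ * (a * c) * c = n * a * n⁻¹ * a * (c * c) by group, D.eA c hc, mul_one,
      comm_of_sq D.eA (conj_mem_of_normalizer hnA ha) ha]
    exact h
  rcases D.cosets ha hc haB hcB hac hnc with e | e | e | e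
  · exfalso
    refine hcB ?_
    have h1 := hnZ _ (mem_inf.2 ⟨hnc, e⟩)
    have : n * c * n⁻¹ = c := by
      calc n * c * n⁻¹ = n⁻¹ * (n * (n * c * n⁻¹)) := by group
        _ = n⁻¹ * (n * c * n⁻¹ * n) := by rw [h1]
        _ = c := by group
    rwa [this] at e
  · exfalso
    refine hac ?_
    have h1 : n * (a * c) * n⁻¹ ∈ A ⊓ B := by
      have h2 := mul_mem h (mem_inf.2 ⟨mul_mem ha hnc, e⟩)
      rwa [comm_of_sq D.eA ha (conj_mem_of_normalizer hnA ha),
        show n * a * n⁻¹ * a * (a * (n * c * n⁻¹)) = n * a * n⁻¹ * (a * a) * (n * c * n⁻¹) by group, D.eA a ha,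
        mul_one, show n * a * n⁻¹ * (n * c * n⁻¹) = n * (a * c) * n⁻¹ by group] at h2
    have h3 := hnZ _ h1
    have : n * (a * c) * n⁻¹ = a * c := by
      calc n * (a * c) * n⁻¹ = n⁻¹ * (n * (n * (a * c) * n⁻¹)) := by group
        _ = n⁻¹ * (n * (a * c) * n⁻¹ * n) := by rw [h3]
        _ = a * c := by group
    rw [this] at h1
    exact (mem_inf.1 h1).2
  · exact mem_inf.2 ⟨mul_mem hc hnc, e⟩
  -- the two other cosets would be interchanged
  exfalso
  set T : Set G := {x | x ∈ A ∧ c * x ∈ A ⊓ B}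
  set T' : Set G := {x | x ∈ A ∧ a * c * x ∈ A ⊓ B}
  have hswap : n * c * n⁻¹ ∈ T' := ⟨hnc, mem_inf.2 ⟨mul_mem (mul_mem ha hc) hnc, e⟩⟩
  have hconj : ∀ x w : G, w ∈ A ⊓ B → n * (x * w) * n⁻¹ = n * x * n⁻¹ * w := fun x w hw => by
    rw [show n * (x * w) * n⁻¹ = n * x * (w * n⁻¹) by group]
    have : w * n⁻¹ = n⁻¹ * w := by
      calc w * n⁻¹ = n⁻¹ * (n * w) * n⁻¹ := by group
        _ = n⁻¹ * (w * n) * n⁻¹ := by rw [hnZ w hw]
        _ = n⁻¹ * w := by group
    rw [this]; group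
  have h2 : n * (n * c * n⁻¹) * n⁻¹ ∈ T := by
    refine ⟨conj_mem_of_normalizer hnA hnc, ?_⟩
    have hu := mem_inf.2 ⟨mul_mem (mul_mem ha hc) hnc, e⟩
    have h4 : n * c * n⁻¹ = a * c * (a * c * (n * c * n⁻¹)) := by
      rw [← mul_assoc, D.eA _ (mul_mem ha hc), one_mul]
    have h5 : n * (n * c * n⁻¹) * n⁻¹ = n * a * n⁻¹ * (n * c * n⁻¹) * (a * c * (n * c * n⁻¹)) := by
      conv_lhs => rw [h4]
      rw [hconj _ _ hu]
      group
    rw [h5, show c * (n * a * n⁻¹ * (n * c * n⁻¹) * (a * c * (n * c * n⁻¹))) =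
      c * (n * a * n⁻¹) * ((n * c * n⁻¹) * (a * c)) * (n * c * n⁻¹) by group,
      comm_of_sq D.eA hnc (mul_mem ha hc),
      show c * (n * a * n⁻¹) * (a * c * (n * c * n⁻¹)) * (n * c * n⁻¹) =
        c * (n * a * n⁻¹ * a) * c * ((n * c * n⁻¹) * (n * c * n⁻¹)) by group,
      D.eA _ hnc, mul_one, comm_of_sq D.eA (conj_mem_of_normalizer hnA ha) ha,
      comm_of_sq D.eA hc (mem_inf.1 h).1, mul_assoc, D.eA c hc, mul_one]
    exact h
  have hT : ∀ x ∈ T, n * (n * x * n⁻¹) * n⁻¹ ∈ T := by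
    rintro x ⟨hx, hcx⟩
    refine ⟨conj_mem_of_normalizer hnA (conj_mem_of_normalizer hnA hx), ?_⟩
    have : x = c * (c * x) := by rw [← mul_assoc, D.eA c hc, one_mul]
    rw [this, hconj _ _ hcx, hconj _ _ hcx, ← mul_assoc]
    exact mul_mem h2.2 hcx
  obtain ⟨m, k, ⟨j, rfl⟩, hk⟩ := exists_odd_pow n
  have hS := mem_of_two hk (pow_mem hn _)
  obtain ⟨w, hw, hcw⟩ := D.conj_coset hc hS
  have hj : ∀ i : ℕ, n ^ (2 * i) * c * (n ^ (2 * i))⁻¹ ∈ T := by
    intro i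
    induction i with
    | zero => exact ⟨by simpa using hc, by simp [D.eA c hc]⟩
    | succ i ih =>
      have := hT _ ih
      rwa [show n ^ (2 * (i + 1)) * c * (n ^ (2 * (i + 1)))⁻¹ =
        n * (n * (n ^ (2 * i) * c * (n ^ (2 * i))⁻¹) * n⁻¹) * n⁻¹ by
        rw [show 2 * (i + 1) = 2 * i + 1 + 1 by ring, pow_succ', pow_succ']; group]
  obtain ⟨hx, hcx⟩ := hj j
  have h1 : n ^ (2 * j + 1) * c * (n ^ (2 * j + 1))⁻¹ = n * c * n⁻¹ * (c * (n ^ (2 * j) * c * (n ^ (2 * j))⁻¹)) := by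
    have h3 : n ^ (2 * j) * c * (n ^ (2 * j))⁻¹ = c * (c * (n ^ (2 * j) * c * (n ^ (2 * j))⁻¹)) := by
      rw [← mul_assoc c c, D.eA c hc, one_mul]
    rw [pow_succ', show n * n ^ (2 * j) * c * (n * n ^ (2 * j))⁻¹ = n * (n ^ (2 * j) * c * (n ^ (2 * j))⁻¹) * n⁻¹ by
      group]
    conv_lhs => rw [h3]
    rw [hconj _ _ hcx]
  rw [h1] at hcw
  have h6 : c * (n * c * n⁻¹) ∈ B := by
    have h7 := mul_mem hw (inv_mem hcx)
    rw [show w * (c * (n ^ (2 * j) * c * (n ^ (2 * j))⁻¹))⁻¹ =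
      c⁻¹ * (c * w) * (c * (n ^ (2 * j) * c * (n ^ (2 * j))⁻¹))⁻¹ by group, ← hcw, inv_eq_of_sq (D.eA c hc)] at h7
    simpa [mul_assoc] using (mem_inf.1 h7).2
  refine haB ?_
  have := mul_mem e (inv_mem h6)
  rwa [show a * c * (n * c * n⁻¹) * (c * (n * c * n⁻¹))⁻¹ = a * c * c⁻¹ by group, mul_inv_cancel_right] at this

theorem act_B {n : G} (hn : n ∈ normalizer ((S : Subgroup G) : Set G))
    (hnZ : ∀ w ∈ A ⊓ B, n * w = w * n) {a : G} (ha : a ∈ A) (haB : a ∉ B)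
    (h : a * (n * a * n⁻¹) ∈ A ⊓ B) {b : G} (hb : b ∈ B) : b * (n * b * n⁻¹) ∈ A ⊓ B := by
  have hb' : n * b * n⁻¹ ∈ B := conj_mem_of_normalizer (D.symm.normS_le hn) hb
  have hna : n * a * n⁻¹ = a * (a * (n * a * n⁻¹)) := by rw [← mul_assoc, D.eA a ha, one_mul]
  set v := a * (n * a * n⁻¹) with hv
  have hc := D.comm_mem ha hb
  have hfix : n * (a * b * a⁻¹ * b⁻¹) * n⁻¹ = a * b * a⁻¹ * b⁻¹ := by rw [hnZ _ hc, mul_inv_cancel_right]
  set b' := n * b * n⁻¹ with hb'def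
  have h1 : a * b' * a⁻¹ * b'⁻¹ = a * b * a⁻¹ * b⁻¹ := by
    have e1 : n * a * n⁻¹ * b' * (n * a * n⁻¹)⁻¹ * b'⁻¹ = a * b * a⁻¹ * b⁻¹ := by
      rw [← hfix, hb'def]; group
    rw [hna, mul_inv_rev, show a * v * b' * (v⁻¹ * a⁻¹) * b'⁻¹ = a * (v * b' * v⁻¹) * a⁻¹ * b'⁻¹ by group,
      D.cen v h b' (D.hB hb'), mul_inv_cancel_right] at e1
    exact e1
  have hcomm : a * (b' * b) = b' * b * a := by
    have hbb := inv_eq_of_sq (D.eB b hb)
    have hbb' := inv_eq_of_sq (D.eB b' hb')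
    rw [inv_eq_of_sq (D.eA a ha), hbb, hbb'] at h1
    have e2 : b' * a * b' = b * a * b := by
      have := congrArg (fun t => a * t) h1
      simp only [← mul_assoc, D.eA a ha, one_mul] at this
      exact this
    calc a * (b' * b) = b' * (b' * a * b') * b := by
          simp only [← mul_assoc, D.eB b' hb', one_mul]
      _ = b' * (b * a * b) * b := by rw [e2]
      _ = b' * b * a * (b * b) := by group
      _ = b' * b * a := by rw [D.eB b hb, mul_one]
  rw [comm_of_sq D.eB hb hb']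
  exact mem_inf.2 ⟨D.selfA a ha haB _ (mul_mem hb' hb) hcomm, mul_mem hb' hb⟩

/-- An element of `N(S) ∩ C(Z)` fixing a nontrivial element of `S/Z` acts trivially on `S/Z`. -/
theorem act_any {n : G} (hn : n ∈ normalizer ((S : Subgroup G) : Set G))
    (hnZ : ∀ w ∈ A ⊓ B, n * w = w * n) {x : G} (hx : x ∈ (S : Subgroup G)) (hxZ : x ∉ A ⊓ B)
    (h : x⁻¹ * (n * x * n⁻¹) ∈ A ⊓ B) : ∀ y ∈ (S : Subgroup G), y⁻¹ * (n * y * n⁻¹) ∈ A ⊓ B := by
  obtain ⟨a, ha, b, hb, rfl⟩ := D.decomp hx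
  have hna := conj_mem_of_normalizer (D.normS_le hn) ha
  have hnb := conj_mem_of_normalizer (D.symm.normS_le hn) hb
  have hmem : a⁻¹ * (n * a * n⁻¹) ∈ A ⊓ B := by
    refine mem_inf.2 ⟨mul_mem (inv_mem ha) hna, ?_⟩
    rw [show a⁻¹ * (n * a * n⁻¹) = b * ((a * b)⁻¹ * (n * (a * b) * n⁻¹)) * (n * b * n⁻¹)⁻¹ by group]
    exact mul_mem (mul_mem hb (mem_inf.1 h).2) (inv_mem hnb)
  have hmemb : b * (n * b * n⁻¹) ∈ A ⊓ B := by
    refine mem_inf.2 ⟨?_, mul_mem hb hnb⟩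
    have h1 := (mem_inf.1 h).1
    rw [show (a * b)⁻¹ * (n * (a * b) * n⁻¹) = b⁻¹ * (a⁻¹ * (n * a * n⁻¹)) * (n * b * n⁻¹) by group,
      ← D.cen _ hmem _ (inv_mem (D.hB hb)), inv_eq_of_sq (D.eB b hb), mul_assoc] at h1
    exact (mul_mem_cancel_left (mem_inf.1 hmem).1).1 h1
  rw [inv_eq_of_sq (D.eA a ha)] at hmem
  have hnZ' : ∀ w ∈ B ⊓ A, n * w = w * n := fun w hw => hnZ w (by rwa [inf_comm])
  have hall : (∀ c ∈ A, c * (n * c * n⁻¹) ∈ A ⊓ B) ∧ ∀ d ∈ B, d * (n * d * n⁻¹) ∈ A ⊓ B := by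
    by_cases haB : a ∈ B
    · have hbA : b ∉ A := fun hbA => hxZ (mem_inf.2 ⟨mul_mem ha hbA, mul_mem haB hb⟩)
      rw [inf_comm] at hmemb
      exact ⟨fun c hc => by rw [inf_comm]; exact D.symm.act_B hn hnZ' hb hbA hmemb hc,
        fun d hd => by rw [inf_comm]; exact D.symm.act_A hn hnZ' hb hbA hmemb hd⟩
    · exact ⟨fun c hc => D.act_A hn hnZ ha haB hmem hc, fun d hd => D.act_B hn hnZ ha haB hmem hd⟩
  intro y hy
  obtain ⟨c, hc, d, hd, rfl⟩ := D.decomp hy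
  have h1 := hall.1 c hc
  have h2 := hall.2 d hd
  rw [show (c * d)⁻¹ * (n * (c * d) * n⁻¹) = d⁻¹ * (c⁻¹ * (n * c * n⁻¹)) * (n * d * n⁻¹) by group,
    inv_eq_of_sq (D.eA c hc), ← D.cen _ h1 _ (inv_mem (D.hB hd)), mul_assoc, inv_eq_of_sq (D.eB d hd)]
  exact mul_mem h1 h2

theorem sq_cent {n : G} (hnZ : ∀ w ∈ A ⊓ B, n * w = w * n)
    (h : ∀ y ∈ (S : Subgroup G), y⁻¹ * (n * y * n⁻¹) ∈ A ⊓ B) :
    n * n ∈ centralizer ((S : Subgroup G) : Set G) := by
  refine mem_centralizer_iff.2 fun y hy => ?_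
  have hv := h y hy
  set v := y⁻¹ * (n * y * n⁻¹) with hvdef
  have hy1 : n * y * n⁻¹ = y * v := by rw [hvdef]; group
  have : n * n * y * (n * n)⁻¹ = y := by
    calc n * n * y * (n * n)⁻¹ = n * (n * y * n⁻¹) * n⁻¹ := by group
      _ = n * y * (v * n⁻¹) := by rw [hy1]; group
      _ = n * y * (n⁻¹ * (n * v) * n⁻¹) := by group
      _ = n * y * (n⁻¹ * (v * n) * n⁻¹) := by rw [hnZ v hv]
      _ = n * y * n⁻¹ * v := by group
      _ = y := by rw [hy1, mul_assoc, D.eA v (mem_inf.1 hv).1, mul_one]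
  calc y * (n * n) = n * n * y * (n * n)⁻¹ * (n * n) := by rw [this]
    _ = n * n * y := by group

/-- The structure of the centralizer of the centre. -/
theorem cZ_decomp {c : G} (hc : c ∈ centralizer ((A ⊓ B : Subgroup G) : Set G)) :
    ∃ o ∈ (Cfsg.oddCore (centralizer ((A ⊓ B : Subgroup G) : Set G))).map
        (centralizer ((A ⊓ B : Subgroup G) : Set G)).subtype,
      ∃ n ∈ normalizer ((S : Subgroup G) : Set G),
        n ∈ centralizer ((A ⊓ B : Subgroup G) : Set G) ∧ c = o * n := by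
  classical
  set C := centralizer ((A ⊓ B : Subgroup G) : Set G) with hC
  have hSC : (S : Subgroup G) ≤ C := D.le_centZ
  set S' := S.subtype hSC
  haveI : ((A ⊓ B : Subgroup G).subgroupOf C).Normal := ⟨fun v hv g => by
    have : g * v * g⁻¹ = v := Subtype.ext (by
      push_cast
      rw [mem_centZ_iff.1 g.2 (v : G) hv, mul_inv_cancel_right])
    rwa [this]⟩
  haveI : (Cfsg.oddCore C).Normal := ocore_normal
  set O := Cfsg.oddCore C
  set K := (A ⊓ B : Subgroup G).subgroupOf C ⊔ O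
  set π := QuotientGroup.mk' K
  have hπ : Function.Surjective π := QuotientGroup.mk'_surjective K
  haveI : Fact (Nat.Prime 2) := ⟨Nat.prime_two⟩
  set P := S'.mapSurjective hπ
  have hK : ∀ x : C, x ∈ K → ∃ w, w ∈ (A ⊓ B : Subgroup G).subgroupOf C ∧ ∃ o ∈ O, x = w * o := fun x hx => by
    rw [← SetLike.mem_coe, Subgroup.normal_mul] at hx
    obtain ⟨w, hw, o, ho, rfl⟩ := hx
    exact ⟨w, hw, o, ho, rfl⟩
  have hKS : ∀ x : C, (x : G) ∈ (S : Subgroup G) → x ∈ K → (x : G) ∈ A ⊓ B := by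
    intro x hx hxK
    obtain ⟨w, hw, o, ho, rfl⟩ := hK x hxK
    have hoS : o ∈ (S' : Subgroup C) := by
      have h1 : w ∈ (S' : Subgroup C) := D.z_le_S hw
      exact (mul_mem_cancel_left h1).1 hx
    rw [inf_eq_bot_of_odd ocore_odd S'.2 ho hoS, mul_one]
    exact hw
  have hpi : ∀ x : C, π x = 1 ↔ x ∈ K := fun x => QuotientGroup.eq_one_iff x
  have hsqP : ∀ p ∈ (P : Subgroup (C ⧸ K)), p * p = 1 := by
    rintro _ ⟨x, hx, rfl⟩
    rw [← map_mul, hpi]
    exact mem_sup_left (D.sq_mem hx)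
  have hP : (P : Subgroup (C ⧸ K)).Normal := by
    have hmul : (16 : ℕ) ≤ Nat.card (P : Subgroup (C ⧸ K)) := by
      let f : (S' : Subgroup C) →* (C ⧸ K) := π.comp (S' : Subgroup C).subtype
      have hr : f.range = (P : Subgroup (C ⧸ K)) := by
        rw [MonoidHom.range_comp, range_subtype]; rfl
      have h1 := f.ker.card_mul_index
      have hcS : Nat.card (S' : Subgroup C) = 64 := (Nat.card_congr (subgroupOfEquivOfLe hSC).toEquiv).trans D.cS
      rw [index_ker, hr, hcS] at h1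
      have h2 : Nat.card f.ker ≤ 4 := by
        rw [← D.cI]
        refine Nat.card_le_card_of_injective (fun x => (⟨((x : (S' : Subgroup C)) : C), hKS _ x.1.2 ((hpi _).1 x.2)⟩ :
          (A ⊓ B : Subgroup G))) fun x y e => ?_
        exact Subtype.ext (Subtype.ext (Subtype.ext (congrArg Subtype.val e :)))
      have h3 := Nat.mul_le_mul_right (Nat.card (P : Subgroup (C ⧸ K))) h2
      omega
    -- an element of the normalizer of `S` fixing a coset
    have hlift : ∀ v ∈ normalizer ((P : Subgroup (C ⧸ K)) : Set (C ⧸ K)), ∃ n : C,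
        (n : G) ∈ normalizer ((S : Subgroup G) : Set G) ∧ π n = v := by
      intro v hv
      obtain ⟨n, hn, rfl⟩ := sylow_lift π hπ S' hv
      refine ⟨n, mem_normalizer_of_conj_mem fun x hx => ?_, rfl⟩
      exact (mem_normalizer_iff.1 hn ⟨x, hSC hx⟩).1 hx
    refine sylow_normal P hsqP (by omega) ?_ ?_ ?_
    · rintro v hv _ ⟨x, hx, rfl⟩ hp1 hcomm
      obtain ⟨n, hn, rfl⟩ := hlift v hv
      have hnZ := mem_centZ_iff.1 n.2
      have hxZ : (x : G) ∉ A ⊓ B := fun h => hp1 ((hpi _).2 (mem_sup_left h))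
      have hfix : (x : G)⁻¹ * ((n : G) * x * (n : G)⁻¹) ∈ A ⊓ B := by
        refine hKS (x⁻¹ * (n * x * n⁻¹)) ?_ ?_
        · push_cast
          exact mul_mem (inv_mem hx) (conj_mem_of_normalizer hn hx)
        · rw [← hpi, map_mul, map_mul, map_mul, map_inv, map_inv, hcomm]
          group
      have hall := D.act_any hn hnZ hx hxZ hfix
      refine mem_centralizer_iff.2 ?_
      rintro _ ⟨y, hy, rfl⟩
      rw [← map_mul, ← map_mul]
      refine QuotientGroup.eq.2 (mem_sup_left ?_)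
      show ((y : G) * n)⁻¹ * (n * y) ∈ A ⊓ B
      have h1 := hall y hy
      rw [show ((y : G) * n)⁻¹ * (n * y) = (n : G)⁻¹ * ((y : G)⁻¹ * ((n : G) * y * (n : G)⁻¹)) * n by group,
        mul_assoc, ← hnZ _ h1, inv_mul_cancel_left]
      exact h1
    · obtain ⟨a, ha, haB⟩ := D.exists_noncentral
      obtain ⟨b, hb, hbA⟩ := D.symm.exists_noncentral
      refine ⟨π ⟨a, hSC (D.hA ha)⟩, mem_map_of_mem π (show (⟨a, hSC (D.hA ha)⟩ : C) ∈ (S' : Subgroup C) from D.hA ha),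
        π ⟨b, hSC (D.hB hb)⟩, mem_map_of_mem π (show (⟨b, hSC (D.hB hb)⟩ : C) ∈ (S' : Subgroup C) from D.hB hb),
        ?_, ?_, ?_⟩
      · rw [ne_eq, hpi]
        exact fun h => haB (mem_inf.1 (hKS _ (D.hA ha) h)).2
      · rw [ne_eq, hpi]
        exact fun h => hbA (mem_inf.1 (hKS _ (D.hB hb) h)).1
      · intro hc
        obtain ⟨g, hg⟩ := isConj_iff.1 hc
        have hPc : ∀ y ∈ (P : Subgroup (C ⧸ K)), y ∈ centralizer ((P : Subgroup (C ⧸ K)) : Set (C ⧸ K)) :=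
          fun y hy => mem_centralizer_iff.2 fun x hx => comm_of_sq hsqP hx hy
        obtain ⟨v, hv, e⟩ := P.conj_eq_normalizer_conj_of_mem_centralizer _ g⁻¹
          (hPc _ (mem_map_of_mem π (show (⟨a, hSC (D.hA ha)⟩ : C) ∈ (S' : Subgroup C) from D.hA ha)))
          (by rw [inv_inv, hg]
              exact hPc _ (mem_map_of_mem π (show (⟨b, hSC (D.hB hb)⟩ : C) ∈ (S' : Subgroup C) from D.hB hb)))
        rw [inv_inv, hg] at e
        obtain ⟨n, hn, e2⟩ := hlift _ (inv_mem hv)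
        rw [show v = (π n)⁻¹ by rw [e2, inv_inv]] at e
        rw [inv_inv, ← map_inv, ← map_mul, ← map_mul, QuotientGroup.mk'_apply, QuotientGroup.mk'_apply,
          QuotientGroup.eq] at e
        have h2 := hKS _ (by
          push_cast
          exact mul_mem (inv_mem (D.hB hb)) (conj_mem_of_normalizer hn (D.hA ha))) e
        refine hbA ?_
        push_cast at h2
        have h3 := mul_mem (conj_mem_of_normalizer (D.normS_le hn) ha) (inv_mem (mem_inf.1 h2).1)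
        rwa [show (n : G) * a * (n : G)⁻¹ * (b⁻¹ * ((n : G) * a * (n : G)⁻¹))⁻¹ = b by group] at h3
    · rw [eq_bot_iff]
      intro v hv
      obtain ⟨x, rfl⟩ := hπ v
      rw [mem_bot, hpi]
      haveI : (Cfsg.oddCore (C ⧸ K)).Normal := ocore_normal
      set L := (Cfsg.oddCore (C ⧸ K)).comap π
      have hKL : K ≤ L := fun y hy => by
        rw [mem_comap, (hpi y).2 hy]; exact one_mem _
      -- `L` has a central Sylow 2-subgroup
      have hxL : x ∈ L := hv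
      obtain ⟨Q, hQ⟩ := (show IsPGroup 2 (((A ⊓ B : Subgroup G).subgroupOf C).subgroupOf L) from
        ((isPGroup_of_sq fun w hw => D.eA w (mem_inf.1 hw).1).comap_subtype).comap_subtype).exists_le_sylow
      have hQz : ∀ y ∈ (Q : Subgroup L), ((y : C) : G) ∈ A ⊓ B := by
        intro y hy
        obtain ⟨k, hk⟩ := Q.2 ⟨y, hy⟩
        have hk' : (y : L) ^ 2 ^ k = 1 := congrArg Subtype.val hk
        have hp : π (y : C) = 1 := by
          refine eq_one_odd_two (k := k) (odd_orderOf_of_mem ocore_odd y.2) ?_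
          rw [← map_pow]
          have : ((y : C)) ^ 2 ^ k = 1 := congrArg Subtype.val hk'
          rw [this, map_one]
        obtain ⟨w, hw, o, ho, e⟩ := hK _ ((hpi _).1 hp)
        have hwQ : (⟨w, hKL (mem_sup_left hw)⟩ : L) ∈ (Q : Subgroup L) := hQ hw
        have hoQ : (⟨o, hKL (mem_sup_right ho)⟩ : L) ∈ (Q : Subgroup L) := by
          have e' : y = ⟨w, hKL (mem_sup_left hw)⟩ * ⟨o, hKL (mem_sup_right ho)⟩ := Subtype.ext e
          rw [e'] at hy
          exact (mul_mem_cancel_left hwQ).1 hy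
        have : o = 1 := inf_eq_bot_of_odd ocore_odd (Q.2.map L.subtype) ho ⟨_, hoQ, rfl⟩
        rw [e, this, mul_one]
        exact hw
      obtain ⟨h1, -⟩ := twoNil Q (fun n _ => mem_centralizer_iff.2 fun y hy => Subtype.ext (Subtype.ext
        (mem_centZ_iff.1 (n : C).2 _ (hQz y hy)).symm))
      obtain ⟨o, ho, q, hq, e⟩ := h1 ⟨x, hxL⟩
      have hle : (Cfsg.oddCore L).map L.subtype ≤ O := by
        haveI : L.Normal := Normal.comap inferInstance π
        refine le_ocore (normalizer_eq_top_iff.1 (top_le_iff.1 ?_)) (by rw [card_map_of_injective L.subtype_injective]; exact ocore_odd)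
        exact (normalizer_eq_top_iff.2 (inferInstance : L.Normal)).ge.trans
          (LocalBalance.normalizer_le_normalizer_core (p := 2) L)
      rw [show x = (o : C) * q from congrArg Subtype.val e]
      exact mul_mem (mem_sup_right (hle ⟨o, ho, rfl⟩)) (mem_sup_left (hQz q hq))
  obtain ⟨n, hn, e⟩ := sylow_lift π hπ S' (v := π ⟨c, hc⟩) (by
    rw [show ((S' : Subgroup C).map π) = (P : Subgroup (C ⧸ K)) from rfl, normalizer_eq_top_iff.2 hP]
    exact mem_top _)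
  obtain ⟨w, hw, o, ho, e'⟩ := hK (⟨c, hc⟩ * n⁻¹) ((hpi _).1 (by rw [map_mul, map_inv, e, mul_inv_cancel]))
  have hn' : (n : G) ∈ normalizer ((S : Subgroup G) : Set G) := mem_normalizer_of_conj_mem fun x hx =>
    (mem_normalizer_iff.1 hn ⟨x, hSC hx⟩).1 hx
  refine ⟨o, ⟨o, ho, rfl⟩, (w : G) * n, mul_mem (le_normalizer (D.z_le_S hw)) hn', mul_mem w.2 n.2, ?_⟩
  have h1 : c * (n : G)⁻¹ = (w : G) * o := congrArg Subtype.val e'
  calc c = c * (n : G)⁻¹ * n := by group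
    _ = (w : G) * o * n := by rw [h1]
    _ = (o : G) * w * n := by rw [mem_centZ_iff.1 o.2 w hw]
    _ = _ := by group

/-- The structure of the centralizer of a central involution. -/
theorem cz_decomp {z g : G} (hz : z ∈ A ⊓ B) (hz1 : z ≠ 1) (hg : g ∈ centralizer ({z} : Set G)) :
    ∃ o ∈ Oc z, ∃ n ∈ normalizer ((S : Subgroup G) : Set G),
      n ∈ centralizer ((A ⊓ B : Subgroup G) : Set G) ∧ g = o * n := by
  set C := centralizer ((A ⊓ B : Subgroup G) : Set G)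
  set O' := (Cfsg.oddCore C).map C.subtype
  have hCz : C ≤ centralizer ({z} : Set G) := fun c hc => mem_centralizer_singleton_iff.2 (mem_centZ_iff.1 hc z hz)
  have hO' : O' ≤ Oc z := by
    refine le_Oc_of_mod ((map_subtype_le _).trans hCz)
      (by rw [card_map_of_injective C.subtype_injective]; exact ocore_odd) fun x hx => ?_
    obtain ⟨o, ho, c, hc, rfl⟩ := D.cz_split hz hz1 hx
    refine ⟨o, ho, c, ?_, mem_centralizer_singleton_iff.1 (hCz hc), rfl⟩
    exact (le_normalizer.trans (LocalBalance.normalizer_le_normalizer_core (p := 2) C)) hc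
  obtain ⟨o, ho, c, hc, rfl⟩ := D.cz_split hz hz1 hg
  obtain ⟨o', ho', n, hn, hnC, rfl⟩ := D.cZ_decomp hc
  exact ⟨o * o', mul_mem ho (hO' ho'), n, hn, hnC, by group⟩

/-- Elements centralizing `S`. -/
theorem cS_decomp {z h : G} (hz : z ∈ A ⊓ B) (hz1 : z ≠ 1) (hh : h ∈ centralizer ((S : Subgroup G) : Set G)) :
    ∃ o ∈ Oc z, ∃ w ∈ A ⊓ B, h = o * w := by
  haveI : Fact (Nat.Prime 2) := ⟨Nat.prime_two⟩
  set H := centralizer ((S : Subgroup G) : Set G)
  have hZH : A ⊓ B ≤ H := fun w hw => mem_centralizer_iff.2 fun x hx => D.center_comm hw hx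
  obtain ⟨Q, hQ⟩ := ((isPGroup_of_sq fun w hw => D.eA w (mem_inf.1 hw).1).comap_subtype :
    IsPGroup 2 ((A ⊓ B : Subgroup G).subgroupOf H)).exists_le_sylow
  have hQz : ∀ y ∈ (Q : Subgroup H), (y : G) ∈ A ⊓ B := by
    intro y hy
    obtain ⟨k, hk⟩ := Q.2 ⟨y, hy⟩
    have hk' : (y : G) ^ 2 ^ k = 1 := congrArg (fun t : (Q : Subgroup H) => ((t : H) : G)) hk
    have hyS : (y : G) ∈ (S : Subgroup G) := mem_of_two hk' (centralizer_le_normalizer _ y.2)
    have hc : ∀ x ∈ (S : Subgroup G), (y : G) * x = x * y := fun x hx => (mem_centralizer_iff.1 y.2 x hx).symm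
    obtain ⟨a, ha, haB⟩ := D.exists_noncentral
    obtain ⟨b, hb, hbA⟩ := D.symm.exists_noncentral
    exact mem_inf.2 ⟨D.centA ha haB hyS (hc a (D.hA ha)), D.symm.centA hb hbA hyS (hc b (D.hB hb))⟩
  obtain ⟨h1, -⟩ := twoNil Q (fun n _ => mem_centralizer_iff.2 fun y hy => Subtype.ext
    (mem_centralizer_iff.1 n.2 _ (D.z_le_S (hQz y hy))))
  obtain ⟨o, ho, q, hq, e⟩ := h1 ⟨h, hh⟩
  refine ⟨o, ?_, q, hQz q hq, congrArg Subtype.val e⟩
  have hHz : H ≤ centralizer ({z} : Set G) := fun x hx => mem_centralizer_singleton_iff.2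
    (mem_centralizer_iff.1 hx z (D.z_le_S hz)).symm
  refine le_Oc_of_mod (z := z) (N := (Cfsg.oddCore H).map H.subtype) ((map_subtype_le _).trans hHz)
    (by rw [card_map_of_injective H.subtype_injective]; exact ocore_odd) (fun x hx => ?_) ⟨o, ho, rfl⟩
  obtain ⟨o', ho', n, hn, hnC, rfl⟩ := D.cz_decomp hz hz1 hx
  exact ⟨o', ho', n, LocalBalance.normalizer_le_normalizer_core (p := 2) H
    (LocalBalance.normalizer_le_normalizer_centralizer _ hn), mem_centZ_iff.1 hnC z hz, rfl⟩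

/-- The centralizer in `C(z)` of a non-central element of `A`. -/
theorem cza_decomp {z a g : G} (hz : z ∈ A ⊓ B) (hz1 : z ≠ 1) (ha : a ∈ A) (haB : a ∉ B)
    (hgz : g ∈ centralizer ({z} : Set G)) (hga : g * a = a * g) :
    ∃ o ∈ Oc z, ∃ x ∈ A, o * a = a * o ∧ g = o * x := by
  obtain ⟨o, ho, n, hn, hnC, rfl⟩ := D.cz_decomp hz hz1 hgz
  have hnZ := mem_centZ_iff.1 hnC
  have haz : a ∈ centralizer ({z} : Set G) := D.le_cent hz (D.hA ha)
  have hna : n * a * n⁻¹ * a⁻¹ = 1 := by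
    refine inf_eq_bot_of_odd (Oc_odd z) (isPGroup_of_sq D.eA) ?_
      (mul_mem (conj_mem_of_normalizer (D.normS_le hn) ha) (inv_mem ha))
    have : n * a * n⁻¹ * a⁻¹ = o⁻¹ * (a * o * a⁻¹) := by
      calc n * a * n⁻¹ * a⁻¹ = o⁻¹ * (o * n * a) * n⁻¹ * a⁻¹ := by group
        _ = o⁻¹ * (a * (o * n)) * n⁻¹ * a⁻¹ := by rw [hga]
        _ = _ := by group
    rw [this]
    exact mul_mem (inv_mem ho) (conj_mem_of_normalizer (cent_le_normalizer_Oc z haz) ho)
  have hna' : n * a = a * n := mul_inv_eq_iff_eq_mul.1 (mul_inv_eq_one.1 hna)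
  have hall := D.act_any hn hnZ (D.hA ha) (fun h => haB (mem_inf.1 h).2) (by
    rw [hna', mul_inv_cancel_right, inv_mul_cancel]; exact one_mem _)
  obtain ⟨o₁, ho₁, w, hw, he⟩ := D.cS_decomp hz hz1 (D.sq_cent hnZ hall)
  have h4 : n ^ 4 ∈ Oc z := by
    have hwz : w ∈ centralizer ({z} : Set G) := D.le_cent hz (D.z_le_S hw)
    rw [show n ^ 4 = n * n * (n * n) by simp only [pow_succ, pow_zero, one_mul, mul_assoc], he,
      show o₁ * w * (o₁ * w) = o₁ * (w * o₁ * w⁻¹) * (w * w) by group, D.eA w (mem_inf.1 hw).1, mul_one]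
    exact mul_mem ho₁ (conj_mem_of_normalizer (cent_le_normalizer_Oc z hwz) ho₁)
  obtain ⟨m, k, hm, hk⟩ := exists_odd_pow n
  have hx : (n ^ m) ^ m ∈ A := pow_mem (D.centA ha haB (mem_of_two hk (pow_mem hn m))
    ((show Commute n a from hna').pow_left m).eq) m
  obtain ⟨j, hj⟩ := hm
  have hmm : (n ^ m) ^ m = n * (n ^ 4) ^ (j * j + j) := by
    rw [← pow_mul, ← pow_mul, ← pow_succ', hj]
    ring_nf
  refine ⟨o * ((n ^ m) ^ m * n⁻¹)⁻¹, mul_mem ho (inv_mem ?_), _, hx, ?_, by group⟩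
  · rw [hmm]
    exact conj_mem_of_normalizer (cent_le_normalizer_Oc z
      (mem_centralizer_singleton_iff.2 (hnZ z hz))) (pow_mem h4 _)
  · have hc : Commute (o * n) a := hga
    have hcx : Commute ((n ^ m) ^ m) a := comm_of_sq D.eA hx ha
    have := hc.mul_left hcx.inv_left
    rw [show o * ((n ^ m) ^ m * n⁻¹)⁻¹ = o * n * ((n ^ m) ^ m)⁻¹ by group]
    exact this.eq

/-- Odd elements of `C(z) ∩ C(a)` lie in the core. -/
theorem key {z a g : G} (hz : z ∈ A ⊓ B) (hz1 : z ≠ 1) (ha : a ∈ A) (haB : a ∉ B)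
    (hgz : g ∈ centralizer ({z} : Set G)) (hga : g * a = a * g) (hg : Odd (orderOf g)) : g ∈ Oc z := by
  obtain ⟨o, ho, x, hx, -, rfl⟩ := D.cza_decomp hz hz1 ha haB hgz hga
  have hxz : x ∈ centralizer ({z} : Set G) := D.le_cent hz (D.hA hx)
  have h2 : (o * x) * (o * x) ∈ Oc z := by
    rw [show o * x * (o * x) = o * (x * o * x⁻¹) * (x * x) by group, D.eA x hx, mul_one]
    exact mul_mem ho (conj_mem_of_normalizer (cent_le_normalizer_Oc z hxz) ho)
  obtain ⟨k, hk⟩ := hg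
  have := pow_mem h2 (k + 1)
  rwa [← sq, ← pow_mul, show 2 * (k + 1) = 2 * k + 1 + 1 by ring, pow_succ, ← hk, pow_orderOf_eq_one,
    one_mul] at this

/-- Balance towards central involutions. -/
theorem bal_z {z e x : G} (hz : z ∈ A ⊓ B) (hz1 : z ≠ 1) (he : e ∈ A ∨ e ∈ B)
    (hx : x ∈ Oc e) (hxz : x * z = z * x) : x ∈ Oc z := by
  have hxC : x ∈ centralizer ({z} : Set G) := mem_centralizer_singleton_iff.2 hxz
  by_cases h : e ∈ A ⊓ B
  · set N := Oc e ⊓ centralizer ({z} : Set G)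
    refine le_Oc_of_mod (z := z) (N := N) inf_le_right (Odd.of_dvd_nat (Oc_odd e) (card_dvd_of_le inf_le_left))
      (fun g hg => ?_) ⟨hx, hxC⟩
    obtain ⟨o, ho, c, hc, rfl⟩ := D.cz_split hz hz1 hg
    have hcz : c ∈ centralizer ({z} : Set G) := mem_centralizer_singleton_iff.2 (mem_centZ_iff.1 hc z hz)
    refine ⟨o, ho, c, inf_normalizer_le_normalizer_inf (mem_inf.2 ⟨cent_le_normalizer_Oc e
      (mem_centralizer_singleton_iff.2 (mem_centZ_iff.1 hc e h)), le_normalizer hcz⟩),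
      mem_centralizer_singleton_iff.1 hcz, rfl⟩
  have ho := odd_orderOf_of_mem (Oc_odd e) hx
  rcases he with he | he
  · exact D.key hz hz1 he (fun hB => h (mem_inf.2 ⟨he, hB⟩)) hxC (Oc_comm hx) ho
  · exact D.symm.key (by rwa [inf_comm]) hz1 he (fun hA => h (mem_inf.2 ⟨hA, he⟩)) hxC (Oc_comm hx) ho

end Dat

end CfsgLib.SylL34
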