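import Cfsg.Agent.SylL34.Affine
import Cfsg.Agent.SylL34.Moving

/-!
`A` normal with trivial odd core: the invariant spreads and the embedding.
-/

set_option autoImplicit false
set_option linter.unusedSectionVars false
set_option linter.unusedSimpArgs false
set_option linter.style.haveILetI false

namespace CfsgLib.SylL34

open Subgroup

variable {G : Type*} [Group G] [Finite G]

/-- The conjugates of a subgroup. -/
theorem card_cj_orbit (T : Subgroup G) :
    Nat.card {T' : Subgroup G // ∃ g, cj g T = T'} * Nat.card (normalizer (T : Set G)) = Nat.card G := by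
  let f : G ⧸ normalizer (T : Set G) → {T' : Subgroup G // ∃ g, cj g T = T'} := fun q => Quotient.liftOn' q
    (fun g => ⟨cj g T, g, rfl⟩) fun g h hgh => by
      refine Subtype.ext ?_
      have h1 := congrArg (cj g) (cj_of_mem_normalizer (QuotientGroup.leftRel_apply.1 hgh))
      rw [cj_cj, mul_inv_cancel_left] at h1
      exact h1.symm
  have hf : Function.Bijective f := by
    constructor
    · intro p q
      induction p using Quotient.inductionOn' with
      | h g =>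
      induction q using Quotient.inductionOn' with
      | h h =>
      intro e
      have e' : cj g T = cj h T := congrArg Subtype.val e
      exact QuotientGroup.eq.2 (mem_normalizer_of_cj (by rw [← cj_cj, ← e', cj_inv_cj]))
    · rintro ⟨_, g, rfl⟩
      exact ⟨QuotientGroup.mk g, rfl⟩
  rw [← Nat.card_congr (Equiv.ofBijective f hf), ← index_eq_card, mul_comm, card_mul_index]

/-- A complement to the centre in `A`. -/
def Cpl (A B T : Subgroup G) : Prop := T ≤ A ∧ Nat.card T = 4 ∧ ∀ x ∈ T, x ∈ B → x = 1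

namespace Dat

variable {S : Sylow 2 G} {A B : Subgroup G} (D : Dat S A B)
include D

theorem cent_le (hn : A.Normal) (hO : Cfsg.oddCore G = ⊥) : centralizer (A : Set G) ≤ A := by
  haveI : Fact (Nat.Prime 2) := ⟨Nat.prime_two⟩
  haveI := hn
  set K := centralizer (A : Set G) with hK
  have hKn : K.Normal := Subgroup.normal_centralizer
  have hAK : A ≤ K := fun x hx => mem_centralizer_iff.2 fun y hy => comm_of_sq D.eA hy hx
  obtain ⟨P, hP⟩ := ((isPGroup_of_sq D.eA).comap_subtype : IsPGroup 2 (A.subgroupOf K)).exists_le_sylow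
  have hPA : ∀ p ∈ (P : Subgroup K), (p : G) ∈ A := by
    intro p hp
    obtain ⟨g, hg⟩ := exists_cj_le S (P.2.map K.subtype)
    obtain ⟨a, ha, haB⟩ := D.exists_noncentral
    have h1 : g * p * g⁻¹ ∈ (S : Subgroup G) := hg (conj_mem_cj.2 ⟨p, hp, rfl⟩)
    have ha' : g⁻¹ * a * g ∈ A := by simpa using hn.conj_mem a ha g⁻¹
    have h2 := D.centA ha haB h1 (by
      calc g * p * g⁻¹ * a = g * (p * (g⁻¹ * a * g)) * g⁻¹ := by group
        _ = g * ((g⁻¹ * a * g) * p) * g⁻¹ := by rw [mem_centralizer_iff.1 p.2 _ ha']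
        _ = a * (g * p * g⁻¹) := by group)
    simpa [mul_assoc] using hn.conj_mem _ h2 g⁻¹
  obtain ⟨h1, -⟩ := twoNil P (fun k _ => mem_centralizer_iff.2 fun x hx => Subtype.ext
    (mem_centralizer_iff.1 k.2 x (hPA x hx)))
  have hcore : (Cfsg.oddCore K).map K.subtype ≤ ⊥ := by
    rw [← hO]
    refine le_ocore (normalizer_eq_top_iff.1 (top_le_iff.1 ?_))
      (by rw [card_map_of_injective K.subtype_injective]; exact ocore_odd)
    exact (normalizer_eq_top_iff.2 hKn).ge.trans (LocalBalance.normalizer_le_normalizer_core (p := 2) K)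
  intro k hk
  obtain ⟨o, ho, p, hp, e⟩ := h1 ⟨k, hk⟩
  have ho1 : (o : G) = 1 := mem_bot.1 (hcore ⟨o, ho, rfl⟩)
  rw [show k = (o : G) * p from congrArg Subtype.val e, ho1, one_mul]
  exact hPA p hp

theorem small_of_normal (hn : A.Normal) (hC : centralizer (A : Set G) ≤ A) : Small S A B := by
  refine D.small_of_core fun z hz _ => eq_bot_iff.2 fun o ho => mem_bot.2 ?_
  refine inf_eq_bot_of_odd (Oc_odd z) (isPGroup_of_sq D.eA) ho (hC (mem_centralizer_iff.2 fun a ha => ?_))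
  have haz : a ∈ centralizer ({z} : Set G) := mem_centralizer_singleton_iff.2 (comm_of_sq D.eA ha hz.1)
  have h1 : o * a * o⁻¹ * a⁻¹ ∈ A := mul_mem (hn.conj_mem a ha o) (inv_mem ha)
  have h2 : o * a * o⁻¹ * a⁻¹ ∈ Oc z := by
    rw [show o * a * o⁻¹ * a⁻¹ = o * (a * o⁻¹ * a⁻¹) by group]
    exact mul_mem ho (conj_mem_of_normalizer (cent_le_normalizer_Oc z haz) (inv_mem ho))
  exact (mul_inv_eq_iff_eq_mul.1 (mul_inv_eq_one.1
    (inf_eq_bot_of_odd (Oc_odd z) (isPGroup_of_sq D.eA) h2 h1))).symm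

theorem spreadII (hA : Fus A B) (hn : A.Normal) (hSm : Small S A B) :
    Spread A B {T | ∃ g : G, cj g (A ⊓ B) = T} := by
  refine ⟨⟨1, cj_one _⟩, ?_, ?_, ?_, ?_, ?_⟩
  · rintro _ ⟨g, rfl⟩ x hx
    have := hn.conj_mem _ (mem_cj.1 hx).1 g
    simpa [mul_assoc] using this
  · rintro _ ⟨g, rfl⟩
    rw [card_cj, D.cI]
  · intro a ha ha1
    obtain ⟨z, hz, hz1⟩ := D.exists_zne
    obtain ⟨n, -, rfl⟩ := D.exists_to hA hz hz1 ha ha1
    exact ⟨_, ⟨n, rfl⟩, conj_mem_cj.2 hz⟩
  · rintro _ ⟨g, rfl⟩ _ ⟨h, rfl⟩ x hx hx' hx1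
    rw [mem_cj] at hx hx'
    obtain ⟨n, hnS, e⟩ := D.burn hx hx' (g := h⁻¹ * g) (by group)
    have hv1 : g⁻¹ * x * g ≠ 1 := fun e => hx1 (by
      calc x = g * (g⁻¹ * x * g) * g⁻¹ := by group
        _ = 1 := by rw [e]; group)
    have hc : n⁻¹ * (h⁻¹ * g) ∈ centralizer ({g⁻¹ * x * g} : Set G) := mem_centralizer_singleton_iff.2 (by
      calc n⁻¹ * (h⁻¹ * g) * (g⁻¹ * x * g) = n⁻¹ * (h⁻¹ * x * h) * (h⁻¹ * g) := by group
        _ = n⁻¹ * (n * (g⁻¹ * x * g) * n⁻¹) * (h⁻¹ * g) := by rw [e]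
        _ = g⁻¹ * x * g * (n⁻¹ * (h⁻¹ * g)) := by group)
    have hk : h⁻¹ * g ∈ normalizer ((S : Subgroup G) : Set G) := by
      simpa using mul_mem hnS (hSm.cent _ hx hv1 hc)
    have hZ : cj (h⁻¹ * g) (A ⊓ B) = A ⊓ B := cj_eq_of_conj_mem fun v hv =>
      ⟨conj_mem_of_normalizer (D.normS_le hk) hv.1, conj_mem_of_normalizer (D.symm.normS_le hk) hv.2⟩
    conv_rhs => rw [← hZ, cj_cj, mul_inv_cancel_left]
  · rintro g _ ⟨h, rfl⟩
    exact ⟨g * h, (cj_cj g h _).symm⟩

/-- The complement through two given cosets. -/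
theorem exists_cpl {p q : G} (hp : p ∈ A) (hq : q ∈ A) (hpB : p ∉ B) (hqB : q ∉ B) (hpq : p * q ∉ B) :
    ∃ T, Cpl A B T ∧ p ∈ T ∧ q ∈ T := by
  classical
  have hpp := D.eA p hp
  have hqq := D.eA q hq
  have hcom := comm_of_sq D.eA hq hp
  let T : Subgroup G :=
    { carrier := ({1, p, q, p * q} : Set G)
      one_mem' := by simp
      mul_mem' := by
        have e1 : p * (p * q) = q := by rw [← mul_assoc, hpp, one_mul]
        have e2 : q * (p * q) = p := by rw [← mul_assoc, hcom, mul_assoc, hqq, mul_one]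
        have e3 : p * q * p = q := by rw [mul_assoc, hcom, e1]
        have e4 : p * q * q = p := by rw [mul_assoc, hqq, mul_one]
        have e5 : p * q * (p * q) = 1 := D.eA _ (mul_mem hp hq)
        intro x y hx hy
        simp only [Set.mem_insert_iff, Set.mem_singleton_iff] at hx hy ⊢
        rcases hx with rfl | rfl | rfl | rfl <;> rcases hy with rfl | rfl | rfl | rfl <;>
          simp only [one_mul, mul_one, hpp, hqq, hcom, e1, e2, e3, e4, e5, true_or, or_true]
      inv_mem' := by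
        intro x hx
        simp only [Set.mem_insert_iff, Set.mem_singleton_iff] at hx ⊢
        rcases hx with rfl | rfl | rfl | rfl
        · exact Or.inl inv_one
        · exact Or.inr (Or.inl (inv_eq_of_sq hpp))
        · exact Or.inr (Or.inr (Or.inl (inv_eq_of_sq hqq)))
        · exact Or.inr (Or.inr (Or.inr (inv_eq_of_sq (D.eA _ (mul_mem hp hq))))) }
  have hp1 : p ≠ 1 := fun e => hpB (e ▸ one_mem B)
  have hq1 : q ≠ 1 := fun e => hqB (e ▸ one_mem B)
  have hpq1 : p * q ≠ 1 := fun e => hpq (e ▸ one_mem B)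
  refine ⟨T, ⟨?_, ?_, ?_⟩, show p ∈ ({1, p, q, p * q} : Set G) by simp,
    show q ∈ ({1, p, q, p * q} : Set G) by simp⟩
  · intro x hx
    change x ∈ ({1, p, q, p * q} : Set G) at hx
    simp only [Set.mem_insert_iff, Set.mem_singleton_iff] at hx
    rcases hx with rfl | rfl | rfl | rfl
    exacts [one_mem _, hp, hq, mul_mem hp hq]
  · have hne : p ≠ q := fun e => hpq1 (by rw [← e]; exact hpp)
    show Nat.card ({1, p, q, p * q} : Set G) = 4
    rw [Nat.card_coe_set_eq, Set.ncard_insert_of_notMem (by simp [hp1.symm, hq1.symm, hpq1.symm]) (Set.toFinite _),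
      Set.ncard_insert_of_notMem (by simp [hne, hq1]) (Set.toFinite _),
      Set.ncard_insert_of_notMem (by simp [hp1]) (Set.toFinite _), Set.ncard_singleton]
  · intro x hx hxB
    change x ∈ ({1, p, q, p * q} : Set G) at hx
    simp only [Set.mem_insert_iff, Set.mem_singleton_iff] at hx
    rcases hx with rfl | rfl | rfl | rfl
    exacts [rfl, absurd hxB hpB, absurd hxB hqB, absurd hxB hpq]

theorem cpl_meets {T : Subgroup G} (hT : Cpl A B T) {x : G} (hx : x ∈ A) : ∃ t ∈ T, x * t ∈ A ⊓ B := by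
  let f : T × (A ⊓ B : Subgroup G) → A := fun p => ⟨p.1 * p.2, mul_mem (hT.1 p.1.2) p.2.2.1⟩
  have hf : Function.Injective f := by
    rintro ⟨t, v⟩ ⟨t', v'⟩ e
    have e' : (t : G) * v = t' * v' := congrArg Subtype.val e
    have h1 : (t' : G)⁻¹ * t = v' * (v : G)⁻¹ := by
      calc (t' : G)⁻¹ * t = (t' : G)⁻¹ * (t * v) * (v : G)⁻¹ := by group
        _ = _ := by rw [e']; group
    have h2 : (t' : G)⁻¹ * t = 1 := hT.2.2 _ (mul_mem (inv_mem t'.2) t.2)
      (by rw [h1]; exact mul_mem v'.2.2 (inv_mem v.2.2))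
    obtain rfl : t' = t := Subtype.ext (inv_mul_eq_one.1 h2)
    exact Prod.ext rfl (Subtype.ext (mul_left_cancel e'))
  obtain ⟨⟨t, v⟩, e⟩ := (hf.bijective_of_nat_card_le (by rw [Nat.card_prod, D.cI, hT.2.1, D.cA])).2 ⟨x, hx⟩
  have e' : (t : G) * v = x := congrArg Subtype.val e
  refine ⟨t, t.2, ?_⟩
  rw [← e', comm_of_sq D.eA (hT.1 t.2) v.2.1, mul_assoc, D.eA _ (hT.1 t.2), mul_one]
  exact v.2

/-- There are sixteen complements. -/
theorem card_cpl : Nat.card {T : Subgroup G // Cpl A B T} = 16 := by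
  classical
  obtain ⟨a, ha, haB⟩ := D.exists_noncentral
  obtain ⟨c, hc, hcB, hacB⟩ := D.exists_pair ha
  have hmul : ∀ {x : G} (v : (A ⊓ B : Subgroup G)), x ∉ B → x * (v : G) ∉ B := fun v hx h =>
    hx ((Subgroup.mul_mem_cancel_right B v.2.2).1 h)
  have key : ∀ v w : (A ⊓ B : Subgroup G), ∃ T, Cpl A B T ∧ a * (v : G) ∈ T ∧ c * (w : G) ∈ T := fun v w =>
    D.exists_cpl (mul_mem ha v.2.1) (mul_mem hc w.2.1) (hmul v haB) (hmul w hcB) fun h => hacB (by
      rw [show a * v * (c * w) = a * c * (v * w) by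
        rw [mul_assoc a, ← mul_assoc (v : G), comm_of_sq D.eA v.2.1 hc]; group] at h
      exact (Subgroup.mul_mem_cancel_right B (mul_mem v.2.2 w.2.2)).1 h)
  choose T hT using key
  let f : (A ⊓ B : Subgroup G) × (A ⊓ B : Subgroup G) → {T : Subgroup G // Cpl A B T} :=
    fun p => ⟨T p.1 p.2, (hT p.1 p.2).1⟩
  have hu : ∀ {X : Subgroup G}, Cpl A B X → ∀ {x : G} (v v' : (A ⊓ B : Subgroup G)),
      x * (v : G) ∈ X → x * (v' : G) ∈ X → v = v' := by
    intro X hX x v v' h1 h2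
    have h3 := mul_mem (inv_mem h1) h2
    rw [show (x * (v : G))⁻¹ * (x * v') = (v : G)⁻¹ * v' by group] at h3
    exact Subtype.ext (inv_mul_eq_one.1 (hX.2.2 _ h3 (mul_mem (inv_mem v.2.2) v'.2.2)))
  have hf : Function.Bijective f := by
    constructor
    · rintro ⟨v, w⟩ ⟨v', w'⟩ e
      have e' : T v w = T v' w' := congrArg Subtype.val e
      exact Prod.ext (hu (hT v w).1 v v' (hT v w).2.1 (by rw [e']; exact (hT v' w').2.1))
        (hu (hT v w).1 w w' (hT v w).2.2 (by rw [e']; exact (hT v' w').2.2))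
    · rintro ⟨X, hX⟩
      obtain ⟨t, ht, hat⟩ := D.cpl_meets hX ha
      obtain ⟨s, hs, hcs⟩ := D.cpl_meets hX hc
      refine ⟨(⟨a * t, hat⟩, ⟨c * s, hcs⟩), Subtype.ext ?_⟩
      show T _ _ = X
      obtain ⟨hY, h1, h2⟩ := hT ⟨a * t, hat⟩ ⟨c * s, hcs⟩
      set Y := T ⟨a * t, hat⟩ ⟨c * s, hcs⟩
      have h1' : t ∈ Y := by simpa [← mul_assoc, D.eA a ha] using h1
      have h2' : s ∈ Y := by simpa [← mul_assoc, D.eA c hc] using h2
      refine (eq_of_le_of_card_ge (fun x hx => ?_) (by rw [hY.2.1, hX.2.1])).symm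
      rcases D.cosets ha hc haB hcB hacB (hX.1 hx) with h | h | h | h
      · rw [hX.2.2 x hx h]; exact one_mem Y
      · have h3 : t⁻¹ * x = 1 := hX.2.2 _ (mul_mem (inv_mem ht) hx) (by
          rw [show t⁻¹ * x = (a * t)⁻¹ * (a * x) by group]
          exact mul_mem (inv_mem hat.2) h)
        rwa [← inv_mul_eq_one.1 h3]
      · have h3 : s⁻¹ * x = 1 := hX.2.2 _ (mul_mem (inv_mem hs) hx) (by
          rw [show s⁻¹ * x = (c * s)⁻¹ * (c * x) by group]
          exact mul_mem (inv_mem hcs.2) h)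
        rwa [← inv_mul_eq_one.1 h3]
      · have h3 : (t * s)⁻¹ * x = 1 := hX.2.2 _ (mul_mem (inv_mem (mul_mem ht hs)) hx) (by
          have hm := mul_mem hat.2 hcs.2
          rw [show a * t * (c * s) = a * c * (t * s) by
            rw [mul_assoc a, ← mul_assoc t, comm_of_sq D.eA (hX.1 ht) hc]; group] at hm
          rw [show (t * s)⁻¹ * x = (a * c * (t * s))⁻¹ * (a * c * x) by group]
          exact mul_mem (inv_mem hm) h)
        rw [← inv_mul_eq_one.1 h3]
        exact mul_mem h1' h2'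
  rw [← Nat.card_congr (Equiv.ofBijective f hf), Nat.card_prod, D.cI]

theorem cpl_fixed {T : Subgroup G} (hT : Cpl A B T) {b t : G} (hb : b ∈ B) (ht : t ∈ T) (ht1 : t ≠ 1)
    (h : b * t * b⁻¹ ∈ T) : b ∈ A := by
  have htB : t ∉ B := fun h' => ht1 (hT.2.2 t ht h')
  obtain ⟨w, hw, e⟩ := D.conj_coset (hT.1 ht) (D.hB hb)
  have hw1 : w = 1 := hT.2.2 w (by
    rw [show w = t⁻¹ * (b * t * b⁻¹) by rw [e]; group]
    exact mul_mem (inv_mem ht) h) hw.2
  rw [hw1, mul_one] at e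
  exact D.centA (hT.1 ht) htB (D.hB hb) (mul_inv_eq_iff_eq_mul.1 e)

theorem cpl_stab {T : Subgroup G} (hT : Cpl A B T) :
    (S : Subgroup G) ⊓ normalizer (T : Set G) = A := by
  obtain ⟨t, ht, ht1⟩ : ∃ t ∈ T, t ≠ 1 := by
    by_contra! h
    have := hT.2.1
    rw [(Subgroup.eq_bot_iff_forall T).2 h, card_bot] at this
    omega
  have hAN : A ≤ normalizer (T : Set G) := fun a ha =>
    mem_normalizer_of_conj_mem fun s hs => by rwa [D.comm_conj ha (hT.1 hs)]
  refine le_antisymm ?_ (le_inf D.hA hAN)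
  rintro x ⟨hx, hxT⟩
  obtain ⟨a, ha, b, hb, rfl⟩ := D.decomp hx
  have hbT : b ∈ normalizer (T : Set G) := by
    simpa using mul_mem (inv_mem (hAN ha)) hxT
  exact mul_mem ha (D.cpl_fixed hT hb ht ht1 (conj_mem_of_normalizer hbT ht))

theorem cpl_orbit (hS : (S : Subgroup G).Normal) {T : Subgroup G} (hT : Cpl A B T) :
    ∃ m, Odd m ∧ Nat.card {T' : Subgroup G // ∃ g, cj g T = T'} = 4 * m := by
  haveI := hS
  set N := normalizer (T : Set G)
  set r := Nat.card {T' : Subgroup G // ∃ g, cj g T = T'}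
  have horb : r * Nat.card N = Nat.card G := card_cj_orbit T
  have h1 : Nat.card (N.map (QuotientGroup.mk' (S : Subgroup G))) * 16 = Nat.card N := by
    have := card_map_mul (QuotientGroup.mk' (S : Subgroup G)) N
    rwa [QuotientGroup.ker_mk', D.cpl_stab hT, D.cA] at this
  have hG : Nat.card (G ⧸ (S : Subgroup G)) * 64 = Nat.card G := by
    rw [← D.cS, ← index_eq_card, index_mul_card]
  obtain ⟨k, hk⟩ := card_subgroup_dvd_card (N.map (QuotientGroup.mk' (S : Subgroup G)))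
  have h4 : r = 4 * k := by
    have hpos : 0 < Nat.card N := Nat.card_pos
    refine Nat.eq_of_mul_eq_mul_right hpos ?_
    rw [horb, ← hG, hk, ← h1]
    ring
  refine ⟨k, Nat.not_even_iff_odd.1 fun ⟨j, hj⟩ => card_two_part S D.cS ?_, h4⟩
  exact ⟨j * Nat.card (N.map (QuotientGroup.mk' (S : Subgroup G))), by rw [← hG, hk, hj]; ring⟩

theorem cpl_cj (hnA : A.Normal) (hnB : B.Normal) {T : Subgroup G} (hT : Cpl A B T) (g : G) :
    Cpl A B (cj g T) := by
  refine ⟨fun x hx => ?_, by rw [card_cj, hT.2.1], fun x hx hxB => ?_⟩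
  · simpa [mul_assoc] using hnA.conj_mem _ (hT.1 (mem_cj.1 hx)) g
  · have h := hT.2.2 _ (mem_cj.1 hx) (by simpa using hnB.conj_mem x hxB g⁻¹)
    calc x = g * (g⁻¹ * x * g) * g⁻¹ := by group
      _ = 1 := by rw [h]; group

/-- A complement with four conjugates. -/
theorem exists_four (hS : (S : Subgroup G).Normal) (hnA : A.Normal) (hnB : B.Normal) :
    ∃ T, Cpl A B T ∧ Nat.card {T' : Subgroup G // ∃ g, cj g T = T'} = 4 := by
  classical
  by_contra! hno
  have h12 : ∀ T, Cpl A B T → 12 ≤ Nat.card {T' : Subgroup G // ∃ g, cj g T = T'} := by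
    intro T hT
    obtain ⟨m, ⟨j, rfl⟩, e⟩ := D.cpl_orbit hS hT
    have := hno T hT
    omega
  obtain ⟨T₁, hT₁⟩ : ∃ T, Cpl A B T := by
    have h := D.card_cpl
    obtain ⟨⟨T, hT⟩⟩ := (Nat.card_pos_iff.1 (h ▸ by norm_num : 0 < Nat.card {T : Subgroup G // Cpl A B T})).1
    exact ⟨T, hT⟩
  let ι : ∀ {T : Subgroup G}, Cpl A B T →
      {T' : Subgroup G // ∃ g, cj g T = T'} → {T : Subgroup G // Cpl A B T} := fun hT X =>
    ⟨X.1, X.2.elim fun g hg => hg ▸ D.cpl_cj hnA hnB hT g⟩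
  by_cases hall : ∀ T, Cpl A B T → ∃ g, cj g T₁ = T
  · obtain ⟨m, ⟨j, rfl⟩, e⟩ := D.cpl_orbit hS hT₁
    have h16 : Nat.card {T' : Subgroup G // ∃ g, cj g T₁ = T'} = 16 := by
      rw [← D.card_cpl]
      exact Nat.card_congr (Equiv.ofBijective (ι hT₁) ⟨fun X Y h => Subtype.ext (congrArg (fun t => t.1) h :),
        fun ⟨T, hT⟩ => ⟨⟨T, hall T hT⟩, rfl⟩⟩)
    omega
  push Not at hall
  obtain ⟨T₂, hT₂, hne⟩ := hall
  have hle : Nat.card ({T' : Subgroup G // ∃ g, cj g T₁ = T'} ⊕ {T' : Subgroup G // ∃ g, cj g T₂ = T'}) ≤ 16 := by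
    rw [← D.card_cpl]
    refine Nat.card_le_card_of_injective (Sum.elim (ι hT₁) (ι hT₂)) (Function.Injective.sumElim ?_ ?_ ?_)
    · exact fun X Y h => Subtype.ext (congrArg (fun t => t.1) h :)
    · exact fun X Y h => Subtype.ext (congrArg (fun t => t.1) h :)
    · rintro ⟨_, g, rfl⟩ ⟨_, g', rfl⟩ h
      have h' : cj g T₁ = cj g' T₂ := congrArg (fun t => t.1) h
      refine hne (g'⁻¹ * g) ?_
      rw [← cj_cj, h', cj_inv_cj]
  rw [Nat.card_sum] at hle
  have := h12 T₁ hT₁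
  have := h12 T₂ hT₂
  omega

theorem spreadI (hS : (S : Subgroup G).Normal) (hnA : A.Normal) (hnB : B.Normal) :
    ∃ 𝒮, Spread A B 𝒮 := by
  classical
  obtain ⟨T, hT, h4⟩ := D.exists_four hS hnA hnB
  let Orb : Type _ := {T' : Subgroup G // ∃ g, cj g T = T'}
  let f : B ⧸ A.subgroupOf B → Orb := fun q => Quotient.liftOn' q (fun b => ⟨cj (b : G) T, b, rfl⟩)
    fun b c hbc => by
      refine Subtype.ext ?_
      have h0 : (b : G)⁻¹ * c ∈ A := (QuotientGroup.leftRel_apply (s := A.subgroupOf B)).1 hbc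
      have h1 := congrArg (cj (b : G)) (cj_of_mem_normalizer (((D.cpl_stab hT).ge h0).2))
      rw [cj_cj, mul_inv_cancel_left] at h1
      exact h1.symm
  have hf : Function.Injective f := by
    intro p q
    induction p using Quotient.inductionOn' with
    | h b =>
    induction q using Quotient.inductionOn' with
    | h c =>
    intro e
    have e' : cj (b : G) T = cj (c : G) T := congrArg Subtype.val e
    refine QuotientGroup.eq.2 ?_
    show (b : G)⁻¹ * c ∈ A
    refine (D.cpl_stab hT).le ⟨D.hB (mul_mem (inv_mem b.2) c.2), mem_normalizer_of_cj ?_⟩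
    rw [← cj_cj, ← e', cj_inv_cj]
  have hq : Nat.card (B ⧸ A.subgroupOf B) = 4 := by
    have h1 := (A.subgroupOf B).card_mul_index
    rw [← inf_subgroupOf_right A B, Nat.card_congr (subgroupOfEquivOfLe inf_le_right).toEquiv, D.cI,
      D.cB, inf_subgroupOf_right, index_eq_card] at h1
    omega
  have hsurj := (hf.bijective_of_nat_card_le (by rw [hq]; exact h4.le)).2
  have hB' : ∀ g, ∃ b ∈ B, cj g T = cj b T := by
    intro g
    obtain ⟨q, hq'⟩ := hsurj ⟨_, g, rfl⟩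
    induction q using Quotient.inductionOn' with
    | h b => exact ⟨b, b.2, (congrArg Subtype.val hq').symm⟩
  have hdis : ∀ g g' : G, ∀ x ∈ cj g T, x ∈ cj g' T → x ≠ 1 → cj g T = cj g' T := by
    intro g g' x hx hx' hx1
    obtain ⟨b, hb, e⟩ := hB' g
    obtain ⟨c, hc, e'⟩ := hB' g'
    rw [e, mem_cj] at hx
    rw [e', mem_cj] at hx'
    have hd := D.cpl_fixed hT (mul_mem (inv_mem hc) hb) hx (fun h => hx1 (by
      calc x = b * (b⁻¹ * x * b) * b⁻¹ := by group
        _ = 1 := by rw [h]; group)) (by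
      rwa [show c⁻¹ * b * (b⁻¹ * x * b) * (c⁻¹ * b)⁻¹ = c⁻¹ * x * c by group])
    have h1 := congrArg (cj c) (cj_of_mem_normalizer (((D.cpl_stab hT).ge hd).2))
    rw [cj_cj, mul_inv_cancel_left] at h1
    rw [e, e', h1]
  let 𝒮 : Set (Subgroup G) := {X | X = A ⊓ B ∨ ∃ g, cj g T = X}
  have hmeet : ∀ X ∈ 𝒮, ∀ Y ∈ 𝒮, ∀ x ∈ X, x ∈ Y → x ≠ 1 → X = Y := by
    rintro X (rfl | ⟨g, rfl⟩) Y (rfl | ⟨g', rfl⟩) x hx hy hx1
    · rfl
    · exact absurd ((D.cpl_cj hnA hnB hT g').2.2 x hy hx.2) hx1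
    · exact absurd ((D.cpl_cj hnA hnB hT g).2.2 x hx hy.2) hx1
    · exact hdis g g' x hx hy hx1
  have hcard : ∀ X ∈ 𝒮, Nat.card X = 4 := by
    rintro X (rfl | ⟨g, rfl⟩)
    · exact D.cI
    · rw [card_cj, hT.2.1]
  have hle : ∀ X ∈ 𝒮, X ≤ A := by
    rintro X (rfl | ⟨g, rfl⟩)
    · exact inf_le_left
    · exact (D.cpl_cj hnA hnB hT g).1
  refine ⟨𝒮, ⟨Or.inl rfl, hle, hcard, fun a ha ha1 => ?_, hmeet, ?_⟩⟩
  · let F : (Σ X : {X // X ∈ 𝒮}, {x : (X.1 : Subgroup G) // x ≠ 1}) → {x : A // x ≠ 1} := fun p =>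
      ⟨⟨p.2.1, hle _ p.1.2 p.2.1.2⟩, fun e => p.2.2 (Subtype.ext (congrArg Subtype.val e :))⟩
    have hF : Function.Injective F := by
      rintro ⟨⟨X, hX⟩, ⟨x, hx⟩, hx1⟩ ⟨⟨Y, hY⟩, ⟨y, hy⟩, hy1⟩ e
      obtain rfl : x = y := congrArg (fun t : {x : A // x ≠ 1} => ((t : A) : G)) e
      obtain rfl : X = Y := hmeet _ hX _ hY x hx hy fun e' => hx1 (Subtype.ext e')
      rfl
    have h5 : Nat.card {X // X ∈ 𝒮} = 5 := by
      let g : Option Orb → {X // X ∈ 𝒮} := fun o => o.elim ⟨A ⊓ B, Or.inl rfl⟩ fun X => ⟨X.1, Or.inr X.2⟩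
      have hg : Function.Bijective g := by
        constructor
        · rintro (_ | ⟨X, hX⟩) (_ | ⟨Y, hY⟩) e
          · rfl
          · have e' : A ⊓ B = Y := congrArg Subtype.val e
            obtain ⟨z, hz, hz1⟩ := D.exists_zne
            obtain ⟨k, rfl⟩ := hY
            exact absurd ((D.cpl_cj hnA hnB hT k).2.2 z (e' ▸ hz) hz.2) hz1
          · have e' : X = A ⊓ B := congrArg Subtype.val e
            obtain ⟨z, hz, hz1⟩ := D.exists_zne
            obtain ⟨k, rfl⟩ := hX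
            exact absurd ((D.cpl_cj hnA hnB hT k).2.2 z (e'.symm ▸ hz) hz.2) hz1
          · exact congrArg some (Subtype.ext (congrArg Subtype.val e :))
        · rintro ⟨X, rfl | hX⟩
          · exact ⟨none, rfl⟩
          · exact ⟨some ⟨X, hX⟩, rfl⟩
      rw [← Nat.card_congr (Equiv.ofBijective g hg), Finite.card_option, show Nat.card Orb = 4 from h4]
    have h1 : ∀ H : Subgroup G, Nat.card {x : H // x ≠ 1} = Nat.card H - 1 := fun H => by
      haveI := Fintype.ofFinite H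
      rw [Nat.card_eq_fintype_card, Fintype.card_subtype_compl, ← Nat.card_eq_fintype_card]
      simp
    obtain ⟨⟨⟨X, hX⟩, ⟨x, hx⟩, hx1⟩, e⟩ := (hF.bijective_of_nat_card_le (by
      haveI := Fintype.ofFinite {X // X ∈ 𝒮}
      rw [Nat.card_sigma, Finset.sum_congr rfl (g := fun _ => 3) fun X _ => by rw [h1, hcard _ X.2],
        Finset.sum_const, smul_eq_mul, Finset.card_univ, ← Nat.card_eq_fintype_card, h5, h1, D.cA])).2
      ⟨⟨a, ha⟩, fun e => ha1 (congrArg Subtype.val e)⟩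
    obtain rfl : x = a := congrArg (fun t : {x : A // x ≠ 1} => ((t : A) : G)) e
    exact ⟨X, hX, hx⟩
  · rintro g X (rfl | ⟨k, rfl⟩)
    · left
      exact cj_eq_of_conj_mem fun v hv => ⟨hnA.conj_mem v hv.1 g, hnB.conj_mem v hv.2 g⟩
    · exact Or.inr ⟨g * k, (cj_cj g k T).symm⟩

/-- No fusion into the centre. -/
theorem embedI (hA : normalizer ((S : Subgroup G) : Set G) = ⊤) (hO : Cfsg.oddCore G = ⊥) {F : Type*} [Field F]
    [Fintype F] (hF : Fintype.card F = 4) :
    ∃ f : G →* GL (Fin 3) F ⧸ Subgroup.center (GL (Fin 3) F), Function.Injective f := by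
  have hnA : A.Normal := normalizer_eq_top_iff.1 (top_le_iff.1 (hA.ge.trans D.normS_le))
  have hnB : B.Normal := normalizer_eq_top_iff.1 (top_le_iff.1 (hA.ge.trans D.symm.normS_le))
  obtain ⟨𝒮, P⟩ := D.spreadI (normalizer_eq_top_iff.1 hA) hnA hnB
  exact D.embed_spread hnA (D.cent_le hnA hO) P hF

/-- One fused side. -/
theorem embedII (hA : Fus A B) (hN : normalizer (A : Set G) = ⊤) (hO : Cfsg.oddCore G = ⊥) {F : Type*} [Field F]
    [Fintype F] (hF : Fintype.card F = 4) :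
    ∃ f : G →* GL (Fin 3) F ⧸ Subgroup.center (GL (Fin 3) F), Function.Injective f := by
  have hn : A.Normal := normalizer_eq_top_iff.1 hN
  have hC := D.cent_le hn hO
  exact D.embed_spread hn hC (D.spreadII hA hn (D.small_of_normal hn hC)) hF

end Dat

end CfsgLib.SylL34
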