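import Cfsg.Agent.SylL34.Count

/-!
No fusion into the centre: the Sylow subgroup is normal modulo the core.
-/

set_option autoImplicit false
set_option linter.unusedSectionVars false
set_option linter.unusedSimpArgs false
set_option linter.style.haveILetI false

namespace CfsgLib.SylL34

open Subgroup

variable {G : Type*} [Group G] [Finite G]

namespace Dat

variable {S : Sylow 2 G} {A B : Subgroup G} (D : Dat S A B)
include D

/-- Balance on an unfused side. -/
theorem bal_side (hA : ¬ Fus A B) (hB : ¬ Fus B A) {a b x : G} (ha : a ∈ A) (hb : b ∈ A) (hb1 : b ≠ 1)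
    (hx : x ∈ Oc a) (hxb : x * b = b * x) : x ∈ Oc b := by
  haveI : Fact (Nat.Prime 2) := ⟨Nat.prime_two⟩
  by_cases hbB : b ∈ B
  · exact D.bal_z (mem_inf.2 ⟨hb, hbB⟩) hb1 (Or.inl ha) hx hxb
  have hel : Cfsg.IsElementaryAbelian 2 (A ⊓ B : Subgroup G) :=
    ⟨⟨⟨fun p q => Subtype.ext (comm_of_sq D.eA p.2.1 q.2.1)⟩⟩, fun p hp => by rw [sq]; exact D.eA p hp.1⟩
  have hAc : A ≤ centralizer ({a} : Set G) ⊓ centralizer ({b} : Set G) := fun y hy =>
    ⟨mem_centralizer_singleton_iff.2 (comm_of_sq D.eA hy ha), mem_centralizer_singleton_iff.2 (comm_of_sq D.eA hy hb)⟩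
  set X := Oc a ⊓ centralizer ({b} : Set G)
  have hXn : A ⊓ B ≤ normalizer (X : Set G) := fun y hy =>
    inf_normalizer_le_normalizer_inf ⟨cent_le_normalizer_Oc a (hAc hy.1).1, le_normalizer (hAc hy.1).2⟩
  have h : X ≤ Oc b := Signalizer.le_of_forall_centralizer hel le_rfl (by rw [D.cI]; norm_num) hXn
    (Odd.of_dvd_nat (Oc_odd a) (card_dvd_of_le inf_le_left)).not_two_dvd_nat fun e he he1 y hy => by
      obtain ⟨⟨hya, hyb⟩, hye⟩ := hy
      exact D.key_side hA hB hb hbB he he1 hyb (mem_centralizer_singleton_iff.1 hye)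
        (odd_orderOf_of_mem (Oc_odd a) hya)
  exact h ⟨hx, mem_centralizer_singleton_iff.2 hxb⟩

theorem cent_cases (hA : ¬ Fus A B) (hB : ¬ Fus B A) {M : Subgroup G}
    (hNS : normalizer ((S : Subgroup G) : Set G) ≤ M) (hNA : normalizer (A : Set G) ≤ M)
    (hNB : normalizer (B : Set G) ≤ M) (hO : ∀ e, e ∈ A ∨ e ∈ B → e ≠ 1 → Oc e ≤ M) : M = ⊤ := by
  obtain ⟨z, hz, hz1⟩ := D.exists_zne
  obtain ⟨a, ha, haB⟩ := D.exists_noncentral
  refine top_of_cent S D.gen_invols hNS ?_ (D.z_le_S hz) (D.orderA hz.1 hz1) (D.hA ha)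
    (D.orderA ha fun e => haB (e ▸ one_mem B)) fun h => haB (mem_inf.1 (D.not_zne hA ha hz h)).2
  intro s hs hs2 g hg
  by_cases hsZ : s ∈ A ⊓ B
  · obtain ⟨o, ho, n, hn, -, rfl⟩ := D.cz_decomp hsZ (Invol.ne_one hs2) hg
    exact mul_mem (hO s (Or.inl hsZ.1) (Invol.ne_one hs2) ho) (hNS hn)
  rcases D.inv s hs (Invol.mul_self_eq_one hs2) with h | h
  · obtain ⟨o, ho, n, hn, rfl⟩ := D.cent_side hA hB h (fun hB' => hsZ (mem_inf.2 ⟨h, hB'⟩)) hg
    exact mul_mem (hO s (Or.inl h) (Invol.ne_one hs2) ho) (hNA hn)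
  · obtain ⟨o, ho, n, hn, rfl⟩ := D.symm.cent_side hB hA h (fun hA' => hsZ (mem_inf.2 ⟨hA', h⟩)) hg
    exact mul_mem (hO s (Or.inr h) (Invol.ne_one hs2) ho) (hNB hn)

/-- Without fusion into the centre the Sylow subgroup is normal modulo the core. -/
theorem caseI (hA : ¬ Fus A B) (hB : ¬ Fus B A) (hO : Cfsg.oddCore G = ⊥) :
    normalizer ((S : Subgroup G) : Set G) = ⊤ := by
  obtain ⟨W, hW, hWle, -, hWN, hWgen⟩ := closure_props D.eA (by rw [D.cA]; norm_num)
    (fun a ha _ b hb hb1 x hx hxb => D.bal_side hA hB ha hb hb1 hx hxb)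
  obtain ⟨V, hV, hVle, -, hVN, hVgen⟩ := closure_props D.eB (by rw [D.cB]; norm_num)
    (fun a ha _ b hb hb1 x hx hxb => D.symm.bal_side hB hA ha hb hb1 hx hxb)
  obtain rfl : W = V := le_antisymm
    ((hWgen _ inf_le_left (by rw [D.cI])).trans (iSup_le fun e => hVle _ e.2.1.2 e.2.2))
    ((hVgen _ inf_le_left (by rw [D.symm.cI])).trans (iSup_le fun e => hWle _ e.2.1.2 e.2.2))
  have hWM : W ≤ normalizer (W : Set G) := le_normalizer
  have htop : normalizer (W : Set G) = ⊤ := D.cent_cases hA hB (D.normS_le.trans hWN) hWN hVN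
    fun e he he1 => (he.elim (fun h => hWle e h he1) (fun h => hVle e h he1)).trans hWM
  have hW1 : W = ⊥ := by
    rw [eq_bot_iff, ← hO]
    exact le_ocore (normalizer_eq_top_iff.1 htop) hW
  have hOe : ∀ e, e ∈ A ∨ e ∈ B → e ≠ 1 → Oc e ≤ normalizer ((S : Subgroup G) : Set G) := fun e he he1 =>
    ((he.elim (fun h => hWle e h he1) (fun h => hVle e h he1)).trans hW1.le).trans bot_le
  have hN : ∀ {A' B' : Subgroup G}, Dat S A' B' → ¬ Fus A' B' → (∀ e ∈ A' ⊓ B', e ≠ 1 → Oc e = ⊥) →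
      normalizer (A' : Set G) ≤ normalizer ((S : Subgroup G) : Set G) := by
    intro A' B' D' hA' h0 n hn
    obtain ⟨z, hz, hz1⟩ := D'.exists_zne
    obtain ⟨m, hm, e⟩ := D'.burn hz (D'.normA_Z hA' hn hz) rfl
    have h1 := (D'.small_of_core h0).cent z hz hz1 (show m⁻¹ * n ∈ centralizer ({z} : Set G) from
      mem_centralizer_singleton_iff.2 (by
        calc m⁻¹ * n * z = m⁻¹ * (n * z * n⁻¹) * n := by group
          _ = m⁻¹ * (m * z * m⁻¹) * n := by rw [e]
          _ = z * (m⁻¹ * n) := by group))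
    simpa using mul_mem hm h1
  exact D.cent_cases hA hB le_rfl (hN D hA fun e he he1 => eq_bot_iff.2 ((hWle e he.1 he1).trans hW1.le))
    (hN D.symm hB fun e he he1 => eq_bot_iff.2 ((hVle e he.1 he1).trans hW1.le)) hOe

end Dat

end CfsgLib.SylL34
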