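import Cfsg.Agent.SylL34.Quot

/-!
One fused side: `A` is normal.
-/

set_option autoImplicit false
set_option linter.unusedSectionVars false
set_option linter.unusedSimpArgs false
set_option linter.style.haveILetI false

namespace CfsgLib.SylL34

open Subgroup

variable {G : Type*} [Group G] [Finite G]

/-- The involution interchanging two involutions with product of odd order. -/
theorem exists_swap {x y : G} (hx : orderOf x = 2) (hy : orderOf y = 2) (h : Odd (orderOf (x * y))) :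
    ∃ w : G, w * w = 1 ∧ w * x * w⁻¹ = y ∧ ∃ v : G, v * x * v⁻¹ = w ∧
      ∀ u : G, u * x = x * u → u * y = y * u → u * v = v * u := by
  obtain ⟨m, hm⟩ := Invol.exists_pow_conj_of_odd hx hy h
  set v := (x * y) ^ m
  have hxx := Invol.mul_self_eq_one hx
  have hinv : x * v * x⁻¹ = v⁻¹ := by rw [← conj_pow, Invol.conj_mul_inv hx hy, inv_pow]
  rw [Invol.inv_eq_self hx] at hinv
  have hxvx : x * (v * x) = v⁻¹ := by rw [← mul_assoc, hinv]
  have hw2 : v * x * (v * x) = 1 := by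
    rw [show v * x * (v * x) = v * (x * (v * x)) by group, hxvx, mul_inv_cancel]
  have hw1 : v * x ≠ 1 := fun e => by
    have h1 : v = x := by rw [← Invol.inv_eq_self hx]; exact eq_inv_of_mul_eq_one_left e
    have h2 : Odd (orderOf v) := h.of_dvd_nat (orderOf_pow_dvd m)
    rw [h1, hx] at h2
    exact absurd h2 (by decide)
  obtain ⟨j, hj⟩ := Invol.exists_pow_conj_of_odd hx (Invol.orderOf_eq_two hw2 hw1) (by
    rw [hxvx, orderOf_inv]; exact h.of_dvd_nat (orderOf_pow_dvd m))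
  refine ⟨v * x, hw2, ?_, _, hj, fun u hux huy => ?_⟩
  · calc v * x * x * (v * x)⁻¹ = v * (x * x) * (x⁻¹ * v⁻¹) := by group
      _ = v * x * v⁻¹ := by rw [hxx, Invol.inv_eq_self hx]; group
      _ = y := hm
  · rw [hxvx]
    exact (((Commute.mul_right (show Commute u x from hux) (show Commute u y from huy)).pow_right m).inv_right.pow_right j).eq

namespace Dat

variable {S : Sylow 2 G} {A B : Subgroup G} (D : Dat S A B)
include D

theorem not_conjB (hB : ¬ Fus B A) {b z : G} (hb : b ∈ B) (hbA : b ∉ A) (hz : z ∈ A ⊓ B) : ¬ IsConj z b :=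
  fun h => hB ⟨b, hb, hbA, z, (inf_comm A B).le hz, h.symm⟩

theorem conj_A (hA : Fus A B) {z a : G} (hz : z ∈ A ⊓ B) (hz1 : z ≠ 1) (ha : a ∈ A) (ha1 : a ≠ 1) :
    IsConj z a := by
  obtain ⟨n, -, h⟩ := D.exists_to hA hz hz1 ha ha1
  exact isConj_iff.2 ⟨n, h⟩

/-- A conjugate of `z` in `S` lies in `A`. -/
theorem conj_mem_A (hB : ¬ Fus B A) {z x : G} (hz : z ∈ A ⊓ B) (hx : x ∈ (S : Subgroup G)) (h : IsConj z x) :
    x ∈ A := by
  have hx2 : x * x = 1 := by
    obtain ⟨g, rfl⟩ := isConj_iff.1 h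
    exact conj_sq g z (D.eA z (mem_inf.1 hz).1)
  rcases D.inv x hx hx2 with h' | h'
  · exact h'
  · by_contra hA
    exact D.not_conjB hB h' hA hz h

variable {M : Subgroup G}

theorem SleM (hNA : normalizer (A : Set G) ≤ M) : (S : Subgroup G) ≤ M := D.le_normA.trans hNA

/-- The class of `z` is one class of `M`. -/
theorem to_z (hA : Fus A B) (hB : ¬ Fus B A) (hNA : normalizer (A : Set G) ≤ M) {z t : G} (hz : z ∈ A ⊓ B)
    (hz1 : z ≠ 1) (ht : t ∈ M) (h : IsConj z t) : ∃ m ∈ M, m * t * m⁻¹ = z := by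
  obtain ⟨g, rfl⟩ := isConj_iff.1 h
  obtain ⟨m, hm, hmS⟩ := conj_into S (D.SleM hNA) ht (conj_sq g z (D.eA z (mem_inf.1 hz).1))
  have hA' := D.conj_mem_A hB hz hmS (isConj_iff.2 ⟨m * g, by group⟩)
  obtain ⟨n, hn, e⟩ := D.exists_to hA hz hz1 hA' (fun e => hz1 (conj_eq_one_iff.1 (conj_eq_one_iff.1 e)))
  refine ⟨n⁻¹ * m, mul_mem (hNA (inv_mem hn)) hm, ?_⟩
  calc n⁻¹ * m * (g * z * g⁻¹) * (n⁻¹ * m)⁻¹ = n⁻¹ * (m * (g * z * g⁻¹) * m⁻¹) * n := by group
    _ = n⁻¹ * (n * z * n⁻¹) * n := by rw [e]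
    _ = z := by group

theorem cent_class (hA : Fus A B) (hB : ¬ Fus B A) (hNA : normalizer (A : Set G) ≤ M) {z t : G}
    (hz : z ∈ A ⊓ B) (hz1 : z ≠ 1) (hCz : centralizer ({z} : Set G) ≤ M) (ht : t ∈ M) (h : IsConj z t) :
    centralizer ({t} : Set G) ≤ M := by
  intro c hc
  obtain ⟨m, hm, e⟩ := D.to_z hA hB hNA hz hz1 ht h
  have h1 : m * c * m⁻¹ ∈ M := hCz (e ▸ cent_conj.2 (by
    rwa [show m⁻¹ * (m * c * m⁻¹) * m = c by group]))
  have := mul_mem (mul_mem (inv_mem hm) h1) hm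
  rwa [show m⁻¹ * (m * c * m⁻¹) * m = c by group] at this

/-- Conjugates of `z` inside and outside `M` have a product of odd order. -/
theorem odd_out (hA : Fus A B) (hB : ¬ Fus B A) (hNA : normalizer (A : Set G) ≤ M) {z x y : G}
    (hz : z ∈ A ⊓ B) (hz1 : z ≠ 1) (hCz : centralizer ({z} : Set G) ≤ M) (hxM : x ∈ M) (hx : IsConj z x)
    (hyM : y ∉ M) (hy : IsConj z y) : Odd (orderOf (x * y)) := by
  have h2 : orderOf z = 2 := D.orderA (mem_inf.1 hz).1 hz1
  have hord : ∀ t, IsConj z t → orderOf t = 2 := fun t ht => by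
    obtain ⟨g, rfl⟩ := isConj_iff.1 ht
    rw [Invol.orderOf_conj_eq, h2]
  by_contra hev
  rw [Nat.not_odd_iff_even] at hev
  obtain ⟨hi, hix, hiy⟩ := Invol.half_props (hord x hx) (hord y hy) hev
  set i := (x * y) ^ (orderOf (x * y) / 2)
  set t := x * i with ht_def
  have htz : IsConj z t := by
    rcases Invol.mul_half_isConj (hord x hx) (hord y hy) hev with h | h
    · exact hx.trans h
    · exact hy.trans h
  have hxt : x * t = t * x := by rw [ht_def, mul_assoc x i x, hix.eq]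
  have htM : t ∈ M := D.cent_class hA hB hNA hz hz1 hCz hxM hx
    (mem_centralizer_singleton_iff.2 hxt.symm)
  have hiM : i ∈ M := by
    have := mul_mem (inv_mem hxM) htM
    rwa [ht_def, inv_mul_cancel_left] at this
  obtain ⟨m, hm, e⟩ := D.to_z hA hB hNA hz hz1 hxM hx
  have ht' : m * t * m⁻¹ ∈ centralizer ({z} : Set G) := by
    rw [← e]
    refine cent_conj.2 ?_
    rw [show m⁻¹ * (m * t * m⁻¹) * m = t by group]
    exact mem_centralizer_singleton_iff.2 hxt.symm
  obtain ⟨c, hc, hcS⟩ := conj_into S (D.le_cent hz) ht'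
    (conj_sq m t (Invol.mul_self_eq_one (hord t htz)))
  have htA := D.conj_mem_A hB hz hcS (htz.trans (isConj_iff.2 ⟨c * m, by group⟩))
  have hiA : c * m * i * (c * m)⁻¹ ∈ A := by
    have h1 : c * m * x * (c * m)⁻¹ = z := by
      calc c * m * x * (c * m)⁻¹ = c * (m * x * m⁻¹) * c⁻¹ := by group
        _ = z := by rw [e, mem_centralizer_singleton_iff.1 hc, mul_inv_cancel_right]
    have h3 : c * m * i * (c * m)⁻¹ = (c * m * x * (c * m)⁻¹)⁻¹ * (c * (m * t * m⁻¹) * c⁻¹) := by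
      rw [ht_def]; group
    rw [h3, h1]
    exact mul_mem (inv_mem (mem_inf.1 hz).1) htA
  have hzi : IsConj z i := (D.conj_A hA hz hz1 hiA (fun e' => Invol.ne_one hi (conj_eq_one_iff.1 e'))).trans
    (isConj_iff.2 ⟨(c * m)⁻¹, by group⟩)
  exact hyM (D.cent_class hA hB hNA hz hz1 hCz hiM hzi (mem_centralizer_singleton_iff.2 hiy.eq.symm))

/-- A 2-subgroup of `M` without conjugates of `z` has order at most four. -/
theorem card_le_four (hA : Fus A B) (hNA : normalizer (A : Set G) ≤ M) {z : G} (hz : z ∈ A ⊓ B) (hz1 : z ≠ 1)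
    {P : Subgroup G} (hP : IsPGroup 2 P) (hPM : P ≤ M) (h : ∀ x ∈ P, ¬ IsConj z x) : Nat.card P ≤ 4 := by
  have hSM := D.SleM hNA
  obtain ⟨m, hm⟩ := exists_cj_le (S.subtype hSM) (P := P.subgroupOf M) hP.comap_subtype
  have hmP : cj (m : G) P ≤ (S : Subgroup G) := by
    rintro _ ⟨x, hx, rfl⟩
    exact hm (conj_mem_cj.2 (show (⟨x, hPM hx⟩ : M) ∈ P.subgroupOf M from hx))
  let f : cj (m : G) P × A → (S : Subgroup G) := fun p => ⟨p.1 * p.2, mul_mem (hmP p.1.2) (D.hA p.2.2)⟩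
  have hf : Function.Injective f := by
    intro p q e
    have e' : (p.1 : G) * p.2 = q.1 * q.2 := congrArg Subtype.val e
    have h1 : (q.1 : G)⁻¹ * p.1 = q.2 * (p.2 : G)⁻¹ := by
      calc (q.1 : G)⁻¹ * p.1 = (q.1 : G)⁻¹ * (p.1 * p.2) * (p.2 : G)⁻¹ := by group
        _ = _ := by rw [e']; group
    have h2 : (q.1 : G)⁻¹ * p.1 = 1 := by
      by_contra hne
      have hA' : (q.1 : G)⁻¹ * p.1 ∈ A := h1 ▸ mul_mem q.2.2 (inv_mem p.2.2)
      have hcj : (q.1 : G)⁻¹ * p.1 ∈ cj (m : G) P := mul_mem (inv_mem q.1.2) p.1.2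
      rw [mem_cj] at hcj
      exact h _ hcj ((D.conj_A hA hz hz1 hA' hne).trans (isConj_iff.2 ⟨(m : G)⁻¹, by group⟩))
    have h3 : (p.1 : G) = q.1 := (inv_mul_eq_one.1 h2).symm
    rw [h3] at e'
    exact Prod.ext (Subtype.ext h3) (Subtype.ext (mul_left_cancel e'))
  have hle := Nat.card_le_card_of_injective f hf
  rw [Nat.card_prod, card_cj, D.cA, D.cS] at hle
  omega

/-- The fixed points on `B` of the automizer in `C(b)`. -/
theorem fixed_four (hB : ¬ Fus B A) {b n₀ : G} (hb : b ∈ B) (hbA : b ∉ A)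
    (hn₀ : n₀ ∈ normalizer (B : Set G)) (hna₀ : n₀ * b = b * n₀)
    (hmove : ∀ w ∈ A ⊓ B, w ≠ 1 → n₀ * w * n₀⁻¹ ≠ w) :
    ∃ U : Subgroup G, U ≤ B ∧ Nat.card U = 4 ∧ b ∈ U ∧ (∀ u ∈ U, u ∈ A → u = 1) ∧
      ∀ u ∈ U, ∀ n ∈ normalizer (B : Set G), n * b = b * n → n * u = u * n := by
  set U := B ⊓ centralizer {n : G | n ∈ normalizer (B : Set G) ∧ n * b = b * n}
  have hfix : ∀ u ∈ U, ∀ n ∈ normalizer (B : Set G), n * b = b * n → n * u = u * n :=
    fun u hu n hn hnb => mem_centralizer_iff.1 hu.2 n ⟨hn, hnb⟩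
  have hUA : ∀ u ∈ U, u ∈ A → u = 1 := fun u hu huA => by
    by_contra h1
    exact hmove u (mem_inf.2 ⟨huA, hu.1⟩) h1 (by rw [hfix u hu n₀ hn₀ hna₀, mul_inv_cancel_right])
  refine ⟨U, inf_le_left, ?_, mem_inf.2 ⟨hb, mem_centralizer_iff.2 fun n hn => hn.2⟩, hUA, hfix⟩
  let f : U × (A ⊓ B : Subgroup G) → B := fun p => ⟨p.1 * p.2, mul_mem (mem_inf.1 p.1.2).1 (mem_inf.1 p.2.2).2⟩
  have hf : Function.Bijective f := by
    constructor
    · intro p q e
      have e' : (p.1 : G) * p.2 = q.1 * q.2 := congrArg Subtype.val e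
      have h1 : (q.1 : G)⁻¹ * p.1 = q.2 * (p.2 : G)⁻¹ := by
        calc (q.1 : G)⁻¹ * p.1 = (q.1 : G)⁻¹ * (p.1 * p.2) * (p.2 : G)⁻¹ := by group
          _ = _ := by rw [e']; group
      have h2 := hUA _ (mul_mem (inv_mem q.1.2) p.1.2)
        (h1 ▸ mul_mem (mem_inf.1 q.2.2).1 (inv_mem (mem_inf.1 p.2.2).1))
      have h3 : (p.1 : G) = q.1 := (inv_mul_eq_one.1 h2).symm
      rw [h3] at e'
      exact Prod.ext (Subtype.ext h3) (Subtype.ext (mul_left_cancel e'))
    · intro c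
      obtain ⟨v, hv, hcv⟩ := D.symm.exists_fixed hB hb hbA hn₀ hna₀
        (fun w hw => hmove w ((inf_comm B A).le hw)) c.2
      refine ⟨⟨⟨(c : G) * v, mem_inf.2 ⟨mul_mem c.2 (mem_inf.1 hv).1, mem_centralizer_iff.2 fun n hn => ?_⟩⟩,
        v, (inf_comm B A).le hv⟩, Subtype.ext ?_⟩
      · exact hcv n hn.1 hn.2
      · show (c : G) * v * v = c
        rw [mul_assoc, D.eA v (mem_inf.1 hv).2, mul_one]
  have h := Nat.card_eq_of_bijective f hf
  rw [Nat.card_prod, D.cI, D.cB] at h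
  omega

/-- The quotient by `W`: a subgroup transitive on `A` whose twenty-fourth powers lie in an odd one. -/
theorem no_trans (hA : Fus A B) {W : Subgroup G} (hNA : normalizer (A : Set G) ≤ M) (hWM : W ≤ M)
    (hW : Odd (Nat.card W)) (hMW : M ≤ normalizer (W : Set G))
    (hMAW : M ≤ normalizer ((A ⊔ W : Subgroup G) : Set G))
    (hCz : ∀ z ∈ A ⊓ B, z ≠ 1 → centralizer ({z} : Set G) ≤ M)
    (hOz : ∀ z ∈ A ⊓ B, z ≠ 1 → Oc z ≤ W) {U X Dg : Subgroup G} (hU : U ≤ B) (hU4 : Nat.card U = 4)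
    (hUA : ∀ u ∈ U, u ∈ A → u = 1) (hXM : X ≤ M) (hUX : U ≤ normalizer (X : Set G))
    (hX : Odd (Nat.card X)) (hDg : Dg ≤ M) (hpow : ∀ d ∈ Dg, d ^ 24 ∈ X) {z : G} (hz : z ∈ A)
    (htr : ∀ a ∈ A, a ≠ 1 → ∃ d ∈ Dg, d * z * d⁻¹ = a) (hz1 : z ≠ 1) : False := by
  haveI : Fact (Nat.Prime 2) := ⟨Nat.prime_two⟩
  haveI : Fact (Nat.Prime 5) := ⟨by norm_num⟩
  have hSM := D.SleM hNA
  have hAM : A ≤ M := D.hA.trans hSM
  have hUM : U ≤ M := (hU.trans D.hB).trans hSM
  haveI hn : (W.subgroupOf M).Normal := (normal_subgroupOf_iff_le_normalizer hWM).2 hMW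
  set f := QuotientGroup.mk' (W.subgroupOf M)
  have hf : Function.Surjective f := QuotientGroup.mk'_surjective _
  have hker : Odd (Nat.card f.ker) := by
    rw [QuotientGroup.ker_mk', Nat.card_congr (subgroupOfEquivOfLe hWM).toEquiv]
    exact hW
  have DM := D.restrict M hSM
  have hSm := DM.small_map hf hker (by
    intro v hv hv1 o ho
    rw [QuotientGroup.ker_mk', mem_subgroupOf]
    refine hOz v hv (fun e => hv1 (Subtype.ext e)) (map_Oc_le v (hCz v hv (fun e => hv1 (Subtype.ext e))) ?_)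
    exact ⟨o, ho, rfl⟩)
  have Df := DM.map hf hker
  -- the image of `A` is normal
  have hnA : ((A.subgroupOf M).map f).Normal := by
    haveI : ((A ⊔ W).subgroupOf M).Normal :=
      (normal_subgroupOf_iff_le_normalizer (sup_le hAM hWM)).2 hMAW
    have h1 : ((A ⊔ W).subgroupOf M).map f = (A.subgroupOf M).map f := by
      rw [subgroupOf_sup hAM hWM, Subgroup.map_sup, (Subgroup.map_eq_bot_iff _).2 (QuotientGroup.ker_mk' (W.subgroupOf M)).ge,
        sup_bot_eq]
    rw [← h1]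
    exact Normal.map inferInstance f hf
  -- an element of order five
  set E := (Dg.subgroupOf M).map f
  have h5 : 5 ∣ Nat.card E := by
    letI : MulAction E (M ⧸ W.subgroupOf M) := MulAction.compHom _
      ((ConjAct.toConjAct.toMonoidHom).comp E.subtype)
    set x := f ⟨z, hAM hz⟩
    have horb : MulAction.orbit E x = (((A.subgroupOf M).map f : Subgroup _) : Set _) \ {1} := by
      ext y
      constructor
      · rintro ⟨e, rfl⟩
        have hy : ((e : M ⧸ W.subgroupOf M)) * x * (e : M ⧸ W.subgroupOf M)⁻¹ ∈ (A.subgroupOf M).map f :=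
          hnA.conj_mem _ (mem_map_of_mem f (show (⟨z, hAM hz⟩ : M) ∈ A.subgroupOf M from hz)) _
        refine ⟨hy, fun h1 => hz1 ?_⟩
        have hx1 : x = 1 := conj_eq_one_iff.1 h1
        exact congrArg Subtype.val (DM.map_inj hker (show (⟨z, hAM hz⟩ : M) ∈ (S.subtype hSM : Subgroup M) from
          D.hA hz) (one_mem _) (hx1.trans (map_one f).symm))
      · rintro ⟨⟨a, ha, rfl⟩, ha1⟩
        obtain ⟨d, hd, e⟩ := htr a ha (fun e => ha1 (by rw [Set.mem_singleton_iff, show a = 1 from Subtype.ext e, map_one]))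
        refine ⟨⟨f ⟨d, hDg hd⟩, mem_map_of_mem f (show (⟨d, hDg hd⟩ : M) ∈ Dg.subgroupOf M from hd)⟩, ?_⟩
        show f ⟨d, hDg hd⟩ * x * (f ⟨d, hDg hd⟩)⁻¹ = f a
        rw [← map_inv, ← map_mul, ← map_mul]
        exact congrArg f (Subtype.ext e)
    have h := Nat.card_congr (MulAction.orbitProdStabilizerEquivGroup E x)
    rw [Nat.card_prod, horb] at h
    have h15 : Nat.card (((((A.subgroupOf M).map f : Subgroup _) : Set _) \ {1} : Set (M ⧸ W.subgroupOf M))) = 15 := by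
      rw [Nat.card_coe_set_eq, Set.ncard_sdiff_singleton_of_mem (one_mem _), ← Nat.card_coe_set_eq]
      exact (congrArg (· - 1) Df.cA).trans (by norm_num)
    rw [h15] at h
    exact Dvd.intro _ (show 5 * (3 * Nat.card (MulAction.stabilizer E x)) = Nat.card E by rw [← mul_assoc]; exact h)
  obtain ⟨⟨e, he⟩, hord⟩ := exists_prime_orderOf_dvd_card' 5 h5
  rw [← orderOf_coe] at hord
  obtain ⟨d, hd, rfl⟩ := he
  have h24 : f d ^ 24 ∈ (X.subgroupOf M).map f := by
    rw [← map_pow]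
    exact mem_map_of_mem f (show d ^ 24 ∈ X.subgroupOf M from hpow d hd)
  refine Df.no_five hSm hnA (U := (U.subgroupOf M).map f) (X := (X.subgroupOf M).map f)
    (map_mono (comap_mono hU)) ?_ ?_ ?_ ?_ ?_
  · rw [DM.map_card hker (show U.subgroupOf M ≤ (S.subtype hSM : Subgroup M) from fun _ h => D.hB (hU h)),
      Nat.card_congr (subgroupOfEquivOfLe hUM).toEquiv, hU4]
  · rintro _ ⟨u, hu, rfl⟩ ⟨a, ha, e⟩
    have := DM.map_inj hker (show a ∈ (S.subtype hSM : Subgroup M) from D.hA ha)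
      (show u ∈ (S.subtype hSM : Subgroup M) from D.hB (hU hu)) e
    subst this
    rw [show a = 1 from Subtype.ext (hUA a hu ha), map_one]
  · rintro _ ⟨u, hu, rfl⟩
    refine le_normalizer_map f (mem_map_of_mem f (mem_normalizer_of_conj_mem fun x hx => ?_))
    show (u : G) * x * (u : G)⁻¹ ∈ X
    exact conj_mem_of_normalizer (show (u : G) ∈ normalizer (X : Set G) from hUX hu) (show (x : G) ∈ X from hx)
  · refine Odd.of_dvd_nat ?_ (card_map_dvd _ _)
    rwa [Nat.card_congr (subgroupOfEquivOfLe hXM).toEquiv]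
  · have : orderOf (f d ^ 24) = 5 := by rw [orderOf_pow, hord]; norm_num
    rw [← this]
    exact orderOf_dvd_natCard _ h24

/-- The centralizer of a fixed four-group. -/
theorem cent_U (hA : Fus A B) (hB : ¬ Fus B A) {W : Subgroup G} (hNA : normalizer (A : Set G) ≤ M)
    (hWM : W ≤ M) (hW : Odd (Nat.card W)) (hMW : M ≤ normalizer (W : Set G))
    (hMAW : M ≤ normalizer ((A ⊔ W : Subgroup G) : Set G))
    (hCA : ∀ a ∈ A, a ≠ 1 → centralizer ({a} : Set G) ≤ M)
    (hOz : ∀ z ∈ A ⊓ B, z ≠ 1 → Oc z ≤ W) {U : Subgroup G} (hU : U ≤ B) (hU4 : Nat.card U = 4)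
    (hUA : ∀ u ∈ U, u ∈ A → u = 1) {c : G} (hc : ∀ u ∈ U, c * u = u * c) : c ∈ M := by
  by_contra hcM
  obtain ⟨z, hz, hz1⟩ := D.exists_zne
  have hCz := hCA z (mem_inf.1 hz).1 hz1
  have hzz := D.eA z (mem_inf.1 hz).1
  have hSM := D.SleM hNA
  have hzM : z ∈ M := hSM (D.z_le_S hz)
  set Dg := M ⊓ cj c M with hDg
  have hUDg : U ≤ Dg := fun u hu => ⟨hSM (D.hB (hU hu)), mem_cj.2 (by
    rw [mul_assoc, ← hc u hu, inv_mul_cancel_left]; exact hSM (D.hB (hU hu)))⟩
  -- no conjugate of `z` lies in the intersection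
  have hno : ∀ t ∈ Dg, ¬ IsConj z t := by
    rintro t ⟨ht, htc⟩ hconj
    replace htc : c⁻¹ * t * c ∈ M := mem_cj.1 htc
    obtain ⟨g, hg, e1⟩ := D.to_z hA hB hNA hz hz1 ht hconj
    obtain ⟨h, hh, e2⟩ := D.to_z hA hB hNA hz hz1 htc (hconj.trans (isConj_iff.2 ⟨c⁻¹, by group⟩))
    have h1 : g * c * h⁻¹ ∈ centralizer ({z} : Set G) := by
      refine mem_centralizer_singleton_iff.2 ?_
      calc g * c * h⁻¹ * z = g * c * h⁻¹ * (h * (c⁻¹ * t * c) * h⁻¹) := by rw [e2]
        _ = g * t * g⁻¹ * (g * c * h⁻¹) := by group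
        _ = z * (g * c * h⁻¹) := by rw [e1]
    refine hcM ?_
    have := mul_mem (mul_mem (inv_mem hg) (hCz h1)) hh
    rwa [show g⁻¹ * (g * c * h⁻¹) * h = c by group] at this
  set z' := c * z * c⁻¹ with hz'
  have hz'M : z' ∉ M := fun h => hno z' ⟨h, conj_mem_cj.2 hzM⟩ (isConj_iff.2 ⟨c, rfl⟩)
  have hord : orderOf z = 2 := D.orderA (mem_inf.1 hz).1 hz1
  have hord' : orderOf z' = 2 := by rw [hz', Invol.orderOf_conj_eq, hord]
  obtain ⟨w, hw2, hswap, v, hvw, hvU⟩ := exists_swap hord hord'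
    (D.odd_out hA hB hNA hz hz1 hCz hzM (IsConj.refl z) hz'M (isConj_iff.2 ⟨c, rfl⟩))
  have hwi : w⁻¹ = w := inv_eq_of_sq hw2
  have hUz : ∀ u ∈ U, u * z = z * u := fun u hu => D.center_comm hz (D.hB (hU hu))
  have hUz' : ∀ u ∈ U, u * z' = z' * u := fun u hu => by
    have h1 : Commute u c := (hc u hu).symm
    exact ((h1.mul_right (hUz u hu)).mul_right h1.inv_right).eq
  have hUw : ∀ u ∈ U, u * w = w * u := fun u hu => by
    have h1 : Commute u v := hvU u (hUz u hu) (hUz' u hu)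
    rw [← hvw]
    exact ((h1.mul_right (hUz u hu)).mul_right h1.inv_right).eq
  -- `w` interchanges the two conjugates of `M`
  have hcw : c⁻¹ * w ∈ M := hCz (mem_centralizer_singleton_iff.2 (by
    calc c⁻¹ * w * z = c⁻¹ * (w * z * w⁻¹) * w := by group
      _ = z * (c⁻¹ * w) := by rw [hswap, hz']; group))
  have hcwM : ∀ x : G, x ∈ cj c M ↔ w * x * w ∈ M := fun x => by
    rw [mem_cj]
    constructor
    · intro h
      have := mul_mem (mul_mem (inv_mem hcw) h) hcw
      rwa [mul_inv_rev, inv_inv, hwi, show w * c * (c⁻¹ * x * c) * (c⁻¹ * w) = w * x * w by group] at this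
    · intro h
      have := mul_mem (mul_mem hcw h) (inv_mem hcw)
      rwa [mul_inv_rev, inv_inv, hwi, show c⁻¹ * w * (w * x * w) * (w * c) = c⁻¹ * (w * w) * x * (w * w) * c by group,
        hw2, mul_one, mul_one] at this
  have hwDg : ∀ x ∈ Dg, w * x * w⁻¹ ∈ Dg := fun x hx => by
    rw [hwi]
    refine ⟨(hcwM x).1 hx.2, (hcwM _).2 ?_⟩
    rw [show w * (w * x * w) * w = w * w * x * (w * w) by group, hw2, one_mul, mul_one]
    exact hx.1
  have hwM : w ∉ M := fun h => hz'M (by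
    rw [← hswap]; exact mul_mem (mul_mem h hzM) (inv_mem h))
  have hwD : w ∉ Dg := fun h => hwM h.1
  -- transitivity
  have htr : ∀ t ∈ M, IsConj z t → ∃ d ∈ Dg, d * t * d⁻¹ = z := by
    intro t ht htz
    have hto : orderOf t = 2 := by
      obtain ⟨g, rfl⟩ := isConj_iff.1 htz
      rw [Invol.orderOf_conj_eq, hord]
    obtain ⟨s, hs2, hst, -⟩ := exists_swap hto hord'
      (D.odd_out hA hB hNA hz hz1 hCz ht htz hz'M (isConj_iff.2 ⟨c, rfl⟩))
    have e : w * s * t * (w * s)⁻¹ = z := by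
      calc w * s * t * (w * s)⁻¹ = w * (s * t * s⁻¹) * w⁻¹ := by group
        _ = w * (w * z * w⁻¹) * w⁻¹ := by rw [hst, hswap]
        _ = w * w * z * (w * w)⁻¹ := by group
        _ = z := by rw [hw2]; group
    have hM : w * s ∈ M := by
      obtain ⟨g, hg, e'⟩ := D.to_z hA hB hNA hz hz1 ht htz
      have h1 : w * s * g⁻¹ ∈ centralizer ({z} : Set G) := mem_centralizer_singleton_iff.2 (by
        calc w * s * g⁻¹ * z = w * s * g⁻¹ * (g * t * g⁻¹) := by rw [e']
          _ = w * s * t * (w * s)⁻¹ * (w * s * g⁻¹) := by group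
          _ = z * (w * s * g⁻¹) := by rw [e])
      have := mul_mem (hCz h1) hg
      rwa [inv_mul_cancel_right] at this
    refine ⟨w * s, ⟨hM, (hcwM _).2 ?_⟩, e⟩
    rw [show w * (w * s) * w = w * w * (s * w) by group, hw2, one_mul]
    have := inv_mem hM
    rwa [mul_inv_rev, hwi, inv_eq_of_sq hs2] at this
  -- the subgroup `Dg ⟨w⟩`
  have hn : zpowers w ≤ normalizer (Dg : Set G) := zpowers_le.2 (mem_normalizer_of_conj_mem hwDg)
  set X := zpowers w ⊔ Dg
  have hX : ∀ x ∈ X, x ∈ Dg ∨ w * x ∈ Dg := by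
    intro x hx
    rw [← SetLike.mem_coe, coe_mul_of_left_le_normalizer_right _ _ hn] at hx
    obtain ⟨p, ⟨i, rfl⟩, d, hd, rfl⟩ := hx
    have hw2' : w ^ (2 : ℤ) = 1 := by rw [zpow_two, hw2]
    rcases Int.even_or_odd i with ⟨k, rfl⟩ | ⟨k, rfl⟩
    · exact Or.inl (by simp only [← two_mul, zpow_mul, hw2', one_zpow, one_mul]; exact hd)
    · refine Or.inr ?_
      simp only [zpow_add, zpow_mul, hw2', one_zpow, one_mul, zpow_one]
      rw [← mul_assoc, hw2, one_mul]
      exact hd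
  have hiso : Cfsg.IsIsolatedInvolution (⟨w, mem_sup_left (mem_zpowers w)⟩ : X) := by
    refine ⟨by rw [← orderOf_coe]; exact Invol.orderOf_eq_two hw2 fun e => hwD ((show w = 1 from e).symm ▸ one_mem Dg), fun g hg => ?_⟩
    refine Subtype.ext ?_
    have hg' : w * ((g : G) * w * (g : G)⁻¹) = (g : G) * w * (g : G)⁻¹ * w := congrArg Subtype.val hg
    by_contra hne
    set t := (g : G) * w * (g : G)⁻¹ with ht
    obtain ⟨i, hi⟩ : ∃ i : G, i = w * t := ⟨_, rfl⟩
    have hiDg : i ∈ Dg := by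
      obtain ⟨d, hd, e⟩ : ∃ d ∈ Dg, t = d * w * d⁻¹ := by
        rcases hX g g.2 with h | h
        · exact ⟨g, h, rfl⟩
        · refine ⟨w * (w * g) * w⁻¹, hwDg _ h, ?_⟩
          rw [hwi, ht, show w * (w * (g : G)) * w = w * w * g * w by group, hw2, one_mul, mul_inv_rev, hwi,
            show (g : G) * w * w * (w * (g : G)⁻¹) = g * (w * w) * w * (g : G)⁻¹ by group, hw2, mul_one]
      rw [hi, e, show w * (d * w * d⁻¹) = w * d * w * d⁻¹ by group]
      have := hwDg d hd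
      rw [hwi] at this
      exact mul_mem this (inv_mem hd)
    have hi2 : i * i = 1 := by
      rw [hi]
      calc w * t * (w * t) = w * t * (t * w) := by rw [hg']
        _ = w * (t * t) * w := by group
        _ = 1 := by rw [ht, conj_sq _ _ hw2, mul_one, hw2]
    have hi1 : i ≠ 1 := fun e => hne (by
      have : t = w⁻¹ := eq_inv_of_mul_eq_one_right (hi ▸ e)
      show t = w
      rw [this, hwi])
    have hiw : i * w = w * i := by
      rw [hi, mul_assoc, ← hg']
    -- `i` is conjugate to an element of `U`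
    set K := Dg ⊓ centralizer ({w} : Set G)
    have hUK : U ≤ K := fun u hu => ⟨hUDg hu, mem_centralizer_singleton_iff.2 (hUw u hu)⟩
    have hU2 : IsPGroup 2 (U.subgroupOf K) := (isPGroup_of_sq fun u hu => D.eB u (hU hu)).comap_subtype
    obtain ⟨Q, hQ⟩ := hU2.exists_le_sylow
    have hQe : (Q : Subgroup K) = U.subgroupOf K := by
      refine (eq_of_le_of_card_ge hQ ?_).symm
      rw [Nat.card_congr (subgroupOfEquivOfLe hUK).toEquiv, hU4,
        Nat.card_congr ((Q : Subgroup K).equivMapOfInjective K.subtype K.subtype_injective).toEquiv]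
      refine D.card_le_four hA hNA hz hz1 (Q.2.map K.subtype) ?_ ?_
      · rintro _ ⟨q, -, rfl⟩
        exact q.2.1.1
      · rintro _ ⟨q, -, rfl⟩
        exact hno _ q.2.1
    obtain ⟨h, hh⟩ := exists_conj_mem Q (x := (⟨i, hiDg, mem_centralizer_singleton_iff.2 hiw⟩ : K)) (Subtype.ext hi2)
    rw [hQe, mem_subgroupOf] at hh
    set u := (h : G) * i * (h : G)⁻¹ with hu
    have hhw : (h : G) * w = w * h := mem_centralizer_singleton_iff.1 h.2.2
    -- `w u` is not conjugate to `z`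
    have htz : IsConj z t := (isConj_iff.2 ⟨v, hvw⟩).trans (isConj_iff.2 ⟨g, rfl⟩)
    have h1 : IsConj z (w * u) := by
      refine htz.trans (isConj_iff.2 ⟨h, ?_⟩)
      rw [hu, hi, show w * ((h : G) * (w * t) * (h : G)⁻¹) = w * (h : G) * w * t * (h : G)⁻¹ by group, ← hhw,
        show (h : G) * w * w * t * (h : G)⁻¹ = (h : G) * (w * w) * t * (h : G)⁻¹ by group, hw2, mul_one]
    have hu1 : u ≠ 1 := fun e => hi1 (conj_eq_one_iff.1 e)
    have huA : u ∉ A := fun e => hu1 (hUA u hh e)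
    refine D.not_conjB hB (b := z * u) (mul_mem (mem_inf.1 hz).2 (hU hh))
      (fun e => huA ((mul_mem_cancel_left (mem_inf.1 hz).1).1 e)) hz (h1.trans (isConj_iff.2 ⟨v⁻¹, ?_⟩))
    have hvu : u * v = v * u := hvU u (hUz u hh) (hUz' u hh)
    rw [← hvw, inv_inv, show v⁻¹ * (v * z * v⁻¹ * u) * v = z * (v⁻¹ * (u * v)) by group, hvu,
      inv_mul_cancel_left]
  -- the odd subgroup
  set w' : X := ⟨w, mem_sup_left (mem_zpowers w)⟩
  set O := (Cfsg.oddCore X).map X.subtype
  have hOodd : Odd (Nat.card O) := by rw [card_map_of_injective X.subtype_injective]; exact ocore_odd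
  have hOD : O ≤ Dg := by
    rintro _ ⟨o, ho, rfl⟩
    obtain ⟨k, hk⟩ := odd_orderOf_of_mem ocore_odd ho
    have hsq : (o : G) * o ∈ Dg := by
      rcases hX o o.2 with h | h
      · exact mul_mem h h
      · have := mul_mem (hwDg _ h) h
        rwa [hwi, show w * (w * (o : G)) * w * (w * o) = (w * w) * o * ((w * w) * o) by group, hw2,
          one_mul] at this
    have := pow_mem hsq (k + 1)
    rwa [← sq, ← pow_mul, show 2 * (k + 1) = 2 * k + 1 + 1 by ring, pow_succ, ← hk,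
      show ((o : G)) ^ orderOf o = 1 by rw [← orderOf_coe]; exact pow_orderOf_eq_one _, one_mul] at this
  have hXO : X ≤ normalizer (O : Set G) := by
    intro x hx
    refine mem_normalizer_of_conj_mem ?_
    rintro _ ⟨o, ho, rfl⟩
    exact ⟨_, ocore_normal.conj_mem o ho ⟨x, hx⟩, rfl⟩
  set N := Oc w ⊓ Dg
  have hNO : N ≤ normalizer (O : Set G) := inf_le_right.trans (le_sup_right.trans hXO)
  have hU2 : U ≤ normalizer ((O ⊔ N : Subgroup G) : Set G) := fun u hu =>
    join_normalized (hXO (mem_sup_right (hUDg hu))) (inf_normalizer_le_normalizer_inf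
      ⟨cent_le_normalizer_Oc w (mem_centralizer_singleton_iff.2 (hUw u hu)), le_normalizer (hUDg hu)⟩)
  have hO2odd : Odd (Nat.card (O ⊔ N : Subgroup G)) := by
    rw [sup_comm]
    exact Odd.of_dvd_nat ((Odd.of_dvd_nat (Oc_odd w) (card_dvd_of_le inf_le_left)).mul hOodd)
      (Solvable.card_sup_dvd hNO)
  refine D.no_trans hA hNA hWM hW hMW hMAW (fun x hx => hCA x (mem_inf.1 hx).1) hOz hU hU4 hUA
    (X := O ⊔ N) (sup_le (hOD.trans inf_le_left) (inf_le_right.trans inf_le_left)) hU2 hO2odd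
    (Dg := Dg) inf_le_left ?_ (mem_inf.1 hz).1 ?_ hz1
  · intro d hd
    obtain ⟨o, ho, x, hx, e⟩ := IsoApps.exists_mul hiso ⟨d, mem_sup_right hd⟩
    have e' : d = (o : G) * x := congrArg Subtype.val e
    have hoO : (o : G) ∈ O := ⟨o, ho, rfl⟩
    have hxw : (x : G) * w = w * x := congrArg Subtype.val (mem_centralizer_singleton_iff.1 hx)
    have hxD : (x : G) ∈ Dg := by
      have := mul_mem (inv_mem (hOD hoO)) hd
      rwa [e', inv_mul_cancel_left] at this
    have h24 : (x : G) ^ 24 ∈ N := by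
      refine ⟨?_, pow_mem hxD 24⟩
      have h1 := D.pow24 hz hz1 (g := v⁻¹ * (x : G) * v) (cent_conj.1 (by
        rw [hvw]; exact mem_centralizer_singleton_iff.2 hxw))
      have h2 := conj_mem_Oc (g := v) h1
      rw [hvw] at h2
      have h3 : (v⁻¹ * (x : G) * v) ^ 24 = v⁻¹ * (x : G) ^ 24 * v := by
        simpa using conj_pow (i := 24) (a := v⁻¹) (b := (x : G))
      rwa [h3, show v * (v⁻¹ * (x : G) ^ 24 * v) * v⁻¹ = (x : G) ^ 24 by group] at h2
    have h4 := pow_mul_mem hoO (hXO x.2) 24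
    rw [← e'] at h4
    have := mul_mem (mem_sup_left (T := N) h4) (mem_sup_right (S := O) h24)
    rwa [inv_mul_cancel_right] at this
  · intro a ha ha1
    obtain ⟨d, hd, e⟩ := htr a (hSM (D.hA ha)) (D.conj_A hA hz hz1 ha ha1)
    exact ⟨d⁻¹, inv_mem hd, by rw [← e]; group⟩

/-- One fused side: a subgroup containing the centralizers of the fused involutions is everything. -/
theorem caseII_top (hA : Fus A B) (hB : ¬ Fus B A) {W : Subgroup G} (hNA : normalizer (A : Set G) ≤ M)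
    (hWM : W ≤ M) (hW : Odd (Nat.card W)) (hMW : M ≤ normalizer (W : Set G))
    (hMAW : M ≤ normalizer ((A ⊔ W : Subgroup G) : Set G))
    (hCA : ∀ a ∈ A, a ≠ 1 → centralizer ({a} : Set G) ≤ M)
    (hOz : ∀ z ∈ A ⊓ B, z ≠ 1 → Oc z ≤ W) : M = ⊤ := by
  haveI : Fact (Nat.Prime 2) := ⟨Nat.prime_two⟩
  obtain ⟨z, hz, hz1⟩ := D.exists_zne
  have hSM := D.SleM hNA
  have hBM : B ≤ M := D.hB.trans hSM
  have hNB : normalizer (B : Set G) ≤ M := by
    intro n hn
    have hw : n * z * n⁻¹ ∈ A ⊓ B := (inf_comm B A).le (D.symm.normA_Z hB hn ((inf_comm A B).le hz))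
    obtain ⟨m, hm, e⟩ := D.burn hz hw rfl
    have h1 : m⁻¹ * n ∈ M := hCA z (mem_inf.1 hz).1 hz1 (mem_centralizer_singleton_iff.2 (by
      calc m⁻¹ * n * z = m⁻¹ * (n * z * n⁻¹) * n := by group
        _ = m⁻¹ * (m * z * m⁻¹) * n := by rw [e]
        _ = z * (m⁻¹ * n) := by group))
    have := mul_mem (hNA (D.normS_le hm)) h1
    rwa [mul_inv_cancel_left] at this
  have hOb : ∀ b ∈ B, Oc b ≤ M := by
    intro b hb
    have hel : Cfsg.IsElementaryAbelian 2 (A ⊓ B : Subgroup G) :=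
      ⟨⟨⟨fun x y => Subtype.ext (comm_of_sq D.eA x.2.1 y.2.1)⟩⟩, fun x hx => by rw [sq]; exact D.eA x hx.1⟩
    refine Signalizer.le_of_forall_centralizer hel le_rfl (by rw [D.cI]; norm_num) ?_
      (Oc_odd b).not_two_dvd_nat fun e he he1 => inf_le_right.trans (hCA e he.1 he1)
    exact fun e he => cent_le_normalizer_Oc b (mem_centralizer_singleton_iff.2 (D.cen e he b (D.hB hb)))
  refine top_of_cent S D.gen_invols (D.normS_le.trans hNA) ?_ (D.z_le_S hz) (D.orderA (mem_inf.1 hz).1 hz1)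
    (t := D.symm.exists_noncentral.choose) (D.hB D.symm.exists_noncentral.choose_spec.1) ?_
    (D.not_conjB hB D.symm.exists_noncentral.choose_spec.1 D.symm.exists_noncentral.choose_spec.2 hz)
  · intro s hs hs2
    by_cases hsA : s ∈ A
    · exact hCA s hsA (Invol.ne_one hs2)
    have hsB := (D.inv s hs (Invol.mul_self_eq_one hs2)).resolve_left hsA
    by_cases hmv : ∀ n ∈ normalizer (B : Set G), n * s = s * n → ∀ x ∈ B, n * x = x * n
    · intro g hg
      obtain ⟨o, ho, x, hx, rfl⟩ := (D.symm.cent_nilpotent hB hsB hsA hmv).1 g hg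
      exact mul_mem (hOb s hsB ho) (hBM hx)
    push Not at hmv
    obtain ⟨n₀, hn₀, hns, x, hx, hne⟩ := hmv
    have hmove : ∀ w ∈ A ⊓ B, w ≠ 1 → n₀ * w * n₀⁻¹ ≠ w := by
      rcases D.symm.act_dichotomy hB hsB hsA hn₀ hns with h | h
      · exact absurd (h x hx) hne
      · exact fun w hw => h w ((inf_comm A B).le hw)
    obtain ⟨U, hU, hU4, hsU, hUA, hfix⟩ := D.fixed_four hB hsB hsA hn₀ hns hmove
    obtain ⟨u, hu, hu1, hus⟩ : ∃ u ∈ U, u ≠ 1 ∧ u ≠ s := by
      by_contra! h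
      have h2 : Nat.card U ≤ Nat.card (zpowers s) := card_le_of_le fun y hy => by
        by_cases hy1 : y = 1
        · exact hy1 ▸ one_mem _
        · exact (h y hy hy1) ▸ mem_zpowers s
      rw [hU4, Nat.card_zpowers, hs2] at h2
      omega
    intro g hg
    obtain ⟨o, ho, c, hcs, hcu, rfl⟩ := D.symm.split_fixed hB hsB hsA (hU hu) hu1 (hfix u hu) hg
    refine mul_mem (hOb s hsB ho) (D.cent_U hA hB hNA hWM hW hMW hMAW hCA hOz hU hU4 hUA fun y hy => ?_)
    have hcl : U ≤ closure ({s, u} : Set G) := by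
      have hsub : closure ({s, u} : Set G) ≤ U := (closure_le _).2 (by
        rintro _ (rfl | rfl)
        · exact hsU
        · exact hu)
      refine (eq_of_le_of_card_ge hsub ?_).ge
      by_contra hlt
      push Not at hlt
      have h2 : zpowers s ≤ closure ({s, u} : Set G) := zpowers_le.2 (subset_closure (Set.mem_insert _ _))
      have h3 := card_le_of_le h2
      have h4 := card_dvd_of_le hsub
      rw [Nat.card_zpowers, hs2] at h3
      rw [hU4] at hlt h4
      have h5 : Nat.card (closure ({s, u} : Set G)) = 2 := by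
        have := Nat.le_of_dvd (by norm_num) h4
        interval_cases h6 : Nat.card (closure ({s, u} : Set G)) <;> omega
      have h7 := eq_of_le_of_card_ge h2 (by rw [h5, Nat.card_zpowers, hs2])
      have h8 : u ∈ zpowers s := h7 ▸ subset_closure (Set.mem_insert_of_mem _ rfl)
      obtain ⟨k, hk⟩ := mem_zpowers_iff.1 h8
      rcases Int.even_or_odd k with ⟨j, rfl⟩ | ⟨j, rfl⟩
      · exact hu1 (by rw [← hk, ← two_mul, zpow_mul, zpow_two, Invol.mul_self_eq_one hs2, one_zpow])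
      · exact hus (by rw [← hk, zpow_add, zpow_mul, zpow_two, Invol.mul_self_eq_one hs2, one_zpow, one_mul, zpow_one])
    have hy' := hcl hy
    clear hy
    induction hy' using closure_induction with
    | mem x hx =>
      rcases hx with rfl | rfl
      · exact hcs
      · exact hcu
    | one => simp
    | mul x y _ _ hx hy => exact ((show Commute c x from hx).mul_right (show Commute c y from hy)).eq
    | inv x _ hx => exact (show Commute c x from hx).inv_right.eq
  · exact D.symm.orderA D.symm.exists_noncentral.choose_spec.1 fun e =>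
      D.symm.exists_noncentral.choose_spec.2 (e ▸ one_mem A)

/-- With small centralizers a single fused side is normal. -/
theorem caseII_small (hA : Fus A B) (hB : ¬ Fus B A) (hSm : Small S A B) :
    normalizer (A : Set G) = ⊤ := by
  refine D.caseII_top hA hB le_rfl bot_le (by simp) (le_of_le_of_eq le_top (normalizer_eq_top_iff.2 (inferInstance : (⊥ : Subgroup G).Normal)).symm) ?_ ?_ ?_
  · rw [sup_bot_eq]
  · intro a ha ha1 g hg
    obtain ⟨o, ho, m, hm, rfl⟩ := D.cent_fused hA ha ha1 hg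
    obtain ⟨z, hz, hz1⟩ := D.exists_zne
    obtain ⟨n, -, rfl⟩ := D.exists_to hA hz hz1 ha ha1
    rw [← cj_Oc, Small.core_bot D hSm hz hz1, cj, Subgroup.map_bot, mem_bot] at ho
    rw [ho, one_mul]
    exact hm
  · exact fun z hz hz1 => (Small.core_bot D hSm hz hz1).le

/-- One fused side: `A` is normal modulo the odd core. -/
theorem caseII (hA : Fus A B) (hB : ¬ Fus B A) (hO : Cfsg.oddCore G = ⊥) : normalizer (A : Set G) = ⊤ := by
  haveI : Fact (Nat.Prime 2) := ⟨Nat.prime_two⟩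
  obtain ⟨W, hW, hOA, hNA, hCA, -⟩ := D.fused_closure hA
  have hWM : W ≤ normalizer (W : Set G) := le_normalizer
  set M := normalizer (W : Set G) with hM
  have hOz : ∀ z ∈ A ⊓ B, z ≠ 1 → Oc z ≤ W := fun z hz hz1 => hOA z hz.1 hz1
  suffices hMtop : M = ⊤ by
    have hW1 : W = ⊥ := by
      rw [eq_bot_iff, ← hO]
      exact le_ocore (normalizer_eq_top_iff.1 hMtop) hW
    exact D.caseII_small hA hB (D.small_of_core fun z hz hz1 => eq_bot_iff.2 (hW1 ▸ hOz z hz hz1))
  have hSM := D.SleM hNA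
  have hAM : A ≤ M := D.hA.trans hSM
  refine D.caseII_top hA hB hNA hWM hW le_rfl ?_ hCA hOz
  haveI hn : (W.subgroupOf M).Normal := (normal_subgroupOf_iff_le_normalizer hWM).2 le_rfl
  set f := QuotientGroup.mk' (W.subgroupOf M)
  have hf : Function.Surjective f := QuotientGroup.mk'_surjective _
  have hker : Odd (Nat.card f.ker) := by
    rw [QuotientGroup.ker_mk', Nat.card_congr (subgroupOfEquivOfLe hWM).toEquiv]
    exact hW
  have DM := D.restrict M hSM
  have hA' : Fus (A.subgroupOf M) (B.subgroupOf M) := by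
    obtain ⟨a, ha, haB, z, hz, hc⟩ := hA
    obtain ⟨g, hg⟩ := isConj_iff.1 hc
    obtain ⟨n, hn, e⟩ := D.conj_in_normA ha hz hg
    exact ⟨⟨a, hAM ha⟩, ha, haB, ⟨z, hSM (D.z_le_S hz)⟩, hz, isConj_iff.2 ⟨⟨n, hNA hn⟩, Subtype.ext e⟩⟩
  have hB' : ¬ Fus (B.subgroupOf M) (A.subgroupOf M) := by
    rintro ⟨b, hb, hbA, z, hz, hc⟩
    exact hB ⟨b, hb, hbA, z, hz, M.subtype.map_isConj hc⟩
  have hSm := DM.small_map hf hker (by
    intro v hv hv1 o ho
    rw [QuotientGroup.ker_mk', mem_subgroupOf]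
    exact hOz v hv (fun e => hv1 (Subtype.ext e))
      (map_Oc_le v (hCA v hv.1 (fun e => hv1 (Subtype.ext e))) ⟨o, ho, rfl⟩))
  have Df := DM.map hf hker
  have htop := Df.caseII_small (DM.fus_map hker hA') (DM.symm.not_fus_map hf hker hB') hSm
  haveI := normalizer_eq_top_iff.1 htop
  refine (normal_subgroupOf_iff_le_normalizer (sup_le hAM hWM)).1 ?_
  have h1 : (A ⊔ W).subgroupOf M = ((A.subgroupOf M).map f).comap f := by
    rw [comap_map_eq, QuotientGroup.ker_mk', subgroupOf_sup hAM hWM]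
  rw [h1]
  exact Normal.comap inferInstance f

end Dat

end CfsgLib.SylL34
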