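import Cfsg.Agent.SylL34.PlaneModel
import Cfsg.Agent.SylL34.Moving
import Cfsg.Agent.Invol.StrongEmbedded

/-!
Both sides fused: the group is that of the plane.
-/

set_option autoImplicit false
set_option linter.unusedSectionVars false
set_option linter.unusedSimpArgs false
set_option linter.style.haveILetI false

namespace CfsgLib.SylL34

open Subgroup

variable {G : Type*} [Group G] [Finite G]

namespace Dat

variable {S : Sylow 2 G} {A B : Subgroup G} (D : Dat S A B)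
include D

theorem to_z_fused (hA : Fus A B) (hB : Fus B A) {M : Subgroup G} (hNA : normalizer (A : Set G) ≤ M)
    (hNB : normalizer (B : Set G) ≤ M) {z t : G} (hz : z ∈ A ⊓ B) (hz1 : z ≠ 1) (ht : t ∈ M)
    (ht2 : orderOf t = 2) : ∃ m ∈ M, m * z * m⁻¹ = t := by
  obtain ⟨k, hk, hkS⟩ := conj_into S (D.le_normA.trans hNA) ht (Invol.mul_self_eq_one ht2)
  have h1 : k * t * k⁻¹ ≠ 1 := fun e => Invol.ne_one ht2 (conj_eq_one_iff.1 e)
  obtain ⟨n, hn, e⟩ : ∃ n ∈ M, n * z * n⁻¹ = k * t * k⁻¹ := by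
    rcases D.inv _ hkS (conj_sq k t (Invol.mul_self_eq_one ht2)) with h | h
    · obtain ⟨n, hn, e⟩ := D.exists_to hA hz hz1 h h1
      exact ⟨n, hNA hn, e⟩
    · obtain ⟨n, hn, e⟩ := D.symm.exists_to hB (by rwa [inf_comm]) hz1 h h1
      exact ⟨n, hNB hn, e⟩
  refine ⟨k⁻¹ * n, mul_mem (inv_mem hk) hn, ?_⟩
  rw [show k⁻¹ * n * z * (k⁻¹ * n)⁻¹ = k⁻¹ * (n * z * n⁻¹) * k by group, e]
  group

/-- A subgroup containing the centralizers of its involutions is everything. -/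
theorem strong_top (hA : Fus A B) (hB : Fus B A) {M : Subgroup G} (hNA : normalizer (A : Set G) ≤ M)
    (hNB : normalizer (B : Set G) ≤ M)
    (hC : ∀ s ∈ (S : Subgroup G), orderOf s = 2 → centralizer ({s} : Set G) ≤ M)
    {X : Type*} [Group X] [Finite X] (π : M →* X) {z : M} (hz : (z : G) ∈ A ⊓ B) (hz1 : z ≠ 1)
    (h35 : ∀ Y : Subgroup X, Odd (Nat.card Y) → ¬ 35 ∣ Nat.card Y)
    (hcl : 35 ∣ Nat.card {x : X // ∃ m : M, π (m * z * m⁻¹) = x}) : M = ⊤ := by
  haveI : Fact (Nat.Prime 2) := ⟨Nat.prime_two⟩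
  have hz1' : (z : G) ≠ 1 := fun e => hz1 (Subtype.ext e)
  have hz2 : orderOf (z : G) = 2 := D.orderA hz.1 hz1'
  have hcent := cent_of_rep S (D.le_normA.trans hNA) hC
  by_contra hne
  have hSE : Cfsg.IsStronglyEmbedded M := by
    refine ⟨hne, even_iff_two_dvd.2 (hz2 ▸ orderOf_dvd_natCard M z.2), fun g hg => ?_⟩
    rw [← Nat.not_even_iff_odd]
    intro he
    obtain ⟨⟨s, hsM, s', hs', e⟩, hs⟩ := exists_prime_orderOf_dvd_card'
      (G := (M ⊓ M.map (MulAut.conj g).toMonoidHom : Subgroup G)) 2 (even_iff_two_dvd.1 he)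
    rw [← orderOf_coe] at hs
    have hs2 : orderOf s = 2 := hs
    have e' : g * s' * g⁻¹ = s := e
    have hs'2 : orderOf s' = 2 := by rw [← hs2, ← e', Invol.orderOf_conj_eq]
    obtain ⟨m, hm, hme⟩ := D.to_z_fused hA hB hNA hNB hz hz1' hsM hs2
    obtain ⟨m', hm', hme'⟩ := D.to_z_fused hA hB hNA hNB hz hz1' hs' hs'2
    have hc : m⁻¹ * g * m' ∈ centralizer ({(z : G)} : Set G) := mem_centralizer_singleton_iff.2 (by
      calc m⁻¹ * g * m' * z = m⁻¹ * (g * (m' * z * m'⁻¹) * g⁻¹) * g * m' := by group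
        _ = m⁻¹ * (m * z * m⁻¹) * g * m' := by rw [hme', e', hme]
        _ = z * (m⁻¹ * g * m') := by group)
    have := mul_mem (mul_mem hm (hcent _ z.2 hz2 hc)) (inv_mem hm')
    rw [show m * (m⁻¹ * g * m') * m'⁻¹ = g by group] at this
    exact hg this
  obtain ⟨u, hu, huM⟩ : ∃ u : G, orderOf u = 2 ∧ u ∉ M := by
    by_contra! h
    exact hne (eq_top_of_invols S D.gen_invols h (D.normS_le.trans hNA))
  set E := M ⊓ M.map (MulAut.conj u).toMonoidHom
  set Y := (E.subgroupOf M).map π with hY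
  have hodd : Odd (Nat.card Y) := by
    refine Odd.of_dvd_nat (hSE.2.2 u huM) (?_ : Nat.card Y ∣ Nat.card E)
    rw [← Nat.card_congr (subgroupOfEquivOfLe (inf_le_left : E ≤ M)).toEquiv]
    exact ⟨_, (card_map_mul π _).symm⟩
  refine h35 Y hodd (hcl.trans ?_)
  have heq : Nat.card {x : X // ∃ m : M, π (m * z * m⁻¹) = x} =
      Nat.card {x : X // ∃ h ∈ Y, h * π z * h⁻¹ = x} := by
    refine Nat.card_congr (Equiv.subtypeEquivRight fun x => ⟨?_, ?_⟩)
    · rintro ⟨m, rfl⟩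
      obtain ⟨d, hd, e⟩ := StrongEmbed.exists_conj_in_stabilizer hSE hu huM hz2 z.2
        (t := ((m * z * m⁻¹ : M) : G)) (by push_cast; rw [Invol.orderOf_conj_eq, hz2]) (SetLike.coe_mem _)
      refine ⟨π ⟨d, hd.1⟩, mem_map_of_mem π hd, ?_⟩
      rw [← map_inv, ← map_mul, ← map_mul]
      exact congrArg π (Subtype.ext e)
    · rintro ⟨_, ⟨m, -, rfl⟩, rfl⟩
      exact ⟨m, by rw [map_mul, map_mul, map_inv]⟩
  rw [heq]
  exact ⟨_, (card_orbit Y (π z)).symm⟩

end Dat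

theorem card_class_map {H X : Type*} [Group H] [Group X] {f : H →* X} (hf : Function.Injective f) (z : H)
    {M : Type*} [Group M] (q : M →* H) (hq : Function.Surjective q) {z' : M} (hz : q z' = z) :
    Nat.card {x : X // ∃ m : M, (f.comp q) (m * z' * m⁻¹) = x} = Nat.card {y : H // ∃ h : H, h * z * h⁻¹ = y} := by
  refine (Nat.card_congr (Equiv.ofBijective (fun y : {y : H // ∃ h : H, h * z * h⁻¹ = y} =>
    (⟨f y.1, by
      obtain ⟨h, hy⟩ := y.2
      obtain ⟨m, rfl⟩ := hq h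
      exact ⟨m, by rw [MonoidHom.comp_apply, map_mul q, map_mul q, map_inv q, hz, hy]⟩⟩ :
      {x : X // ∃ m : M, (f.comp q) (m * z' * m⁻¹) = x})) ⟨?_, ?_⟩)).symm
  · exact fun a b e => Subtype.ext (hf (congrArg Subtype.val e))
  · rintro ⟨x, m, rfl⟩
    exact ⟨⟨q (m * z' * m⁻¹), q m, by rw [map_mul, map_mul, map_inv, hz]⟩, rfl⟩

namespace Two

variable {S : Sylow 2 G} {A B : Subgroup G} (K : Two S A B)
include K

/-- The small case. -/
theorem embeds {F : Type*} [Field F] [Fintype F] (hF : Fintype.card F = 4) {z : G} (hz : z ∈ A ⊓ B)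
    (hz1 : z ≠ 1) :
    (∃ f : G →* GL (Fin 3) F ⧸ Subgroup.center (GL (Fin 3) F), Function.Injective f) ∧
      Nat.card {y : G // ∃ h : G, h * z * h⁻¹ = y} = 315 := by
  classical
  obtain ⟨H, hHA, hHB, hHc, f, hf⟩ := K.exists_model hz hz1 hF
  have hCz : centralizer ({z} : Set G) ≤ H := (K.centA_le hz hz1).trans hHA
  have hC : ∀ s ∈ (S : Subgroup G), orderOf s = 2 → centralizer ({s} : Set G) ≤ H := by
    intro s hs hs2 g hg
    obtain ⟨n, hn, rfl⟩ := K.dat.to_z_fused K.fA K.fB hHA hHB hz hz1 ((K.dat.le_normA.trans hHA) hs) hs2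
    have := mul_mem (mul_mem hn (hCz (cent_conj.1 hg))) (inv_mem hn)
    rwa [show n * (n⁻¹ * g * n) * n⁻¹ = g by group] at this
  set z' : H := ⟨z, hCz (mem_centralizer_singleton_iff.2 rfl)⟩
  have hclass : Nat.card {y : G // ∃ h ∈ H, h * z * h⁻¹ = y} = 315 := by
    have h := card_orbit H z
    rw [inf_eq_right.2 hCz, hHc] at h
    exact Nat.eq_of_mul_eq_mul_right Nat.card_pos h
  have e : {y : H // ∃ h : H, h * z' * h⁻¹ = y} ≃ {y : G // ∃ h ∈ H, h * z * h⁻¹ = y} :=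
    { toFun := fun y => ⟨y.1, y.2.elim fun h hy => ⟨h, h.2, congrArg Subtype.val hy⟩⟩
      invFun := fun y => ⟨⟨y.1, by
        obtain ⟨h, hh, e⟩ := y.2
        exact e ▸ mul_mem (mul_mem hh z'.2) (inv_mem hh)⟩, y.2.elim fun h hy => ⟨⟨h, hy.1⟩, Subtype.ext hy.2⟩⟩
      left_inv := fun y => rfl
      right_inv := fun y => rfl }
  have hcl : Nat.card {x // ∃ m : H, (f.comp (MonoidHom.id H)) (m * z' * m⁻¹) = x} = 315 := by
    rw [card_class_map hf z' (MonoidHom.id H) Function.surjective_id rfl, Nat.card_congr e, hclass]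
  have htop : H = ⊤ := K.dat.strong_top K.fA K.fB hHA hHB hC (f.comp (MonoidHom.id H)) (z := z') hz
    (fun e => hz1 (congrArg Subtype.val e)) (fun Y hY => no35 hF Y hY) (by rw [hcl]; norm_num)
  refine ⟨⟨f.comp ((MonoidHom.id G).codRestrict H fun x => htop ▸ mem_top x),
    hf.comp fun a b h => congrArg Subtype.val h⟩, ?_⟩
  rw [← hclass]
  exact Nat.card_congr (Equiv.subtypeEquivRight fun y =>
    ⟨fun ⟨h, hy⟩ => ⟨h, htop ▸ mem_top h, hy⟩, fun ⟨h, _, hy⟩ => ⟨h, hy⟩⟩)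

end Two

namespace Dat

variable {S : Sylow 2 G} {A B : Subgroup G} (D : Dat S A B)
include D

theorem fus_restrict (hA : Fus A B) {M : Subgroup G} (hNA : normalizer (A : Set G) ≤ M) :
    Fus (A.subgroupOf M) (B.subgroupOf M) := by
  obtain ⟨a, ha, haB, z, hz, hc⟩ := hA
  obtain ⟨g, hg⟩ := isConj_iff.1 hc
  obtain ⟨n, hn, e⟩ := D.conj_in_normA ha hz hg
  exact ⟨⟨a, hNA (le_normalizer ha)⟩, ha, haB, ⟨z, hNA (le_normalizer hz.1)⟩, hz,
    isConj_iff.2 ⟨⟨n, hNA hn⟩, Subtype.ext e⟩⟩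

/-- Both sides fused. -/
theorem caseIII (hA : Fus A B) (hB : Fus B A) (hO : Cfsg.oddCore G = ⊥) {F : Type*} [Field F] [Fintype F]
    (hF : Fintype.card F = 4) :
    ∃ f : G →* GL (Fin 3) F ⧸ Subgroup.center (GL (Fin 3) F), Function.Injective f := by
  classical
  haveI : Fact (Nat.Prime 2) := ⟨Nat.prime_two⟩
  obtain ⟨z, hz, hz1⟩ := D.exists_zne
  obtain ⟨W, hW, hWle, hWN, hWC, hWgen⟩ := D.fused_closure hA
  obtain ⟨V, -, hVle, hVN, hVC, hVgen⟩ := D.symm.fused_closure hB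
  obtain rfl : W = V := le_antisymm (hWgen.trans (iSup_le fun e => hVle _ e.2.1.2 e.2.2))
    (hVgen.trans (iSup_le fun e => hWle _ e.2.1.2 e.2.2))
  set M := normalizer (W : Set G)
  have hC : ∀ s ∈ (S : Subgroup G), orderOf s = 2 → centralizer ({s} : Set G) ≤ M := fun s hs hs2 =>
    (D.inv s hs (Invol.mul_self_eq_one hs2)).elim (fun h => hWC s h (Invol.ne_one hs2))
      fun h => hVC s h (Invol.ne_one hs2)
  suffices hM : M = ⊤ by
    have hW1 : W = ⊥ := le_bot_iff.1 (hO ▸ le_ocore (normalizer_eq_top_iff.1 hM) hW)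
    have K : Two S A B := ⟨D, hA, hB,
      D.small_of_core fun e he he1 => le_bot_iff.1 ((hWle e he.1 he1).trans hW1.le)⟩
    exact (K.embeds hF hz hz1).1
  have hSM : (S : Subgroup G) ≤ M := D.le_normA.trans hWN
  set N := W.subgroupOf M
  haveI : N.Normal := Subgroup.normal_in_normalizer
  set q := QuotientGroup.mk' N
  have hq : Function.Surjective q := QuotientGroup.mk'_surjective N
  have hker : Odd (Nat.card q.ker) := by
    rw [QuotientGroup.ker_mk', Nat.card_congr (subgroupOfEquivOfLe le_normalizer).toEquiv]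
    exact hW
  have D1 := D.restrict M hSM
  have hsm : Small ((S.subtype hSM).mapSurjective hq) ((A.subgroupOf M).map q) ((B.subgroupOf M).map q) := by
    refine D1.small_map hq hker fun e he he1 y hy => ?_
    rw [QuotientGroup.ker_mk']
    have he1' : (e : G) ≠ 1 := fun h => he1 (Subtype.ext h)
    exact hWle _ he.1 he1' (map_Oc_le e (hWC _ he.1 he1') ⟨y, hy, rfl⟩)
  have K : Two ((S.subtype hSM).mapSurjective hq) ((A.subgroupOf M).map q) ((B.subgroupOf M).map q) :=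
    ⟨D1.map hq hker, D1.fus_map hker (D.fus_restrict hA hWN),
      D1.symm.fus_map hker (D.symm.fus_restrict hB hVN), hsm⟩
  set z' : M := ⟨z, hSM (D.z_le_S hz)⟩
  have hz' : q z' ∈ (A.subgroupOf M).map q ⊓ (B.subgroupOf M).map q :=
    ⟨mem_map_of_mem q hz.1, mem_map_of_mem q hz.2⟩
  have hz1' : q z' ≠ 1 := fun e => hz1 (congrArg Subtype.val
    (D1.map_inj hker (show z' ∈ (S.subtype hSM : Subgroup M) from D.z_le_S hz) (one_mem _) (e.trans (map_one q).symm)))
  obtain ⟨⟨f, hf⟩, hcard⟩ := K.embeds hF hz' hz1'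
  refine D.strong_top hA hB hWN hVN hC (f.comp q) (z := z') hz (fun e => hz1 (congrArg Subtype.val e))
    (fun Y hY => no35 hF Y hY) ?_
  rw [card_class_map hf (q z') q hq rfl, hcard]
  norm_num

end Dat

end CfsgLib.SylL34
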