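import Cfsg.Agent.SylL34.Fusion
import Cfsg.Agent.ChzL34.FusedIso
import Mathlib.LinearAlgebra.Matrix.SpecialLinearGroup

/-!
The unitriangular Sylow 2-subgroup of `PSL(3, 4)`, and transport along isomorphisms of Sylow subgroups.
-/

set_option autoImplicit false
set_option linter.unusedSectionVars false
set_option linter.style.haveILetI false

namespace CfsgLib.SylL34

open Subgroup

/-- The data pass along an isomorphism of the Sylow subgroups. -/
theorem Dat.transport {X : Type*} [Group X] [Finite X] {P : Sylow 2 X} {A B : Subgroup X} (D : Dat P A B)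
    {G : Type*} [Group G] [Finite G] {S : Sylow 2 G} (e : (P : Subgroup X) ≃* (S : Subgroup G)) :
    ∃ A' B' : Subgroup G, Dat S A' B' := by
  set f : (P : Subgroup X) →* G := (S : Subgroup G).subtype.comp e.toMonoidHom with hf
  have hinj : Function.Injective f := Subtype.val_injective.comp e.injective
  have hfS : ∀ x : (P : Subgroup X), f x ∈ (S : Subgroup G) := fun x => (e x).2
  have hcard : ∀ Y : Subgroup X, Y ≤ P → Nat.card ((Y.subgroupOf P).map f) = Nat.card Y := fun Y hY => by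
    rw [card_map_of_injective hinj, Nat.card_congr (subgroupOfEquivOfLe hY).toEquiv]
  have hinf : (A.subgroupOf P).map f ⊓ (B.subgroupOf P).map f = ((A ⊓ B).subgroupOf P).map f := by
    rw [← map_inf _ _ _ hinj]
    rfl
  refine ⟨(A.subgroupOf P).map f, (B.subgroupOf P).map f, ⟨?_, ?_, ?_, ?_, ?_, ?_, ?_, D.cS ▸ ?_, ?_, ?_, ?_⟩⟩
  · rintro _ ⟨x, -, rfl⟩; exact hfS x
  · rintro _ ⟨x, -, rfl⟩; exact hfS x
  · rintro _ ⟨x, hx, rfl⟩
    rw [← map_mul, show x * x = 1 from Subtype.ext (D.eA x hx), map_one]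
  · rintro _ ⟨x, hx, rfl⟩
    rw [← map_mul, show x * x = 1 from Subtype.ext (D.eB x hx), map_one]
  · rw [hcard A D.hA, D.cA]
  · rw [hcard B D.hB, D.cB]
  · rw [hinf, hcard _ D.z_le_S, D.cI]
  · exact Nat.card_congr e.symm.toEquiv
  · intro y hy hyy
    obtain ⟨x, hx⟩ : ∃ x, f x = y := ⟨e.symm ⟨y, hy⟩, by simp [hf]⟩
    subst hx
    rw [← map_mul, ← map_one f] at hyy
    rcases D.inv x x.2 (congrArg Subtype.val (hinj hyy)) with h | h
    · exact Or.inl ⟨x, h, rfl⟩
    · exact Or.inr ⟨x, h, rfl⟩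
  · intro w hw y hy
    rw [hinf] at hw
    obtain ⟨w, hw', rfl⟩ := hw
    obtain ⟨x, rfl⟩ : ∃ x, f x = y := ⟨e.symm ⟨y, hy⟩, by simp [hf]⟩
    rw [← map_mul, ← map_mul, show w * x = x * w from Subtype.ext (D.cen w hw' x x.2)]
  · rintro _ ⟨a, ha, rfl⟩ haB _ ⟨b, hb, rfl⟩ h
    rw [← map_mul, ← map_mul] at h
    exact ⟨b, D.selfA a ha (fun h' => haB ⟨a, h', rfl⟩) b hb (congrArg Subtype.val (hinj h)), rfl⟩

section Uni

variable {F : Type*} [Field F]

/-- A unitriangular matrix. -/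
def uMat (x : F × F × F) : Matrix.SpecialLinearGroup (Fin 3) F :=
  ⟨!![1, x.1, x.2.2; 0, 1, x.2.1; 0, 0, 1], by simp [Matrix.det_fin_three]⟩

/-- Its image. -/
def uElt (x : F × F × F) : Matrix.ProjectiveSpecialLinearGroup (Fin 3) F := QuotientGroup.mk (uMat x)

theorem uMat_mul (x y : F × F × F) :
    uMat x * uMat y = uMat (x.1 + y.1, x.2.1 + y.2.1, x.2.2 + y.2.2 + x.1 * y.2.1) := by
  refine Subtype.ext ?_
  show !![1, x.1, x.2.2; 0, 1, x.2.1; 0, 0, 1] * !![1, y.1, y.2.2; 0, 1, y.2.1; 0, 0, 1] =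
    !![1, x.1 + y.1, x.2.2 + y.2.2 + x.1 * y.2.1; 0, 1, x.2.1 + y.2.1; 0, 0, 1]
  ext i j
  fin_cases i <;> fin_cases j <;> simp [Matrix.mul_apply, Fin.sum_univ_three] <;> ring

theorem uElt_mul (x y : F × F × F) :
    uElt x * uElt y = uElt (x.1 + y.1, x.2.1 + y.2.1, x.2.2 + y.2.2 + x.1 * y.2.1) := by
  rw [uElt, uElt, uElt, ← QuotientGroup.mk_mul, uMat_mul]

theorem uElt_zero : uElt ((0, 0, 0) : F × F × F) = 1 := by
  have h := uElt_mul ((0, 0, 0) : F × F × F) (0, 0, 0)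
  simp only [add_zero, mul_zero] at h
  exact mul_eq_left.1 h

theorem uElt_eq_one {x : F × F × F} (h : uElt x = 1) : x = 0 := by
  obtain ⟨r, -, hr⟩ := Matrix.SpecialLinearGroup.mem_center_iff.1 ((QuotientGroup.eq_one_iff _).1 h)
  have e : ∀ i j, Matrix.scalar (Fin 3) r i j = (!![1, x.1, x.2.2; 0, 1, x.2.1; 0, 0, 1] : Matrix (Fin 3) (Fin 3) F) i j :=
    fun i j => by rw [hr]; rfl
  have h01 := e 0 1
  have h02 := e 0 2
  have h12 := e 1 2
  simp at h01 h02 h12
  exact Prod.ext h01.symm (Prod.ext h12.symm h02.symm)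

/-- The inverse parameters. -/
def uInv (x : F × F × F) : F × F × F := (-x.1, -x.2.1, -x.2.2 + x.1 * x.2.1)

theorem uElt_inv (x : F × F × F) : (uElt x)⁻¹ = uElt (uInv x) := by
  refine inv_eq_of_mul_eq_one_right ?_
  rw [uElt_mul, ← uElt_zero (F := F)]
  congr 1
  simp only [uInv, Prod.mk.injEq]
  exact ⟨by ring, by ring, by ring⟩

theorem uElt_inj : Function.Injective (uElt (F := F)) := by
  intro x y h
  have h1 : uElt (uInv x) * uElt y = 1 := by rw [← uElt_inv, h, inv_mul_cancel]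
  rw [uElt_mul] at h1
  have h2 := uElt_eq_one h1
  simp only [uInv, Prod.ext_iff, Prod.fst_zero, Prod.snd_zero] at h2
  obtain ⟨h3, h4, h5⟩ := h2
  have e1 : x.1 = y.1 := by linear_combination -h3
  have e2 : x.2.1 = y.2.1 := by linear_combination -h4
  refine Prod.ext e1 (Prod.ext e2 ?_)
  rw [← e2] at h5
  linear_combination -h5

/-- The unitriangular subgroup with prescribed zero parameters. -/
def uSub (p : F × F × F → Prop) (h0 : p (0, 0, 0))
    (hm : ∀ x y, p x → p y → p (x.1 + y.1, x.2.1 + y.2.1, x.2.2 + y.2.2 + x.1 * y.2.1))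
    (hi : ∀ x, p x → p (uInv x)) : Subgroup (Matrix.ProjectiveSpecialLinearGroup (Fin 3) F) where
  carrier := uElt '' {x | p x}
  one_mem' := ⟨(0, 0, 0), h0, uElt_zero⟩
  mul_mem' := by
    rintro _ _ ⟨x, hx, rfl⟩ ⟨y, hy, rfl⟩
    exact ⟨_, hm x y hx hy, (uElt_mul x y).symm⟩
  inv_mem' := by
    rintro _ ⟨x, hx, rfl⟩
    exact ⟨_, hi x hx, (uElt_inv x).symm⟩

theorem card_uSub {p : F × F × F → Prop} (h0 : p (0, 0, 0))
    (hm : ∀ x y, p x → p y → p (x.1 + y.1, x.2.1 + y.2.1, x.2.2 + y.2.2 + x.1 * y.2.1))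
    (hi : ∀ x, p x → p (uInv x)) : Nat.card (uSub p h0 hm hi) = Nat.card {x // p x} :=
  Nat.card_image_of_injective uElt_inj _

variable [Fintype F]

/-- The unitriangular Sylow 2-subgroup has the data. -/
theorem exists_dat_uni (hF : Fintype.card F = 4) [Finite (Matrix.ProjectiveSpecialLinearGroup (Fin 3) F)] :
    ∃ (U : Sylow 2 (Matrix.ProjectiveSpecialLinearGroup (Fin 3) F))
      (A B : Subgroup (Matrix.ProjectiveSpecialLinearGroup (Fin 3) F)), Dat U A B := by
  classical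
  haveI : Fact (Nat.Prime 2) := ⟨Nat.prime_two⟩
  have h2 : (2 : F) = 0 := by
    have h := Nat.cast_card_eq_zero F
    rw [hF] at h
    push_cast at h
    rw [show (4 : F) = 2 * 2 by norm_num] at h
    exact mul_self_eq_zero.1 h
  have hadd : ∀ a : F, a + a = 0 := fun a => by linear_combination a * h2
  let U := uSub (F := F) (fun _ => True) trivial (fun _ _ _ _ => trivial) fun _ _ => trivial
  let A := uSub (F := F) (fun x => x.2.1 = 0) rfl (fun x y hx hy => by simp [hx, hy]) fun x hx => by simp [uInv, hx]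
  let B := uSub (F := F) (fun x => x.1 = 0) rfl (fun x y hx hy => by simp [hx, hy]) fun x hx => by simp [uInv, hx]
  have hnF : Nat.card F = 4 := by rw [Nat.card_eq_fintype_card, hF]
  have hcU : Nat.card U = 64 := by
    rw [card_uSub, Nat.card_congr (Equiv.subtypeUnivEquiv fun _ => trivial), Nat.card_prod, Nat.card_prod, hnF]
  have hcA : Nat.card A = 16 := by
    have e : {x : F × F × F // x.2.1 = 0} ≃ F × F :=
      { toFun := fun x => (x.1.1, x.1.2.2)
        invFun := fun y => ⟨(y.1, 0, y.2), rfl⟩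
        left_inv := fun ⟨⟨a, b, c⟩, h⟩ => by simp only [] at h; subst h; rfl
        right_inv := fun y => rfl }
    rw [card_uSub, Nat.card_congr e, Nat.card_prod, hnF]
  have hcB : Nat.card B = 16 := by
    have e : {x : F × F × F // x.1 = 0} ≃ F × F :=
      { toFun := fun x => x.1.2
        invFun := fun y => ⟨(0, y), rfl⟩
        left_inv := fun ⟨⟨a, y⟩, h⟩ => by simp only [] at h; subst h; rfl
        right_inv := fun y => rfl }
    rw [card_uSub, Nat.card_congr e, Nat.card_prod, hnF]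
  have hcI : Nat.card (A ⊓ B : Subgroup _) = 4 := by
    have e : F ≃ (A ⊓ B : Subgroup (Matrix.ProjectiveSpecialLinearGroup (Fin 3) F)) := Equiv.ofBijective
      (fun c => ⟨uElt (0, 0, c), ⟨_, rfl, rfl⟩, ⟨_, rfl, rfl⟩⟩)
      ⟨fun c c' h => congrArg (fun t : F × F × F => t.2.2) (uElt_inj (congrArg Subtype.val h :)), by
        rintro ⟨_, ⟨⟨a, b, c⟩, hb, rfl⟩, ⟨y, hy, e⟩⟩
        obtain rfl := uElt_inj e
        change a = 0 at hy
        change b = 0 at hb
        subst hy hb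
        exact ⟨c, rfl⟩⟩
    rw [← Nat.card_congr e, hnF]
  let P : Sylow 2 (Matrix.ProjectiveSpecialLinearGroup (Fin 3) F) := Sylow.ofCard U (by
    rw [hcU, ChzL34.card_psl_three hF, show (20160 : ℕ) = 2 ^ 6 * 315 from rfl,
      Nat.factorization_mul (by norm_num) (by norm_num), Nat.Prime.factorization_pow Nat.prime_two]
    have : (315 : ℕ).factorization 2 = 0 := Nat.factorization_eq_zero_of_not_dvd (by norm_num)
    simp [this])
  have hle : ∀ {p : F × F × F → Prop} {h0 hm hi}, uSub p h0 hm hi ≤ (P : Subgroup _) := by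
    rintro p h0 hm hi _ ⟨x, -, rfl⟩
    exact ⟨x, trivial, rfl⟩
  refine ⟨P, A, B, ⟨hle, hle, ?_, ?_, hcA, hcB, hcI, hcU, ?_, ?_, ?_⟩⟩
  · rintro _ ⟨x, hx, rfl⟩
    rw [uElt_mul, ← uElt_zero (F := F)]
    congr 1
    simp [show x.2.1 = 0 from hx, hadd]
  · rintro _ ⟨x, hx, rfl⟩
    rw [uElt_mul, ← uElt_zero (F := F)]
    congr 1
    simp [show x.1 = 0 from hx, hadd]
  · rintro _ ⟨x, -, rfl⟩ h
    rw [uElt_mul, ← uElt_zero (F := F)] at h
    have h' := congrArg (fun t : F × F × F => t.2.2) (uElt_inj h)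
    simp [hadd] at h'
    rcases h' with h' | h'
    · exact Or.inr ⟨x, h', rfl⟩
    · exact Or.inl ⟨x, h', rfl⟩
  · rintro _ ⟨⟨x, hx, rfl⟩, ⟨y, hy, e⟩⟩ _ ⟨v, -, rfl⟩
    obtain rfl := uElt_inj e
    rw [uElt_mul, uElt_mul]
    congr 1
    simp [show y.2.1 = 0 from hx, show y.1 = 0 from hy, add_comm]
  · rintro _ ⟨a, ha, rfl⟩ haB _ ⟨b, hb, rfl⟩ h
    rw [uElt_mul, uElt_mul] at h
    have h' := congrArg (fun t : F × F × F => t.2.2) (uElt_inj h)
    simp [show a.2.1 = 0 from ha, show b.1 = 0 from hb, add_comm] at h'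
    rcases h' with h' | h'
    · exact absurd ⟨a, h', rfl⟩ haB
    · exact ⟨b, h', rfl⟩

/-- Any group with such a Sylow subgroup has the data. -/
theorem exists_dat (hF : Fintype.card F = 4) {G : Type*} [Group G] [Finite G] (S : Sylow 2 G)
    (P : Sylow 2 (Matrix.ProjectiveSpecialLinearGroup (Fin 3) F))
    (hS : Nonempty ((S : Subgroup G) ≃* (P : Subgroup (Matrix.ProjectiveSpecialLinearGroup (Fin 3) F)))) :
    ∃ A B : Subgroup G, Dat S A B := by
  classical
  haveI : Fact (Nat.Prime 2) := ⟨Nat.prime_two⟩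
  haveI : Finite (Matrix.ProjectiveSpecialLinearGroup (Fin 3) F) := Quotient.finite _
  obtain ⟨U, A, B, D⟩ := exists_dat_uni hF
  obtain ⟨e⟩ := hS
  exact D.transport ((U.equiv P).trans e.symm)

end Uni

end CfsgLib.SylL34
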