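import Cfsg.Agent.SylL34.LinearThree
import Mathlib.GroupTheory.Perm.Cycle.Type

/-!
A group of even automorphisms of the plane of order four embeds in `PGL(3, 4)`: automorphisms induced by
`PGL(3, 4)` are even, and the extension of a transposition of a hyperoval has seven fixed points.
-/

set_option autoImplicit false
set_option linter.unusedSectionVars false
set_option linter.style.haveILetI false

namespace CfsgLib.SylL34

open Finset
open Cfsg.Agent.PlaneFour (Plane exists_iso iso_unique IsArc join)

/-- An odd automorphism. -/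
theorem exists_odd_aut {α : Type*} [Fintype α] [DecidableEq α] {L : Set (Finset α)} (P : Plane L) :
    ∃ g ∈ Cfsg.setSystemAut L, Equiv.Perm.sign g = -1 := by
  classical
  obtain ⟨H, h6, hH⟩ := P.exists_oval
  obtain ⟨a, ha, b, hb, hab⟩ := Finset.one_lt_card.1 (by omega : 1 < H.card)
  set σ : ↥H ≃ ↥H := Equiv.swap ⟨a, ha⟩ ⟨b, hb⟩ with hσ
  obtain ⟨e, he, hext⟩ := exists_iso P P h6 hH h6 hH σ
  have hline : ∀ l ∈ L, l.image e ∈ L := fun l hl => he ▸ Set.mem_image_of_mem (fun l : Finset α => l.image e) hl
  refine ⟨e, P.mem_aut_of_line_image hline, ?_⟩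
  have hee : (e.trans e : Equiv.Perm α) = Equiv.refl α := by
    refine iso_unique P P h6 hH h6 hH (Equiv.refl _) _ _ (fun l hl => ?_) (fun l hl => by simpa using hl)
      (fun p => ?_) (fun p => rfl)
    · have := hline _ (hline l hl)
      rwa [Finset.image_image] at this
    · show e (e (p : α)) = p
      rw [hext p, hext (σ p), hσ, Equiv.swap_apply_self]
  have hsq : e ^ 2 = 1 := by rw [sq]; exact hee
  have hea : e a = b := (hext ⟨a, ha⟩).trans (by rw [hσ, Equiv.swap_apply_left])
  have heb : e b = a := (hext ⟨b, hb⟩).trans (by rw [hσ, Equiv.swap_apply_right])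
  have hoth : ∀ x ∈ H, x ≠ a → x ≠ b → e x = x := fun x hx h1 h2 => (hext ⟨x, hx⟩).trans (by
    rw [hσ, Equiv.swap_apply_of_ne_of_ne (fun h => h1 (congrArg Subtype.val h))
      (fun h => h2 (congrArg Subtype.val h))])
  have himg : ∀ x y : α, x ≠ y → ∀ q ∈ join L x y, e q ∈ join L (e x) (e y) := by
    intro x y hxy q hq
    rw [← P.eq_join (hline _ (P.join_mem hxy)) (e.injective.ne hxy) (Finset.mem_image_of_mem _ (P.left_mem hxy))
      (Finset.mem_image_of_mem _ (P.right_mem hxy))]
    exact Finset.mem_image_of_mem _ hq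
  have hout : ∀ p, p ∉ H → (e p = p ↔ p ∈ join L a b) := by
    intro p hp
    obtain ⟨c, hc, hcn⟩ := Finset.exists_mem_notMem_of_card_lt_card
      (s := ({a, b} : Finset α)) (t := H) (by have := Finset.card_le_two (a := a) (b := b); omega)
    simp only [Finset.mem_insert, Finset.mem_singleton, not_or] at hcn
    constructor
    · intro hfix
      by_contra hno
      obtain ⟨d, hd, hda, hpd⟩ := P.exists_partner h6 hH hp ha
      have hdb : d ≠ b := fun h => hno (h ▸ hpd)
      have h1 : p ∈ join L b d := by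
        have := himg a d hda.symm p hpd
        rwa [hfix, hea, hoth d hd hda hdb] at this
      rw [P.join_comm hda.symm] at hpd
      rw [P.join_comm hdb.symm] at h1
      exact hab (P.partner_unique h6 hH hp hd ha hb hda.symm hdb.symm hpd h1)
    · intro hpab
      obtain ⟨d, hd, hdc, hpd⟩ := P.exists_partner h6 hH hp hc
      have hda : d ≠ a := fun h => by
        subst h
        rw [P.join_comm hdc.symm] at hpd
        exact hcn.2 (P.partner_unique h6 hH hp ha hb hc hab.symm hcn.1 hpab hpd).symm
      have hdb : d ≠ b := fun h => by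
        subst h
        rw [P.join_comm hdc.symm] at hpd
        rw [P.join_comm hab] at hpab
        exact hcn.1 (P.partner_unique h6 hH hp hb ha hc hab hcn.2 hpab hpd).symm
      have i1 : e p ∈ join L a b := by
        have := himg a b hab p hpab
        rwa [hea, heb, P.join_comm hab.symm] at this
      have i2 : e p ∈ join L c d := by
        have := himg c d hdc.symm p hpd
        rwa [hoth c hc hcn.1 hcn.2, hoth d hd hda hdb] at this
      exact P.eq_of_two_secants h6 hH ha hb hc hd hab hdc.symm hcn.1 hcn.2 i1 i2 hpab hpd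
  have hl := P.join_mem hab
  have hlH : join L a b ∩ H = {a, b} := by
    refine (Finset.eq_of_subset_of_card_le ?_ ?_).symm
    · simp [Finset.insert_subset_iff, P.left_mem hab, P.right_mem hab, ha, hb]
    · rw [Finset.card_pair hab]; exact hH _ hl
  have hfix : (Finset.univ.filter fun p => e p = p) = (H \ {a, b}) ∪ (join L a b \ H) := by
    ext p
    simp only [Finset.mem_filter, Finset.mem_univ, true_and, Finset.mem_union, Finset.mem_sdiff,
      Finset.mem_insert, Finset.mem_singleton, not_or]
    by_cases hp : p ∈ H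
    · constructor
      · intro h
        refine Or.inl ⟨hp, ?_, ?_⟩
        · rintro rfl; exact hab (h.symm.trans hea)
        · rintro rfl; exact hab (heb.symm.trans h)
      · rintro (⟨-, h1, h2⟩ | ⟨-, h⟩)
        · exact hoth p hp h1 h2
        · exact absurd hp h
    · rw [hout p hp]
      exact ⟨fun h => Or.inr ⟨h, hp⟩, fun h => h.elim (fun h' => absurd h'.1 hp) fun h' => h'.1⟩
  have h7 : (Finset.univ.filter fun p => e p = p).card = 7 := by
    rw [hfix, Finset.card_union_of_disjoint (Finset.disjoint_left.2 fun x h1 h2 =>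
      (Finset.mem_sdiff.1 h2).2 (Finset.mem_sdiff.1 h1).1),
      Finset.card_sdiff_of_subset (by simp [Finset.insert_subset_iff, ha, hb]), Finset.card_sdiff,
      Finset.inter_comm, hlH, h6, P.card_line hl, Finset.card_pair hab]
  rw [Equiv.Perm.sign_of_pow_two_eq_one hsq, P.pts,
    show Fintype.card (Function.fixedPoints e) = 7 by rw [← h7, ← Fintype.card_subtype]; exact Fintype.card_congr (Equiv.refl _)]
  rfl

variable {F : Type*} [Field F] [Fintype F]

/-- Cubes come from `PSL`. -/
theorem cube_mem (hF : Fintype.card F = 4) (q : GL (Fin 3) F ⧸ Subgroup.center (GL (Fin 3) F)) :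
    ∃ s : Matrix.ProjectiveSpecialLinearGroup (Fin 3) F, Matrix.ProjectiveSpecialLinearGroup.toPGL s = q ^ 3 := by
  classical
  obtain ⟨g, rfl⟩ := QuotientGroup.mk_surjective q
  have hdet : ((g ^ 3 : GL (Fin 3) F) : Matrix (Fin 3) (Fin 3) F).det = 1 := by
    rw [Units.val_pow_eq_pow_val, Matrix.det_pow]
    have h := FiniteField.pow_card_sub_one_eq_one _ (Matrix.GeneralLinearGroup.det_ne_zero g)
    rwa [hF] at h
  refine ⟨QuotientGroup.mk (⟨_, hdet⟩ : Matrix.SpecialLinearGroup (Fin 3) F), ?_⟩
  refine Eq.trans ?_ (QuotientGroup.mk_pow _ g 3)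
  exact congrArg QuotientGroup.mk (Units.ext rfl)

/-- A homomorphism from `PGL(3, 4)` to a group of exponent two is trivial. -/
theorem pgl_hom_trivial (hF : Fintype.card F = 4) (s : GL (Fin 3) F ⧸ Subgroup.center (GL (Fin 3) F) →* ℤˣ)
    (q : GL (Fin 3) F ⧸ Subgroup.center (GL (Fin 3) F)) : s q = 1 := by
  classical
  haveI : IsSimpleGroup (Matrix.ProjectiveSpecialLinearGroup (Fin 3) F) :=
    CfsgLib.Linear.isSimpleGroup_PSL (Or.inl (by simp))
  let ι : Matrix.ProjectiveSpecialLinearGroup (Fin 3) F →* GL (Fin 3) F ⧸ Subgroup.center (GL (Fin 3) F) :=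
    Matrix.ProjectiveSpecialLinearGroup.toPGL
  have h0 : ∀ t, (s.comp ι) t = 1 := by
    rcases (inferInstance : (s.comp ι).ker.Normal).eq_bot_or_eq_top with h | h
    · exfalso
      have := Nat.card_le_card_of_injective _ (MonoidHom.ker_eq_bot_iff _ |>.1 h)
      rw [ChzL34.card_psl_three hF, Nat.card_eq_fintype_card, Fintype.card_units_int] at this
      omega
    · exact fun t => MonoidHom.mem_ker.1 (h ▸ Subgroup.mem_top t)
  obtain ⟨t, ht⟩ := cube_mem hF q
  have h3 : s q ^ 3 = 1 := by
    rw [← map_pow]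
    exact (congrArg s ht.symm).trans (h0 t)
  rwa [pow_succ, sq, Int.units_mul_self, one_mul] at h3

/-- A group of even automorphisms embeds. -/
theorem embed_even {α : Type*} [Fintype α] [DecidableEq α] {L : Set (Finset α)} (hA : Plane L) {X : Type*}
    [Group X] (ρ : X →* Equiv.Perm α) (hρ : Function.Injective ρ) (hL : ∀ g, ∀ l ∈ L, l.image (ρ g) ∈ L)
    (heven : ∀ g, Equiv.Perm.sign (ρ g) = 1) (hF : Fintype.card F = 4) :
    ∃ f : X →* GL (Fin 3) F ⧸ Subgroup.center (GL (Fin 3) F), Function.Injective f := by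
  classical
  haveI : Fintype (Projectivization F (Fin 3 → F)) := Fintype.ofFinite _
  obtain ⟨LB, -, ψ, hB, -, hψ⟩ := ChzL34.exists_model hF
  obtain ⟨HA, hA6, hAarc⟩ := hA.exists_oval
  obtain ⟨HB, hB6, hBarc⟩ := hB.exists_oval
  obtain ⟨e, he, -⟩ := exists_iso hA hB hA6 hAarc hB6 hBarc (Finset.equivOfCardEq (hA6.trans hB6.symm))
  let φ : X →* Equiv.Perm (Projectivization F (Fin 3 → F)) :=
    { toFun := fun g => e.permCongr (ρ g)
      map_one' := Equiv.ext fun y => by simp [Equiv.permCongr_apply]
      map_mul' := fun g h => Equiv.ext fun y => by simp [Equiv.permCongr_apply, Equiv.Perm.mul_apply] }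
  have hφA : ∀ g : X, φ g ∈ Cfsg.setSystemAut LB := by
    intro g
    refine hB.mem_aut_of_line_image fun l hl => ?_
    obtain ⟨b, hb, rfl⟩ := (show l ∈ (fun b => b.image e) '' L from he ▸ hl)
    have := he ▸ Set.mem_image_of_mem (fun b : Finset α => b.image e) (hL g b hb)
    convert! this using 1
    simp only [Finset.image_image]
    congr 1
    funext x
    simp [φ, Equiv.permCongr_apply]
  let θ : X →* Cfsg.setSystemAut LB := φ.codRestrict _ hφA
  have hθ : Function.Injective θ := fun g h e' => hρ (e.permCongr.injective (congrArg Subtype.val e'))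
  set s : Cfsg.setSystemAut LB →* ℤˣ := Equiv.Perm.sign.comp (Cfsg.setSystemAut LB).subtype
  have hψle : ψ.range ≤ s.ker := by
    rintro _ ⟨q, rfl⟩
    exact MonoidHom.mem_ker.2 (pgl_hom_trivial hF (s.comp ψ) q)
  have hθle : θ.range ≤ s.ker := by
    rintro _ ⟨g, rfl⟩
    exact MonoidHom.mem_ker.2 ((Equiv.Perm.sign_permCongr e (ρ g)).trans (heven g))
  have hker : s.ker = ψ.range := by
    refine (Subgroup.eq_of_le_of_card_ge hψle ?_).symm
    obtain ⟨g, hg, hgo⟩ := exists_odd_aut hB
    have hne : s.ker.index ≠ 1 := fun h => by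
      have : (⟨g, hg⟩ : Cfsg.setSystemAut LB) ∈ s.ker := Subgroup.index_eq_one.1 h ▸ Subgroup.mem_top _
      exact absurd (hgo.symm.trans (MonoidHom.mem_ker.1 this)) (by decide)
    have hpos : s.ker.index ≠ 0 := Subgroup.index_ne_zero_of_finite
    have h2 : 2 * Nat.card s.ker ≤ Nat.card (Cfsg.setSystemAut LB) := by
      rw [← s.ker.index_mul_card]
      exact Nat.mul_le_mul_right _ (by omega)
    rw [← Nat.card_congr (MonoidHom.ofInjective hψ).toEquiv, ChzL34.card_pgl_three hF]
    have := hB.card_aut_le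
    omega
  have hle : θ.range ≤ ψ.range := hθle.trans hker.le
  exact ⟨(MonoidHom.ofInjective hψ).symm.toMonoidHom.comp ((Subgroup.inclusion hle).comp θ.rangeRestrict),
    (MonoidHom.ofInjective hψ).symm.injective.comp ((Subgroup.inclusion_injective hle).comp
      (MonoidHom.rangeRestrict_injective_iff.2 hθ))⟩

end CfsgLib.SylL34
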