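import Cfsg.Agent.SylL34.Incidence
import Cfsg.Agent.SylL34.EvenAut
import Cfsg.Agent.Solvable.GaschutzLocal

/-!
`A` normal and self-centralizing with an invariant spread: the affine plane of order four on the cosets of a
complement, completed by the five components, and the embedding in `PGL(3, 4)`.
-/

set_option autoImplicit false
set_option linter.unusedSectionVars false
set_option linter.unusedSimpArgs false
set_option linter.style.haveILetI false

namespace CfsgLib.SylL34

open Subgroup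

variable {G : Type*} [Group G] [Finite G]

/-- An invariant spread on `A` containing the centre of `S`. -/
structure Spread (A B : Subgroup G) (𝒮 : Set (Subgroup G)) : Prop where
  zmem : A ⊓ B ∈ 𝒮
  le : ∀ T ∈ 𝒮, T ≤ A
  card : ∀ T ∈ 𝒮, Nat.card T = 4
  cover : ∀ a ∈ A, a ≠ 1 → ∃ T ∈ 𝒮, a ∈ T
  disj : ∀ T ∈ 𝒮, ∀ T' ∈ 𝒮, ∀ x ∈ T, x ∈ T' → x ≠ 1 → T = T'
  inv : ∀ (g : G), ∀ T ∈ 𝒮, cj g T ∈ 𝒮

namespace Dat

variable {S : Sylow 2 G} {A B : Subgroup G} (D : Dat S A B)
include D

theorem exists_pair {a : G} (ha : a ∈ A) : ∃ c ∈ A, c ∉ B ∧ a * c ∉ B := by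
  classical
  by_contra! h
  have h8 : Nat.card A ≤ Nat.card ((A ⊓ B : Subgroup G) ⊕ (A ⊓ B : Subgroup G)) := by
    refine Nat.card_le_card_of_injective (fun x : A => if hx : (x : G) ∈ B then Sum.inl ⟨x, x.2, hx⟩
      else Sum.inr ⟨a * x, mul_mem ha x.2, h x x.2 hx⟩) ?_
    intro x y e
    by_cases hx : (x : G) ∈ B <;> by_cases hy : (y : G) ∈ B
    · simp only [dif_pos hx, dif_pos hy] at e
      exact Subtype.ext (congrArg (fun t : (A ⊓ B : Subgroup G) => (t : G)) (Sum.inl_injective e) :)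
    · simp [dif_pos hx, dif_neg hy] at e
    · simp [dif_neg hx, dif_pos hy] at e
    · simp only [dif_neg hx, dif_neg hy] at e
      exact Subtype.ext (mul_left_cancel
        (congrArg (fun t : (A ⊓ B : Subgroup G) => (t : G)) (Sum.inr_injective e)))
  rw [Nat.card_sum, D.cI, D.cA] at h8
  omega

/-- A complement of `A` in `S`. -/
theorem exists_comp : ∃ K : Subgroup G, K ≤ B ∧ K ⊓ A = ⊥ ∧ K ⊔ A = (S : Subgroup G) := by
  obtain ⟨b, hb, hbA⟩ := D.symm.exists_noncentral
  obtain ⟨c, hc, hcA, hbcA⟩ := D.symm.exists_pair hb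
  have hbb := D.eB b hb
  have hcc := D.eB c hc
  have hcom := comm_of_sq D.eB hc hb
  let K : Subgroup G :=
    { carrier := {x | x = 1 ∨ x = b ∨ x = c ∨ x = b * c}
      one_mem' := Or.inl rfl
      mul_mem' := by
        have e1 : b * (b * c) = c := by rw [← mul_assoc, hbb, one_mul]
        have e2 : c * (b * c) = b := by rw [← mul_assoc, hcom, mul_assoc, hcc, mul_one]
        have e3 : b * c * b = c := by rw [mul_assoc, hcom, e1]
        have e4 : b * c * c = b := by rw [mul_assoc, hcc, mul_one]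
        have e5 : b * c * (b * c) = 1 := D.eB _ (mul_mem hb hc)
        rintro x y (rfl | rfl | rfl | rfl) (rfl | rfl | rfl | rfl) <;>
          simp only [Set.mem_ofPred_eq, one_mul, mul_one, hbb, hcc, hcom, e1, e2, e3, e4, e5, true_or, or_true]
      inv_mem' := by
        rintro x (rfl | rfl | rfl | rfl)
        · exact Or.inl inv_one
        · exact Or.inr (Or.inl (inv_eq_of_sq hbb))
        · exact Or.inr (Or.inr (Or.inl (inv_eq_of_sq hcc)))
        · exact Or.inr (Or.inr (Or.inr (inv_eq_of_sq (D.eB _ (mul_mem hb hc))))) }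
  have hbK : b ∈ K := Or.inr (Or.inl rfl)
  have hcK : c ∈ K := Or.inr (Or.inr (Or.inl rfl))
  have hKB : K ≤ B := by
    rintro x (rfl | rfl | rfl | rfl)
    exacts [one_mem _, hb, hc, mul_mem hb hc]
  refine ⟨K, hKB, eq_bot_iff.2 ?_, le_antisymm (sup_le (hKB.trans D.hB) D.hA) fun x hx => ?_⟩
  · rintro x ⟨rfl | rfl | rfl | rfl, hxA⟩
    · exact one_mem _
    · exact absurd hxA hbA
    · exact absurd hxA hcA
    · exact absurd hxA hbcA
  obtain ⟨a, ha, y, hy, rfl⟩ := D.decomp hx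
  refine mul_mem (mem_sup_right ha) ?_
  rcases D.symm.cosets hb hc hbA hcA hbcA hy with h | h | h | h
  · exact mem_sup_right h
  · rw [show y = b⁻¹ * (b * y) by group]
    exact mul_mem (inv_mem (mem_sup_left hbK)) (mem_sup_right h)
  · rw [show y = c⁻¹ * (c * y) by group]
    exact mul_mem (inv_mem (mem_sup_left hcK)) (mem_sup_right h)
  · rw [show y = (b * c)⁻¹ * (b * c * y) by group]
    exact mul_mem (inv_mem (mul_mem (mem_sup_left hbK) (mem_sup_left hcK))) (mem_sup_right h)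

/-- A complement of `A`. -/
theorem exists_complement (hn : A.Normal) : ∃ H : Subgroup G, H.IsComplement' A := by
  haveI : Fact (Nat.Prime 2) := ⟨Nat.prime_two⟩
  haveI := hn
  haveI : IsMulCommutative A := ⟨⟨fun x y => Subtype.ext (comm_of_sq D.eA x.2 y.2)⟩⟩
  obtain ⟨K, -, hdis, hsup⟩ := D.exists_comp
  refine GaschutzLocal.complement_of_hasPowerDerivation A ?_
  have h2 : (2 : ℤ) ∈ GaschutzLocal.exponents A :=
    ⟨fun _ => 1, fun g h => by simp, fun a => Subtype.ext (by
      push_cast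
      rw [show (2 : ℤ) = ((2 : ℕ) : ℤ) from rfl, zpow_natCast, pow_two, D.eA a a.2])⟩
  have hm : (((S : Subgroup G).index : ℕ) : ℤ) ∈ GaschutzLocal.exponents A :=
    GaschutzLocal.hasPowerDerivation_index A _ K D.hA hdis hsup
  obtain ⟨k, hk⟩ : Odd (S : Subgroup G).index :=
    Nat.not_even_iff_odd.1 fun he => S.not_dvd_index (even_iff_two_dvd.1 he)
  show (1 : ℤ) ∈ GaschutzLocal.exponents A
  have := sub_mem hm (AddSubgroup.zsmul_mem _ h2 (k : ℤ))
  rw [hk] at this
  push_cast at this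
  simpa [mul_comm] using this

theorem comm_conj {a t : G} (ha : a ∈ A) (ht : t ∈ A) : a * t * a⁻¹ = t := by
  rw [comm_of_sq D.eA ha ht, mul_inv_cancel_right]

end Dat

variable {A B : Subgroup G} {𝒮 : Set (Subgroup G)}

theorem Spread.card_comp (P : Spread A B 𝒮) (hA : Nat.card A = 16) : Nat.card {T // T ∈ 𝒮} = 5 := by
  classical
  let f : (Σ T : {T // T ∈ 𝒮}, {x : (T.1 : Subgroup G) // x ≠ 1}) → {x : A // x ≠ 1} := fun p =>
    ⟨⟨p.2.1, P.le _ p.1.2 p.2.1.2⟩, fun e => p.2.2 (Subtype.ext (congrArg Subtype.val e :))⟩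
  have hf : Function.Bijective f := by
    constructor
    · rintro ⟨⟨T, hT⟩, ⟨x, hx⟩, hx1⟩ ⟨⟨T', hT'⟩, ⟨x', hx'⟩, hx1'⟩ e
      obtain rfl : x = x' := congrArg (fun t : {x : A // x ≠ 1} => ((t : A) : G)) e
      obtain rfl : T = T' := P.disj _ hT _ hT' x hx hx' fun e' => hx1 (Subtype.ext e')
      rfl
    · rintro ⟨⟨x, hx⟩, hx1⟩
      obtain ⟨T, hT, hxT⟩ := P.cover x hx fun e => hx1 (Subtype.ext e)
      exact ⟨⟨⟨T, hT⟩, ⟨x, hxT⟩, fun e => hx1 (Subtype.ext (congrArg Subtype.val e :))⟩, rfl⟩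
  have h1 : ∀ H : Subgroup G, Nat.card {x : H // x ≠ 1} = Nat.card H - 1 := fun H => by
    haveI := Fintype.ofFinite H
    rw [Nat.card_eq_fintype_card, Fintype.card_subtype_compl, ← Nat.card_eq_fintype_card]
    simp
  haveI := Fintype.ofFinite {T // T ∈ 𝒮}
  have h := Nat.card_congr (Equiv.ofBijective f hf)
  rw [Nat.card_sigma, Finset.sum_congr rfl (g := fun _ => 3) fun T _ => by rw [h1, P.card _ T.2],
    Finset.sum_const, smul_eq_mul, Finset.card_univ, ← Nat.card_eq_fintype_card, h1, hA] at h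
  omega

/-- Points: cosets of the complement, and the components. -/
abbrev Apt (H : Subgroup G) (𝒮 : Set (Subgroup G)) : Type _ := (G ⧸ H) ⊕ {T // T ∈ 𝒮}

/-- Incidence with an affine line. -/
def onLine {H : Subgroup G} (T : {T // T ∈ 𝒮}) (q : G ⧸ H) : Apt H 𝒮 → Prop :=
  Sum.elim (fun r => ∃ t ∈ T.1, t • q = r) (fun T' => T' = T)

/-- The lines. -/
def affLines (H : Subgroup G) (𝒮 : Set (Subgroup G)) : Set (Finset (Apt H 𝒮)) :=
  {s | (∀ x, x ∈ s ↔ x.isRight) ∨ ∃ T q, ∀ x, x ∈ s ↔ onLine T q x}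

/-- The action. -/
def affPerm (P : Spread A B 𝒮) (H : Subgroup G) : G →* Equiv.Perm (Apt H 𝒮) where
  toFun g := Equiv.sumCongr (MulAction.toPerm g)
    { toFun := fun T => ⟨cj g T.1, P.inv g _ T.2⟩
      invFun := fun T => ⟨cj g⁻¹ T.1, P.inv g⁻¹ _ T.2⟩
      left_inv := fun T => Subtype.ext (cj_inv_cj _ _)
      right_inv := fun T => Subtype.ext (by simp only [cj_cj, mul_inv_cancel, cj_one]) }
  map_one' := Equiv.ext fun x => by
    cases x with
    | inl r => exact congrArg Sum.inl (one_smul G r)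
    | inr T => exact congrArg Sum.inr (Subtype.ext (cj_one _))
  map_mul' g h := Equiv.ext fun x => by
    cases x with
    | inl r => exact congrArg Sum.inl (mul_smul g h r)
    | inr T => exact congrArg Sum.inr (Subtype.ext (cj_cj _ _ _).symm)

theorem affPerm_inl (P : Spread A B 𝒮) (H : Subgroup G) (g : G) (r : G ⧸ H) :
    affPerm P H g (Sum.inl r) = Sum.inl (g • r) := rfl

theorem affPerm_inr (P : Spread A B 𝒮) (H : Subgroup G) (g : G) (T : {T // T ∈ 𝒮}) :
    affPerm P H g (Sum.inr T) = Sum.inr ⟨cj g T.1, P.inv g _ T.2⟩ := rfl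

/-- `A` is regular on the cosets of a complement. -/
theorem regularA {H : Subgroup G} (hH : H.IsComplement' A)
    (q r : G ⧸ H) : ∃ a ∈ A, a • q = r ∧ ∀ a' ∈ A, a' • q = r → a' = a := by
  have hgo : ∀ q : G ⧸ H, ∃ a ∈ A, a • (QuotientGroup.mk 1 : G ⧸ H) = q := by
    intro q
    induction q using Quotient.inductionOn' with
    | h g =>
    obtain ⟨⟨⟨a, ha⟩, ⟨h, hh⟩⟩, e⟩ := hH.symm.2 g
    refine ⟨a, ha, (QuotientGroup.eq.2 ?_)⟩
    simp only [smul_eq_mul, mul_one]
    have e' : a * h = g := e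
    rw [← e', inv_mul_cancel_left]
    exact hh
  obtain ⟨a₀, ha₀, rfl⟩ := hgo q
  obtain ⟨a₁, ha₁, rfl⟩ := hgo r
  refine ⟨a₁ * a₀⁻¹, mul_mem ha₁ (inv_mem ha₀), by rw [smul_smul, inv_mul_cancel_right], fun a' ha' e => ?_⟩
  rw [smul_smul] at e
  have h1 : (a' * a₀ * 1)⁻¹ * (a₁ * 1) ∈ H := QuotientGroup.eq.1 e
  rw [mul_one, mul_one] at h1
  have h2 : (a' * a₀)⁻¹ * a₁ ∈ A := mul_mem (inv_mem (mul_mem ha' ha₀)) ha₁
  have h3 := disjoint_iff_inf_le.1 hH.disjoint ⟨h1, h2⟩
  rw [mem_bot, inv_mul_eq_one] at h3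
  rw [← h3, mul_inv_cancel_right]

namespace Dat

variable {S : Sylow 2 G} {A B : Subgroup G} (D : Dat S A B) {𝒮 : Set (Subgroup G)}
include D

/-- An involution of `B` outside `A` fixes a coset. -/
theorem exists_fixed_coset (hn : A.Normal) {H : Subgroup G} (hH : H.IsComplement' A) {u : G} (hu : u ∈ B)
    (huA : u ∉ A) : ∃ q : G ⧸ H, u • q = q := by
  set o : G ⧸ H := QuotientGroup.mk 1
  obtain ⟨a, ha, hao, -⟩ := regularA hH o (u • o)
  have huu := D.eB u hu
  have h1 : u * a * u⁻¹ = a := by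
    obtain ⟨w, -, -, huniq⟩ := regularA hH (u • o) (u • (u • o))
    have e1 := huniq (u * a * u⁻¹) (hn.conj_mem a ha u) (by
      rw [smul_smul, show u * a * u⁻¹ * u = u * a by group, ← smul_smul, hao])
    have e2 := huniq a ha (by
      conv_lhs => rw [← hao, smul_smul, D.eA a ha, one_smul]
      rw [smul_smul, huu, one_smul])
    rw [e1, e2]
  have haB : a ∈ B := D.symm.centA hu huA (D.hA ha) (by
    calc a * u = u * a * u⁻¹ * u := by rw [h1]
      _ = u * a := by group)
  obtain ⟨b, hb, hbe⟩ := D.symm.exists_comm hu huA (w := a) ⟨haB, ha⟩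
  refine ⟨b • o, ?_⟩
  have h2 : u * b * u⁻¹ = a * b := by
    have h3 : b * u * b⁻¹ = u * a := hbe
    calc u * b * u⁻¹ = u * (b * u * b⁻¹)⁻¹ * b := by group
      _ = u * (u * a)⁻¹ * b := by rw [h3]
      _ = (u * a * u⁻¹)⁻¹ * b := by group
      _ = a * b := by rw [h1, inv_eq_of_sq (D.eA a ha)]
  rw [smul_smul, show u * b = a * b * u by rw [← h2]; group, ← smul_smul, ← hao, smul_smul,
    show a * b * a = a * a * b by rw [mul_assoc, comm_of_sq D.eA hb ha, ← mul_assoc], D.eA a ha, one_mul]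

theorem even_A (_hn : A.Normal) {H : Subgroup G} (hH : H.IsComplement' A) (P : Spread A B 𝒮)
    [Fintype (Apt H 𝒮)] [DecidableEq (Apt H 𝒮)] {a : G} (ha : a ∈ A) (h21 : Fintype.card (Apt H 𝒮) = 21) :
    Equiv.Perm.sign (affPerm P H a) = 1 := by
  classical
  by_cases ha1 : a = 1
  · rw [ha1, map_one, map_one]
  have hfix : ∀ T : {T // T ∈ 𝒮}, (⟨cj a T.1, P.inv a _ T.2⟩ : {T // T ∈ 𝒮}) = T := fun T =>
    Subtype.ext (cj_eq_of_conj_mem fun t ht => by rwa [D.comm_conj ha (P.le _ T.2 ht)])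
  have hinl : ∀ r : G ⧸ H, a • r ≠ r := by
    intro r e
    obtain ⟨w, -, -, hu⟩ := regularA hH r r
    exact ha1 ((hu a ha e).trans (hu 1 (one_mem A) (one_smul G r)).symm)
  have e : Function.fixedPoints (affPerm P H a) ≃ {T // T ∈ 𝒮} :=
    { toFun := fun x => match x with
        | ⟨Sum.inl r, hx⟩ => absurd (Sum.inl_injective hx) (hinl r)
        | ⟨Sum.inr T, _⟩ => T
      invFun := fun T => ⟨Sum.inr T, congrArg Sum.inr (hfix T)⟩
      left_inv := fun x => match x with
        | ⟨Sum.inl r, hx⟩ => absurd (Sum.inl_injective hx) (hinl r)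
        | ⟨Sum.inr T, _⟩ => rfl
      right_inv := fun T => rfl }
  rw [Equiv.Perm.sign_of_pow_two_eq_one (by rw [sq, ← map_mul, D.eA a ha, map_one]), h21,
    ← Nat.card_eq_fintype_card, Nat.card_congr e, P.card_comp D.cA]
  rfl

theorem even_B (hn : A.Normal) {H : Subgroup G} (hH : H.IsComplement' A) (P : Spread A B 𝒮)
    [Fintype (Apt H 𝒮)] [DecidableEq (Apt H 𝒮)] {u : G} (hu : u ∈ B) (huA : u ∉ A)
    (h21 : Fintype.card (Apt H 𝒮) = 21) : Equiv.Perm.sign (affPerm P H u) = 1 := by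
  classical
  have huu := D.eB u hu
  obtain ⟨q, hq⟩ := D.exists_fixed_coset hn hH hu huA
  have hZ : ∀ v ∈ A ⊓ B, u * v * u⁻¹ = v := fun v hv => by
    rw [← D.cen v hv u (D.hB hu), mul_inv_cancel_right]
  have hT : ∀ T : {T // T ∈ 𝒮}, cj u T.1 = T.1 → T = ⟨A ⊓ B, P.zmem⟩ := by
    intro T hT
    -- a fixed element of `T`
    haveI := Fintype.ofFinite (T.1 : Subgroup G)
    obtain ⟨x, hxT, hx1, hxu⟩ : ∃ x ∈ T.1, x ≠ 1 ∧ u * x * u⁻¹ = x := by
      obtain ⟨t, ht⟩ : ∃ t : (T.1 : Subgroup G), t ≠ 1 := by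
        by_contra! h
        haveI : Subsingleton (T.1 : Subgroup G) := ⟨fun p r => (h p).trans (h r).symm⟩
        have := P.card _ T.2
        rw [Nat.card_unique] at this
        omega
      have hut : u * (t : G) * u⁻¹ ∈ cj u T.1 := conj_mem_cj.2 t.2
      rw [hT] at hut
      by_cases h : u * (t : G) * u⁻¹ = t
      · exact ⟨t, t.2, fun e => ht (Subtype.ext e), h⟩
      · have htA := P.le _ T.2 t.2
        refine ⟨t * (u * (t : G) * u⁻¹), mul_mem t.2 hut, fun e => h ?_, ?_⟩
        · rw [← eq_inv_of_mul_eq_one_right e |>.symm, inv_eq_of_sq (D.eA _ htA)]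
        · rw [conj_mul_conj, show u * (u * (t : G) * u⁻¹) * u⁻¹ = u * u * t * (u * u)⁻¹ by group, huu, one_mul,
            inv_one, mul_one]
          exact comm_of_sq D.eA (P.le _ T.2 hut) htA
    have hxZ : x ∈ A ⊓ B := ⟨P.le _ T.2 hxT, D.symm.centA hu huA (D.hA (P.le _ T.2 hxT))
      (mul_inv_eq_iff_eq_mul.1 hxu).symm⟩
    exact Subtype.ext (P.disj _ T.2 _ P.zmem x hxT hxZ hx1)
  have hinl : ∀ r : G ⧸ H, u • r = r → ∃ v ∈ A ⊓ B, v • q = r := by
    intro r hr
    obtain ⟨x, hx, hxr, huniq⟩ := regularA hH q r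
    have h := huniq _ (hn.conj_mem x hx u) (by
      conv_lhs => rw [← hq]
      rw [smul_smul, show u * x * u⁻¹ * u = u * x by group, ← smul_smul, hxr, hr])
    exact ⟨x, ⟨hx, D.symm.centA hu huA (D.hA hx) (mul_inv_eq_iff_eq_mul.1 h).symm⟩, hxr⟩
  let f : Option (A ⊓ B : Subgroup G) → Function.fixedPoints (affPerm P H u) := fun o => o.elim
    ⟨Sum.inr ⟨A ⊓ B, P.zmem⟩, congrArg Sum.inr (Subtype.ext (cj_eq_of_conj_mem fun v hv => by
      rwa [hZ v hv]))⟩
    fun v => ⟨Sum.inl ((v : G) • q), congrArg Sum.inl (by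
      show u • ((v : G) • q) = (v : G) • q
      rw [smul_smul, ← D.cen v v.2 u (D.hB hu), ← smul_smul, hq])⟩
  have hf : Function.Bijective f := by
    constructor
    · rintro (_ | v) (_ | w) e
      · rfl
      · exact absurd (congrArg Subtype.val e) (by simp [f])
      · exact absurd (congrArg Subtype.val e) (by simp [f])
      · have e' : (v : G) • q = (w : G) • q := Sum.inl_injective (congrArg Subtype.val e)
        obtain ⟨x, -, -, hu'⟩ := regularA hH q ((w : G) • q)
        exact congrArg some (Subtype.ext ((hu' v v.2.1 e').trans (hu' w w.2.1 rfl).symm))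
    · rintro ⟨r | T, hx⟩
      · obtain ⟨v, hv, rfl⟩ := hinl r (Sum.inl_injective hx)
        exact ⟨some ⟨v, hv⟩, rfl⟩
      · obtain rfl := hT T (congrArg Subtype.val (Sum.inr_injective hx))
        exact ⟨none, rfl⟩
  have h5 : Nat.card (Option (A ⊓ B : Subgroup G)) = 5 := by rw [Finite.card_option, D.cI]
  rw [Equiv.Perm.sign_of_pow_two_eq_one (by rw [sq, ← map_mul, huu, map_one]), h21, ← Nat.card_eq_fintype_card,
    ← Nat.card_congr (Equiv.ofBijective f hf), h5]
  rfl

theorem aff_plane (_hn : A.Normal) {H : Subgroup G} (hH : H.IsComplement' A) (P : Spread A B 𝒮)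
    [Fintype (Apt H 𝒮)] : Cfsg.Agent.PlaneFour.Plane (affLines H 𝒮) ∧ Fintype.card (Apt H 𝒮) = 21 := by
  classical
  have h16 : Nat.card (G ⧸ H) = 16 := by rw [← index_eq_card, hH.symm.index_eq_card, D.cA]
  have h21 : Fintype.card (Apt H 𝒮) = 21 := by
    rw [← Nat.card_eq_fintype_card, Nat.card_sum, h16, P.card_comp D.cA]
  refine ⟨⟨⟨fun s hs => ?_, fun s hs => ?_⟩, h21⟩, h21⟩
  · rw [← Fintype.card_coe, ← Nat.card_eq_fintype_card]
    rcases hs with hs | ⟨T, q, hs⟩
    · rw [← P.card_comp D.cA]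
      exact (Nat.card_congr (Equiv.ofBijective (fun T : {T // T ∈ 𝒮} => (⟨Sum.inr T, (hs _).2 rfl⟩ : {x // x ∈ s}))
        ⟨fun T T' e => Sum.inr_injective (congrArg Subtype.val e), fun ⟨x, hx⟩ => match x, hx with
          | Sum.inr T, _ => ⟨T, rfl⟩
          | Sum.inl r, hx => absurd ((hs _).1 hx) (by simp)⟩)).symm
    · let f : Option (T.1 : Subgroup G) → {x // x ∈ s} := fun o => o.elim
        ⟨Sum.inr T, (hs _).2 rfl⟩ fun t => ⟨Sum.inl ((t : G) • q), (hs _).2 ⟨t, t.2, rfl⟩⟩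
      have hf : Function.Bijective f := by
        constructor
        · rintro (_ | v) (_ | w) e
          · rfl
          · exact absurd (congrArg Subtype.val e) (by simp [f])
          · exact absurd (congrArg Subtype.val e) (by simp [f])
          · have e' : (v : G) • q = (w : G) • q := Sum.inl_injective (congrArg Subtype.val e)
            obtain ⟨x, -, -, hu'⟩ := regularA hH q ((w : G) • q)
            exact congrArg some (Subtype.ext ((hu' v (P.le _ T.2 v.2) e').trans
              (hu' w (P.le _ T.2 w.2) rfl).symm))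
        · rintro ⟨r | T', hx⟩
          · obtain ⟨t, ht, rfl⟩ := (hs _).1 hx
            exact ⟨some ⟨t, ht⟩, rfl⟩
          · obtain rfl : T' = T := (hs _).1 hx
            exact ⟨none, rfl⟩
      rw [← Nat.card_congr (Equiv.ofBijective f hf), Finite.card_option, P.card _ T.2]
  · obtain ⟨x, y, hxy, rfl⟩ := Finset.card_eq_two.1 hs
    let ln : {T // T ∈ 𝒮} → G ⧸ H → Finset (Apt H 𝒮) := fun T q => Finset.univ.filter (onLine T q)
    have hln : ∀ T q, ln T q ∈ affLines H 𝒮 := fun T q => Or.inr ⟨T, q, fun x => by simp [ln]⟩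
    -- affine lines are cosets
    have hcos : ∀ (T : {T // T ∈ 𝒮}) (q r : G ⧸ H), (∃ t ∈ T.1, t • q = r) → ∀ z, onLine T q z → onLine T r z := by
      rintro T q _ ⟨t, ht, rfl⟩ (w | T') hz
      · obtain ⟨v, hv, rfl⟩ := hz
        exact ⟨v * t⁻¹, mul_mem hv (inv_mem ht), by rw [smul_smul, inv_mul_cancel_right]⟩
      · exact hz
    have hself : ∀ (T : {T // T ∈ 𝒮}) (q : G ⧸ H), onLine T q (Sum.inl q) := fun T q => ⟨1, one_mem _, one_smul G q⟩
    have hsymm : ∀ (T : {T // T ∈ 𝒮}) (q r : G ⧸ H), (∃ t ∈ T.1, t • q = r) → ∃ t ∈ T.1, t • r = q := by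
      rintro T q _ ⟨t, ht, rfl⟩
      exact ⟨t⁻¹, inv_mem ht, inv_smul_smul t q⟩
    -- a line through an affine point is determined by its component
    have huniq : ∀ (b : Finset (Apt H 𝒮)) (q : G ⧸ H), b ∈ affLines H 𝒮 → Sum.inl q ∈ b →
        ∃ T, Sum.inr T ∈ b ∧ b = ln T q := by
      intro b q hb hq
      rcases hb with hb | ⟨T, p, hb⟩
      · exact absurd ((hb _).1 hq) (by simp)
      · refine ⟨T, (hb _).2 rfl, Finset.ext fun z => ?_⟩
        have hpq : ∃ t ∈ T.1, t • p = q := (hb _).1 hq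
        simp only [hb, ln, Finset.mem_filter, Finset.mem_univ, true_and]
        exact ⟨hcos T p q hpq z, hcos T q p (hsymm T p q hpq) z⟩
    have hmixed : ∀ (q : G ⧸ H) (T : {T // T ∈ 𝒮}),
        ∃! b, b ∈ affLines H 𝒮 ∧ ({Sum.inl q, Sum.inr T} : Finset (Apt H 𝒮)) ⊆ b := by
      intro q T
      refine ⟨ln T q, ⟨hln T q, fun z hz => ?_⟩, fun b hb => ?_⟩
      · simp only [Finset.mem_insert, Finset.mem_singleton] at hz
        rcases hz with rfl | rfl
        · simp [ln, hself]
        · exact Finset.mem_filter.2 ⟨Finset.mem_univ _, rfl⟩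
      · obtain ⟨T', -, rfl⟩ := huniq b q hb.1 (hb.2 (by simp))
        have := (Finset.mem_filter.1
          (hb.2 (show Sum.inr T ∈ ({Sum.inl q, Sum.inr T} : Finset (Apt H 𝒮)) by simp))).2
        rw [show T = T' from this]
    rcases x with q | T <;> rcases y with r | T'
    · obtain ⟨a, ha, hqr, hu⟩ := regularA hH q r
      have ha1 : a ≠ 1 := fun e => hxy (by rw [← hqr, e, one_smul])
      obtain ⟨T, hT, haT⟩ := P.cover a ha ha1
      refine ⟨ln ⟨T, hT⟩ q, ⟨hln _ q, fun z hz => ?_⟩, fun b hb => ?_⟩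
      · simp only [Finset.mem_insert, Finset.mem_singleton] at hz
        rcases hz with rfl | rfl
        · simp [ln, hself]
        · simp only [ln, Finset.mem_filter, Finset.mem_univ, true_and]
          exact ⟨a, haT, hqr⟩
      · obtain ⟨T', -, rfl⟩ := huniq b q hb.1 (hb.2 (by simp))
        have := hb.2 (show Sum.inl r ∈ ({Sum.inl q, Sum.inl r} : Finset (Apt H 𝒮)) by simp)
        simp only [ln, Finset.mem_filter, Finset.mem_univ, true_and] at this
        obtain ⟨t, ht, htr⟩ := this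
        obtain rfl := hu t (P.le _ T'.2 ht) htr
        rw [show T' = ⟨T, hT⟩ from Subtype.ext (P.disj _ T'.2 _ hT t ht haT ha1)]
    · exact hmixed q T'
    · rw [Finset.pair_comm]
      exact hmixed r T
    · refine ⟨Finset.univ.filter fun z => z.isRight, ⟨Or.inl fun z => by simp, fun z hz => ?_⟩, fun b hb => ?_⟩
      · simp only [Finset.mem_insert, Finset.mem_singleton] at hz
        rcases hz with rfl | rfl <;> simp
      · obtain ⟨hbL, hsub⟩ := hb
        rcases hbL with hb' | ⟨U, p, hb'⟩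
        · ext z
          simp [hb']
        · have h1 : T = U := (hb' (Sum.inr T)).1 (hsub (by simp))
          have h2 : T' = U := (hb' (Sum.inr T')).1 (hsub (by simp))
          exact absurd (congrArg Sum.inr (h1.trans h2.symm)) hxy

/-- Embedding through the affine plane. -/
theorem embed_spread (hn : A.Normal) (hC : centralizer (A : Set G) ≤ A) (P : Spread A B 𝒮)
    {F : Type*} [Field F] [Fintype F] (hF : Fintype.card F = 4) :
    ∃ f : G →* GL (Fin 3) F ⧸ Subgroup.center (GL (Fin 3) F), Function.Injective f := by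
  classical
  haveI : Fact (Nat.Prime 2) := ⟨Nat.prime_two⟩
  obtain ⟨H, hH⟩ := D.exists_complement hn
  haveI : Fintype (Apt H 𝒮) := Fintype.ofFinite _
  obtain ⟨hP, h21⟩ := D.aff_plane hn hH P
  refine embed_even hP (affPerm P H) ?_ ?_ ?_ hF
  · rw [injective_iff_map_eq_one]
    intro g hg
    have hfix : ∀ r : G ⧸ H, g • r = r := fun r => Sum.inl_injective (Equiv.ext_iff.1 hg (Sum.inl r))
    have hgH : g ∈ H := by
      have := QuotientGroup.eq.1 (hfix (QuotientGroup.mk 1)).symm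
      simpa using this
    have hgA : g ∈ A := hC (mem_centralizer_iff.2 fun a ha => by
      set o : G ⧸ H := QuotientGroup.mk 1
      obtain ⟨w, -, -, hu⟩ := regularA hH o (a • o)
      have h1 := hu (g * a * g⁻¹) (hn.conj_mem a ha g) (by
        conv_lhs => rw [← hfix o]
        rw [smul_smul, show g * a * g⁻¹ * g = g * a by group, ← smul_smul, hfix])
      exact (mul_inv_eq_iff_eq_mul.1 (h1.trans (hu a ha rfl).symm)).symm)
    exact mem_bot.1 (disjoint_iff_inf_le.1 hH.disjoint ⟨hgH, hgA⟩)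
  · intro g l hl
    have hmem : ∀ z, z ∈ l.image (affPerm P H g) ↔ (affPerm P H g⁻¹) z ∈ l := by
      intro z
      rw [Finset.mem_image]
      constructor
      · rintro ⟨w, hw, rfl⟩
        rwa [← Equiv.Perm.mul_apply, ← map_mul, inv_mul_cancel, map_one, Equiv.Perm.one_apply]
      · intro h
        exact ⟨_, h, by rw [← Equiv.Perm.mul_apply, ← map_mul, mul_inv_cancel, map_one, Equiv.Perm.one_apply]⟩
    rcases hl with hl | ⟨T, q, hl⟩
    · refine Or.inl fun z => ?_
      rw [hmem, hl]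
      rcases z with r | U <;> exact Iff.rfl
    · refine Or.inr ⟨⟨cj g T.1, P.inv g _ T.2⟩, g • q, fun z => ?_⟩
      rw [hmem, hl]
      rcases z with r | U
      · rw [affPerm_inl]
        constructor
        · rintro ⟨t, ht, e⟩
          refine ⟨g * t * g⁻¹, conj_mem_cj.2 ht, ?_⟩
          rw [smul_smul, show g * t * g⁻¹ * g = g * t by group, ← smul_smul, e, smul_inv_smul]
        · rintro ⟨t, ht, e⟩
          rw [mem_cj] at ht
          refine ⟨g⁻¹ * t * g, ht, ?_⟩
          rw [← smul_smul, ← smul_smul, e]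
      · rw [affPerm_inr]
        show (⟨cj g⁻¹ U.1, _⟩ : {T // T ∈ 𝒮}) = T ↔ U = _
        rw [Subtype.ext_iff, Subtype.ext_iff, cj_eq_iff, inv_inv]
  · intro g
    set s : G →* ℤˣ := Equiv.Perm.sign.comp (affPerm P H)
    have hA : ∀ a ∈ A, a ∈ s.ker := fun a ha => MonoidHom.mem_ker.2 (D.even_A hn hH P ha h21)
    have hSK : (S : Subgroup G) ≤ s.ker := by
      intro x hx
      obtain ⟨a, ha, b, hb, rfl⟩ := D.decomp hx
      refine mul_mem (hA a ha) ?_
      by_cases hbA : b ∈ A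
      · exact hA b hbA
      · exact MonoidHom.mem_ker.2 (D.even_B hn hH P hb hbA h21)
    have hidx : s.ker.index = 1 := by
      have h2 : s.ker.index ∣ 2 := by
        rw [index_ker]
        exact (card_subgroup_dvd_card _).trans (by rw [Nat.card_eq_fintype_card, Fintype.card_units_int])
      rcases (Nat.dvd_prime Nat.prime_two).1 h2 with h | h
      · exact h
      · refine absurd ?_ S.not_dvd_index
        have := index_dvd_of_le hSK
        rwa [h] at this
    have htop := index_eq_one.1 hidx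
    exact MonoidHom.mem_ker.1 (show g ∈ s.ker by rw [htop]; exact mem_top g)

end Dat

end CfsgLib.SylL34
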