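import Cfsg.Agent.SylL34.Central

/-!
A side without fusion: the automizer of `A` in the centralizer of a non-central involution.
-/

set_option autoImplicit false
set_option linter.unusedSectionVars false
set_option linter.unusedSimpArgs false
set_option linter.style.haveILetI false

namespace CfsgLib.SylL34

open Subgroup

variable {G : Type*} [Group G] [Finite G]

theorem conj_mul_conj (n x y : G) : n * (x * y) * n⁻¹ = n * x * n⁻¹ * (n * y * n⁻¹) := by group

theorem commute_of_conj_eq {n x : G} (h : n * x * n⁻¹ = x) : n * x = x * n := mul_inv_eq_iff_eq_mul.1 h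

theorem conj_eq_of_commute {n x : G} (h : n * x = x * n) : n * x * n⁻¹ = x := mul_inv_eq_iff_eq_mul.2 h

namespace Dat

variable {S : Sylow 2 G} {A B : Subgroup G} (D : Dat S A B)
include D

/-- Without fusion the normalizer of `A` normalises the centre. -/
theorem normA_Z (hF : ¬ Fus A B) {n w : G} (hn : n ∈ normalizer (A : Set G)) (hw : w ∈ A ⊓ B) :
    n * w * n⁻¹ ∈ A ⊓ B := by
  refine mem_inf.2 ⟨conj_mem_of_normalizer hn (mem_inf.1 hw).1, ?_⟩
  by_contra h
  exact hF ⟨_, conj_mem_of_normalizer hn (mem_inf.1 hw).1, h, w, hw, isConj_iff.2 ⟨n⁻¹, by group⟩⟩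

/-- `A` is a Sylow subgroup of the centralizer of `a`. -/
theorem sylowA (hF : ¬ Fus A B) {a : G} (ha : a ∈ A) (haB : a ∉ B) :
    ∃ P : Sylow 2 (centralizer ({a} : Set G)), (P : Subgroup (centralizer ({a} : Set G))) =
      A.subgroupOf (centralizer ({a} : Set G)) := by
  set C := centralizer ({a} : Set G)
  have hAC : A ≤ C := fun x hx => mem_centralizer_singleton_iff.2 (comm_of_sq D.eA hx ha)
  obtain ⟨Q, hQ⟩ := ((isPGroup_of_sq D.eA).comap_subtype : IsPGroup 2 (A.subgroupOf C)).exists_le_sylow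
  refine ⟨Q, le_antisymm ?_ hQ⟩
  obtain ⟨g, hg⟩ := exists_cj_le S (Q.2.map C.subtype)
  have hgA : cj g A ≤ (S : Subgroup G) := le_trans (map_mono fun x hx => by
    exact ⟨⟨x, hAC hx⟩, hQ hx, rfl⟩) hg
  have hgA' := D.eqA_of_le hgA
  intro q hq
  have h1 : g * q * g⁻¹ ∈ (S : Subgroup G) := hg (conj_mem_cj.2 ⟨q, hq, rfl⟩)
  have h2 : g * a * g⁻¹ ∈ A := hgA' ▸ conj_mem_cj.2 ha
  have h3 : g * a * g⁻¹ ∉ B := fun hB => hF ⟨a, ha, haB, _, mem_inf.2 ⟨h2, hB⟩, isConj_iff.2 ⟨g, rfl⟩⟩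
  have h4 := D.centA h2 h3 h1 (by
    rw [show g * q * g⁻¹ * (g * a * g⁻¹) = g * (q * a) * g⁻¹ by group,
      mem_centralizer_singleton_iff.1 q.2]
    group)
  rw [← hgA', conj_mem_cj] at h4
  exact h4

/-- An element of `C(a) ∩ N(A)` acts on `A` with odd order. -/
theorem odd_act (hF : ¬ Fus A B) {a n : G} (ha : a ∈ A) (haB : a ∉ B)
    (hn : n ∈ normalizer (A : Set G)) (hna : n * a = a * n) :
    ∃ j : ℕ, ∀ x ∈ A, n ^ (2 * j + 1) * x = x * n ^ (2 * j + 1) := by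
  haveI : Fact (Nat.Prime 2) := ⟨Nat.prime_two⟩
  obtain ⟨m, k, ⟨j, rfl⟩, hk⟩ := exists_odd_pow n
  refine ⟨j, fun x hx => ?_⟩
  set C := centralizer ({a} : Set G)
  obtain ⟨P, hP⟩ := D.sylowA hF ha haB
  set t : C := ⟨n, mem_centralizer_singleton_iff.2 hna⟩ ^ (2 * j + 1)
  have ht : t ∈ (P : Subgroup C) := by
    refine mem_of_two (k := k) (Subtype.ext (by push_cast [t]; exact hk)) ?_
    refine mem_normalizer_of_conj_mem fun y hy => ?_
    rw [hP] at hy ⊢
    show n ^ (2 * j + 1) * y * (n ^ (2 * j + 1))⁻¹ ∈ A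
    exact conj_mem_of_normalizer (pow_mem hn _) hy
  rw [hP] at ht
  exact comm_of_sq D.eA (show n ^ (2 * j + 1) ∈ A from ht) hx

/-- It centralizes `A` or moves every central involution. -/
theorem act_dichotomy (hF : ¬ Fus A B) {a n : G} (ha : a ∈ A) (haB : a ∉ B)
    (hn : n ∈ normalizer (A : Set G)) (hna : n * a = a * n) :
    (∀ x ∈ A, n * x = x * n) ∨ ∀ w ∈ A ⊓ B, w ≠ 1 → n * w * n⁻¹ ≠ w := by
  obtain ⟨j, hj⟩ := D.odd_act hF ha haB hn hna
  by_cases hmove : ∀ w ∈ A ⊓ B, w ≠ 1 → n * w * n⁻¹ ≠ w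
  · exact Or.inr hmove
  push Not at hmove
  obtain ⟨w, hw, hw1, hfix⟩ := hmove
  left
  -- an involutive action of odd order is trivial
  have htwo : ∀ x ∈ A, n * (n * x * n⁻¹) * n⁻¹ = x → n * x = x * n := by
    intro x hx h
    have hc : Commute (n * n) x := by
      refine commute_of_conj_eq ?_
      conv_rhs => rw [← h]
      group
    have h1 := hj x hx
    rw [pow_succ', pow_mul, sq, mul_assoc, (hc.pow_left j).eq, ← mul_assoc, ← mul_assoc x] at h1
    exact mul_right_cancel h1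
  have hnwfix : n * w = w * n := commute_of_conj_eq hfix
  have hZ : ∀ v ∈ A ⊓ B, n * v = v * n := by
    intro v hv
    refine htwo v (mem_inf.1 hv).1 ?_
    by_cases hv1 : v = 1
    · subst hv1; group
    by_cases hvw : v = w
    · subst hvw; rw [hfix, hfix]
    have hnv := D.normA_Z hF hn hv
    rcases D.exists_third hw hv hw1 hv1 (Ne.symm hvw) hnv with h | h | h | h
    · exact absurd (conj_eq_one_iff.1 h) hv1
    · refine absurd ?_ hvw
      calc v = n⁻¹ * (n * v * n⁻¹) * n := by group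
        _ = n⁻¹ * (n * w * n⁻¹) * n := by rw [h, hfix]
        _ = w := by group
    · rw [h, h]
    · rw [h, conj_mul_conj, hfix, h, ← mul_assoc, D.eA w (mem_inf.1 hw).1, one_mul]
  intro c hc
  have hcc : n * c * n⁻¹ ∈ A := conj_mem_of_normalizer hn hc
  have hfixa : n * a * n⁻¹ = a := conj_eq_of_commute hna
  by_cases hcB : c ∈ B
  · exact hZ c (mem_inf.2 ⟨hc, hcB⟩)
  by_cases hac : a * c ∈ B
  · have h1 := hZ _ (mem_inf.2 ⟨mul_mem ha hc, hac⟩)
    calc n * c = n * (a * a * c) := by rw [D.eA a ha, one_mul]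
      _ = n * a * (a * c) := by group
      _ = a * (n * (a * c)) := by rw [hna, mul_assoc]
      _ = a * (a * c) * n := by rw [h1]; group
      _ = c * n := by rw [← mul_assoc a a, D.eA a ha, one_mul]
  -- the coset of `c` is fixed
  have hco : c * (n * c * n⁻¹) ∈ A ⊓ B := by
    rcases D.cosets ha hc haB hcB hac hcc with e | e | e | e
    · have h1 := conj_eq_of_commute (hZ _ (mem_inf.2 ⟨hcc, e⟩))
      have : n * c * n⁻¹ = c := by
        calc n * c * n⁻¹ = n⁻¹ * (n * (n * c * n⁻¹) * n⁻¹) * n := by group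
          _ = n⁻¹ * (n * c * n⁻¹) * n := by rw [h1]
          _ = c := by group
      rw [this] at e
      exact absurd e hcB
    · refine absurd ?_ hac
      have h1 := conj_eq_of_commute (hZ _ (mem_inf.2 ⟨mul_mem ha hcc, e⟩))
      have : n * (a * c) * n⁻¹ = a * (n * c * n⁻¹) := by rw [conj_mul_conj, hfixa]
      rw [← this] at h1 e
      have h2 : n * (a * c) * n⁻¹ = a * c := by
        calc n * (a * c) * n⁻¹ = n⁻¹ * (n * (n * (a * c) * n⁻¹) * n⁻¹) * n := by group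
          _ = n⁻¹ * (n * (a * c) * n⁻¹) * n := by rw [h1]
          _ = a * c := by group
      rwa [h2] at e
    · exact mem_inf.2 ⟨mul_mem hc hcc, e⟩
    · exfalso
      set u := a * c * (n * c * n⁻¹) with hu
      have hu' : u ∈ A ⊓ B := mem_inf.2 ⟨mul_mem (mul_mem ha hc) hcc, e⟩
      have hnc : n * c * n⁻¹ = a * c * u := by
        rw [hu, ← mul_assoc, D.eA _ (mul_mem ha hc), one_mul]
      have h2 : n * (n * c * n⁻¹) * n⁻¹ = c := by
        conv_lhs => rw [hnc]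
        rw [conj_mul_conj, conj_mul_conj, hfixa, hnc, conj_eq_of_commute (hZ u hu'),
          show a * (a * c * u) * u = a * a * c * (u * u) by group, D.eA a ha, D.eA u (mem_inf.1 hu').1, one_mul,
          mul_one]
      have h3 := conj_eq_of_commute (htwo c hc h2)
      rw [hnc] at h3
      refine haB ?_
      have : a = u := by
        have h4 : a * c * u = a * u * c := by
          rw [mul_assoc, comm_of_sq D.eA hc (mem_inf.1 hu').1, ← mul_assoc]
        rw [h4] at h3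
        have h5 : a * u = 1 := mul_right_cancel (h3.trans (one_mul c).symm)
        rw [← inv_eq_of_sq (D.eA a ha), inv_eq_of_mul_eq_one_right h5]
      exact this ▸ (mem_inf.1 hu').2
  refine htwo c hc ?_
  have hnc : n * c * n⁻¹ = c * (c * (n * c * n⁻¹)) := by rw [← mul_assoc, D.eA c hc, one_mul]
  conv_lhs => rw [hnc]
  rw [conj_mul_conj, conj_eq_of_commute (hZ _ hco),
    show n * c * n⁻¹ * (c * (n * c * n⁻¹)) = n * c * n⁻¹ * c * (n * c * n⁻¹) by group,
    comm_of_sq D.eA hcc hc, mul_assoc, D.eA _ hcc, mul_one]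

/-- Every automorphism fixes one element in each coset. -/
theorem exists_fixed (hF : ¬ Fus A B) {a n₀ : G} (ha : a ∈ A) (haB : a ∉ B)
    (hn₀ : n₀ ∈ normalizer (A : Set G)) (hna₀ : n₀ * a = a * n₀)
    (hmove : ∀ w ∈ A ⊓ B, w ≠ 1 → n₀ * w * n₀⁻¹ ≠ w) {c : G} (hc : c ∈ A) :
    ∃ v ∈ A ⊓ B, ∀ n ∈ normalizer (A : Set G), n * a = a * n → n * (c * v) = c * v * n := by
  classical
  -- a fixed point of `n₀` in the coset
  have hd : ∃ v ∈ A ⊓ B, n₀ * (c * v) * n₀⁻¹ = c * v := by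
    have hco : c * (n₀ * c * n₀⁻¹) ∈ A ⊓ B := by
      by_contra hno
      have hcc : n₀ * c * n₀⁻¹ ∈ A := conj_mem_of_normalizer hn₀ hc
      obtain ⟨j, hj⟩ := D.odd_act hF ha haB hn₀ hna₀
      by_cases hcB : c ∈ B
      · exact hno (mul_mem (mem_inf.2 ⟨hc, hcB⟩) (D.normA_Z hF hn₀ (mem_inf.2 ⟨hc, hcB⟩)))
      have hfixa : n₀ * a * n₀⁻¹ = a := conj_eq_of_commute hna₀
      by_cases hac : a * c ∈ B
      · apply hno
        have h1 := D.normA_Z hF hn₀ (mem_inf.2 ⟨mul_mem ha hc, hac⟩)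
        rw [conj_mul_conj, hfixa] at h1
        have h2 := mul_mem (mem_inf.2 ⟨mul_mem ha hc, hac⟩) h1
        rwa [show a * c * (a * (n₀ * c * n₀⁻¹)) = a * (c * a) * (n₀ * c * n₀⁻¹) by group,
          comm_of_sq D.eA hc ha, ← mul_assoc a a, D.eA a ha, one_mul] at h2
      rcases D.cosets ha hc haB hcB hac hcc with e | e | e | e
      · refine hcB ?_
        have h1 := D.normA_Z hF (inv_mem hn₀) (mem_inf.2 ⟨hcc, e⟩)
        rw [show n₀⁻¹ * (n₀ * c * n₀⁻¹) * n₀⁻¹⁻¹ = c by group] at h1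
        exact (mem_inf.1 h1).2
      · refine hac ?_
        have h1 := D.normA_Z hF (inv_mem hn₀) (mem_inf.2 ⟨mul_mem ha hcc, e⟩)
        rw [show n₀⁻¹ * (a * (n₀ * c * n₀⁻¹)) * n₀⁻¹⁻¹ = n₀⁻¹ * a * n₀ * c by group,
          show n₀⁻¹ * a * n₀ = a by rw [mul_assoc, ← hna₀, inv_mul_cancel_left]] at h1
        exact (mem_inf.1 h1).2
      · exact hno (mem_inf.2 ⟨mul_mem hc hcc, e⟩)
      · -- the two cosets would be interchanged by an action of odd order
        have hstep : ∀ i : ℕ, c * (n₀ ^ (2 * i) * c * (n₀ ^ (2 * i))⁻¹) ∈ A ⊓ B := by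
          intro i
          induction i with
          | zero => simp [D.eA c hc]
          | succ i ih =>
            set y := n₀ ^ (2 * i) * c * (n₀ ^ (2 * i))⁻¹ with hy
            have hyA : y ∈ A := conj_mem_of_normalizer (pow_mem hn₀ _) hc
            have hyc : y = c * (c * y) := by rw [← mul_assoc, D.eA c hc, one_mul]
            set u := a * c * (n₀ * c * n₀⁻¹) with hu
            have hu' : u ∈ A ⊓ B := mem_inf.2 ⟨mul_mem (mul_mem ha hc) hcc, e⟩
            have hnc : n₀ * c * n₀⁻¹ = a * c * u := by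
              rw [hu, ← mul_assoc, D.eA _ (mul_mem ha hc), one_mul]
            have h2 : n₀ * (n₀ * c * n₀⁻¹) * n₀⁻¹ = c * (u * (n₀ * u * n₀⁻¹)) := by
              conv_lhs => rw [hnc]
              rw [conj_mul_conj, conj_mul_conj, hfixa, hnc, show a * (a * c * u) * (n₀ * u * n₀⁻¹) =
                a * a * (c * (u * (n₀ * u * n₀⁻¹))) by group, D.eA a ha, one_mul]
            rw [show n₀ ^ (2 * (i + 1)) * c * (n₀ ^ (2 * (i + 1)))⁻¹ = n₀ * (n₀ * y * n₀⁻¹) * n₀⁻¹ by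
              rw [show 2 * (i + 1) = 2 * i + 1 + 1 by ring, pow_succ', pow_succ', hy]; group, hyc,
              conj_mul_conj n₀ c, conj_mul_conj n₀ (n₀ * c * n₀⁻¹), h2,
              show ∀ p q : G, c * (c * p * q) = c * c * (p * q) by intros; group, D.eA c hc, one_mul]
            exact mul_mem (mul_mem hu' (D.normA_Z hF hn₀ hu'))
              (D.normA_Z hF hn₀ (D.normA_Z hF hn₀ ih))
        refine haB ?_
        set y := n₀ ^ (2 * j) * c * (n₀ ^ (2 * j))⁻¹ with hy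
        have h1 : n₀ * y * n₀⁻¹ = c := by
          rw [hy, show n₀ * (n₀ ^ (2 * j) * c * (n₀ ^ (2 * j))⁻¹) * n₀⁻¹ =
            n₀ * n₀ ^ (2 * j) * c * (n₀ * n₀ ^ (2 * j))⁻¹ by group, ← pow_succ']
          exact conj_eq_of_commute (hj c hc)
        have hyc : y = c * (c * y) := by rw [← mul_assoc, D.eA c hc, one_mul]
        rw [hyc, conj_mul_conj] at h1
        have h3 : c * (n₀ * c * n₀⁻¹) = n₀ * (c * y) * n₀⁻¹ := by
          have h4 := congrArg (fun t => c * (t * (n₀ * (c * y) * n₀⁻¹))) h1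
          beta_reduce at h4
          rw [mul_assoc (n₀ * c * n₀⁻¹), D.eA _ (mem_inf.1 (D.normA_Z hF hn₀ (hstep j))).1, mul_one,
            ← mul_assoc c c, D.eA c hc, one_mul] at h4
          exact h4
        exact absurd (h3 ▸ D.normA_Z hF hn₀ (hstep j)) hno
    set w₀ := c * (n₀ * c * n₀⁻¹) with hw₀
    haveI := Fintype.ofFinite (A ⊓ B : Subgroup G)
    let f : (A ⊓ B : Subgroup G) → (A ⊓ B : Subgroup G) := fun v =>
      ⟨v * (n₀ * v * n₀⁻¹), mul_mem v.2 (D.normA_Z hF hn₀ v.2)⟩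
    have hf : Function.Injective f := by
      intro v v' e
      have e' : (v : G) * (n₀ * v * n₀⁻¹) = v' * (n₀ * v' * n₀⁻¹) := congrArg Subtype.val e
      by_contra hne
      have hp : (v : G) * v' ≠ 1 := fun h => hne (Subtype.ext (by
        rw [← inv_eq_of_sq (D.eA v' (mem_inf.1 v'.2).1)]; exact (inv_eq_of_mul_eq_one_left h).symm))
      refine hmove _ (mul_mem v.2 v'.2) hp ?_
      have hv' := (mem_inf.1 v'.2).1
      have hnv := (mem_inf.1 (D.normA_Z hF hn₀ v.2)).1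
      have hnv' := (mem_inf.1 (D.normA_Z hF hn₀ v'.2)).1
      rw [conj_mul_conj]
      calc n₀ * v * n₀⁻¹ * (n₀ * v' * n₀⁻¹) = (v : G) * (v * (n₀ * v * n₀⁻¹)) * (n₀ * v' * n₀⁻¹) := by
            rw [← mul_assoc (v : G) v, D.eA _ (mem_inf.1 v.2).1, one_mul]
        _ = (v : G) * (v' * (n₀ * v' * n₀⁻¹)) * (n₀ * v' * n₀⁻¹) := by rw [e']
        _ = (v : G) * v' := by rw [← mul_assoc (v : G) v', mul_assoc, D.eA _ hnv', mul_one]
    obtain ⟨v, hv⟩ := (Finite.injective_iff_surjective.1 hf) ⟨w₀, hco⟩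
    refine ⟨v, v.2, ?_⟩
    have e : (v : G) * (n₀ * v * n₀⁻¹) = w₀ := congrArg Subtype.val hv
    have hnv := (mem_inf.1 (D.normA_Z hF hn₀ v.2)).1
    calc n₀ * (c * v) * n₀⁻¹ = c * (c * (n₀ * c * n₀⁻¹)) * (n₀ * v * n₀⁻¹) := by
          rw [conj_mul_conj, ← mul_assoc c c, D.eA c hc, one_mul]
      _ = c * (v * (n₀ * v * n₀⁻¹)) * (n₀ * v * n₀⁻¹) := by rw [← hw₀, e]
      _ = c * v := by rw [← mul_assoc c, mul_assoc, D.eA _ hnv, mul_one]
  obtain ⟨v, hv, hfix⟩ := hd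
  refine ⟨v, hv, fun n hn hna => ?_⟩
  have hcv : c * v ∈ A := mul_mem hc (mem_inf.1 hv).1
  rcases D.act_dichotomy hF ha haB hn hna with h | h
  · exact h _ hcv
  obtain ⟨w, hw, hw1⟩ := D.exists_zne
  set w₁ := n₀ * w * n₀⁻¹ with hw₁def
  have hw₁ : w₁ ∈ A ⊓ B := D.normA_Z hF hn₀ hw
  have hw₁1 : w₁ ≠ 1 := fun e => hw1 (conj_eq_one_iff.1 e)
  have hw₁w : w ≠ w₁ := fun e => hmove w hw hw1 e.symm
  have hnw := D.normA_Z hF hn hw
  -- `n` agrees with `n₀` or its inverse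
  have hfin : ∀ m : G, m ∈ normalizer (A : Set G) → m * a = a * m → m * w * m⁻¹ = w →
      m * (c * v) * m⁻¹ = c * v := fun m hm hma hmw => by
    rcases D.act_dichotomy hF ha haB hm hma with h' | h'
    · exact conj_eq_of_commute (h' _ hcv)
    · exact absurd hmw (h' w hw hw1)
  have hna₀' : n₀⁻¹ * a = a * n₀⁻¹ := by
    calc n₀⁻¹ * a = n₀⁻¹ * (a * n₀) * n₀⁻¹ := by group
      _ = n₀⁻¹ * (n₀ * a) * n₀⁻¹ := by rw [hna₀]
      _ = a * n₀⁻¹ := by group
  apply commute_of_conj_eq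
  rcases D.exists_third hw hw₁ hw1 hw₁1 hw₁w hnw with e | e | e | e
  · exact absurd (conj_eq_one_iff.1 e) hw1
  · exact absurd e (h w hw hw1)
  · have h1 := hfin (n₀⁻¹ * n) (mul_mem (inv_mem hn₀) hn) (by rw [mul_assoc, hna, ← mul_assoc, hna₀', mul_assoc])
      (by rw [show n₀⁻¹ * n * w * (n₀⁻¹ * n)⁻¹ = n₀⁻¹ * (n * w * n⁻¹) * n₀ by group, e, hw₁def]; group)
    calc n * (c * v) * n⁻¹ = n₀ * (n₀⁻¹ * n * (c * v) * (n₀⁻¹ * n)⁻¹) * n₀⁻¹ := by group
      _ = c * v := by rw [h1, hfix]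
  · have hstep : n₀ * (w * w₁) * n₀⁻¹ = w := by
      have hm := D.normA_Z hF hn₀ (mul_mem hw hw₁)
      rcases D.exists_third hw hw₁ hw1 hw₁1 hw₁w hm with e' | e' | e' | e'
      · exact absurd (conj_eq_one_iff.1 e') fun h2 => hw₁w (by
          rw [← inv_eq_of_sq (D.eA w (mem_inf.1 hw).1)]; exact inv_eq_of_mul_eq_one_right h2)
      · exact e'
      · refine absurd ?_ hw₁1
        have h2 : w * w₁ = w := by
          calc w * w₁ = n₀⁻¹ * (n₀ * (w * w₁) * n₀⁻¹) * n₀ := by group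
            _ = n₀⁻¹ * w₁ * n₀ := by rw [e']
            _ = w := by rw [hw₁def]; group
        exact mul_left_cancel (h2.trans (mul_one w).symm)
      · exact absurd e' (hmove _ (mul_mem hw hw₁) fun h2 => hw₁w (by
          rw [← inv_eq_of_sq (D.eA w (mem_inf.1 hw).1)]; exact inv_eq_of_mul_eq_one_right h2))
    have h1 := hfin (n₀ * n) (mul_mem hn₀ hn) (by rw [mul_assoc, hna, ← mul_assoc, hna₀, mul_assoc])
      (by rw [show n₀ * n * w * (n₀ * n)⁻¹ = n₀ * (n * w * n⁻¹) * n₀⁻¹ by group, e, hstep])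
    calc n * (c * v) * n⁻¹ = n₀⁻¹ * (n₀ * n * (c * v) * (n₀ * n)⁻¹) * n₀ := by group
      _ = n₀⁻¹ * (n₀ * (c * v) * n₀⁻¹) * n₀ := by rw [h1, hfix]
      _ = c * v := by group

/-- Fixed elements of the automizer are isolated in the centralizer. -/
theorem isolated_fixed (hF : ¬ Fus A B) {a u : G} (ha : a ∈ A) (haB : a ∉ B) (hu : u ∈ A) (hu1 : u ≠ 1)
    (hfix : ∀ n ∈ normalizer (A : Set G), n * a = a * n → n * u = u * n) :
    Cfsg.IsIsolatedInvolution
      (⟨u, mem_centralizer_singleton_iff.2 (comm_of_sq D.eA hu ha)⟩ : centralizer ({a} : Set G)) := by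
  haveI : Fact (Nat.Prime 2) := ⟨Nat.prime_two⟩
  set C := centralizer ({a} : Set G)
  obtain ⟨P, hP⟩ := D.sylowA hF ha haB
  set u' : C := ⟨u, mem_centralizer_singleton_iff.2 (comm_of_sq D.eA hu ha)⟩
  refine Invol.isolated_of_sylow P (by rw [← orderOf_coe]; exact D.orderA hu hu1) fun g hg => ?_
  have hcen : ∀ y : C, y ∈ (P : Subgroup C) → y ∈ centralizer ((P : Subgroup C) : Set C) := by
    intro y hy
    refine mem_centralizer_iff.2 fun x hx => Subtype.ext ?_
    rw [hP] at hy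
    rw [SetLike.mem_coe, hP] at hx
    exact comm_of_sq D.eA hx hy
  obtain ⟨n, hn, e⟩ := P.conj_eq_normalizer_conj_of_mem_centralizer u' g⁻¹ (hcen _ (by rw [hP]; exact hu))
    (by rw [inv_inv]; exact hcen _ hg)
  have hn' : (n : G) ∈ normalizer (A : Set G) := by
    refine mem_normalizer_of_conj_mem fun x hx => ?_
    have hxC : x ∈ C := mem_centralizer_singleton_iff.2 (comm_of_sq D.eA hx ha)
    have h1 : (⟨x, hxC⟩ : C) ∈ (P : Subgroup C) := by rw [hP]; exact hx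
    have h2 := (mem_normalizer_iff.1 hn _).1 h1
    rw [hP] at h2
    exact h2
  rw [inv_inv] at e
  rw [e]
  refine Subtype.ext ?_
  have h3 := hfix _ (inv_mem hn') (by
    have h4 : (n : G) * a = a * n := mem_centralizer_singleton_iff.1 n.2
    calc (n : G)⁻¹ * a = (n : G)⁻¹ * (a * n) * (n : G)⁻¹ := by group
      _ = (n : G)⁻¹ * (n * a) * (n : G)⁻¹ := by rw [h4]
      _ = a * (n : G)⁻¹ := by group)
  push_cast
  show (n : G)⁻¹ * u * n = u
  rw [h3, inv_mul_cancel_right]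

/-- `C(a) = O(C(a)) C(a, u)`. -/
theorem split_fixed (hF : ¬ Fus A B) {a u g : G} (ha : a ∈ A) (haB : a ∉ B) (hu : u ∈ A) (hu1 : u ≠ 1)
    (hfix : ∀ n ∈ normalizer (A : Set G), n * a = a * n → n * u = u * n)
    (hg : g ∈ centralizer ({a} : Set G)) :
    ∃ o ∈ Oc a, ∃ c : G, c * a = a * c ∧ c * u = u * c ∧ g = o * c := by
  obtain ⟨o, ho, c, hc, e⟩ := IsoApps.exists_mul (D.isolated_fixed hF ha haB hu hu1 hfix) ⟨g, hg⟩
  exact ⟨o, ⟨o, ho, rfl⟩, c, mem_centralizer_singleton_iff.1 c.2,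
    congrArg Subtype.val (mem_centralizer_singleton_iff.1 hc), congrArg Subtype.val e⟩

/-- A trivial automizer: `C(a) = O(C(a)) A`. -/
theorem cent_nilpotent (hF : ¬ Fus A B) {a : G} (ha : a ∈ A) (haB : a ∉ B)
    (h : ∀ n ∈ normalizer (A : Set G), n * a = a * n → ∀ x ∈ A, n * x = x * n) :
    (∀ g ∈ centralizer ({a} : Set G), ∃ o ∈ Oc a, ∃ x ∈ A, g = o * x) ∧
      ∀ g ∈ centralizer ({a} : Set G), Odd (orderOf g) → g ∈ Oc a := by
  haveI : Fact (Nat.Prime 2) := ⟨Nat.prime_two⟩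
  set C := centralizer ({a} : Set G)
  obtain ⟨P, hP⟩ := D.sylowA hF ha haB
  obtain ⟨h1, h2⟩ := twoNil P (fun n hn => by
    refine mem_centralizer_iff.2 fun x hx => Subtype.ext ?_
    rw [SetLike.mem_coe, hP] at hx
    have hn' : (n : G) ∈ normalizer (A : Set G) := by
      refine mem_normalizer_of_conj_mem fun y hy => ?_
      have hyC : y ∈ C := mem_centralizer_singleton_iff.2 (comm_of_sq D.eA hy ha)
      have h1 : (⟨y, hyC⟩ : C) ∈ (P : Subgroup C) := by rw [hP]; exact hy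
      have h2 := (mem_normalizer_iff.1 hn _).1 h1
      rw [hP] at h2
      exact h2
    exact (h _ hn' (mem_centralizer_singleton_iff.1 n.2) _ hx).symm)
  refine ⟨fun g hg => ?_, fun g hg ho => ⟨⟨g, hg⟩, h2 ⟨g, hg⟩ (by rwa [← orderOf_coe]), rfl⟩⟩
  obtain ⟨o, ho, x, hx, e⟩ := h1 ⟨g, hg⟩
  rw [hP] at hx
  exact ⟨o, ⟨o, ho, rfl⟩, x, hx, congrArg Subtype.val e⟩

end Dat

end CfsgLib.SylL34
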