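import Cfsg.Agent.SylL34.Moving

/-!
Counting pairs of involutions of different classes when there is no fusion into the centre.
-/

set_option autoImplicit false
set_option linter.unusedSectionVars false
set_option linter.unusedSimpArgs false
set_option linter.style.haveILetI false

namespace CfsgLib.SylL34

open Subgroup

variable {G : Type*} [Group G] [Finite G]

theorem card_isConj (x : G) :
    Nat.card {y : G // IsConj x y} * Nat.card (centralizer ({x} : Set G)) = Nat.card G := by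
  have h := card_orbit (⊤ : Subgroup G) x
  rw [top_inf_eq, card_top] at h
  rw [← h]
  congr 1
  exact Nat.card_congr (Equiv.subtypeEquivRight fun y => by simp [isConj_iff])

/-- The involution of a dihedral pair when `y` is not fused to its translate. -/
theorem half_of_not {x y : G} (hx : orderOf x = 2) (hy : orderOf y = 2) (hev : Even (orderOf (x * y)))
    (hn : ¬ IsConj y (y * (x * y) ^ (orderOf (x * y) / 2))) :
    Odd (orderOf (x * y) / 2) ∧ IsConj y (x * (x * y) ^ (orderOf (x * y) / 2)) := by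
  have hyv : y * (x * y) * y⁻¹ = (x * y)⁻¹ := by
    rw [Invol.mul_inv_rev_invol hx hy, Invol.inv_eq_self hy, ← mul_assoc, mul_assoc (y * x) y y,
      Invol.mul_self_eq_one hy, mul_one]
  set m := orderOf (x * y) / 2
  have hodd : Odd m := by
    rcases Nat.even_or_odd m with ⟨j, hj⟩ | h
    · refine absurd (isConj_iff.2 ⟨(x * y) ^ (-(j : ℤ)), ?_⟩) hn
      rw [Invol.zpow_conj_invol (Invol.mul_self_eq_one hy) hyv, ← zpow_natCast (x * y) m]
      congr 2
      omega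
    · exact h
  obtain ⟨j, hj⟩ := hodd
  refine ⟨⟨j, hj⟩, isConj_iff.2 ⟨(x * y) ^ (-(j : ℤ)), ?_⟩⟩
  have hx_eq : x = y * (x * y) ^ (-1 : ℤ) := by
    rw [zpow_neg_one, Invol.mul_inv_rev_invol hx hy, ← mul_assoc, Invol.mul_self_eq_one hy, one_mul]
  rw [← zpow_natCast (x * y) m, Invol.zpow_conj_invol (Invol.mul_self_eq_one hy) hyv]
  conv_rhs => arg 1; rw [hx_eq]
  rw [mul_assoc, ← zpow_add]
  congr 2
  omega

theorem half_mul {i u : G} (hi : orderOf i = 2) (hu : Odd (orderOf u)) (hc : Commute i u) :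
    orderOf (i * u) = 2 * orderOf u ∧ (i * u) ^ (orderOf (i * u) / 2) = i := by
  have ho : orderOf (i * u) = 2 * orderOf u := by
    rw [hc.orderOf_mul_eq_mul_orderOf_of_coprime (by rw [hi]; exact Nat.coprime_two_left.2 hu), hi]
  refine ⟨ho, ?_⟩
  rw [ho, Nat.mul_div_cancel_left _ (by norm_num), hc.mul_pow, pow_orderOf_eq_one, mul_one]
  obtain ⟨j, hj⟩ := hu
  rw [hj, pow_succ, pow_mul, sq, Invol.mul_self_eq_one hi, one_pow, one_mul]

theorem mk_eq_one_iff {z : G} (x : centralizer ({z} : Set G)) :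
    haveI : (Cfsg.oddCore (centralizer ({z} : Set G))).Normal := ocore_normal
    QuotientGroup.mk' (Cfsg.oddCore (centralizer ({z} : Set G))) x = 1 ↔ (x : G) ∈ Oc z := by
  haveI : (Cfsg.oddCore (centralizer ({z} : Set G))).Normal := ocore_normal
  exact (QuotientGroup.eq_one_iff x).trans ⟨fun h => ⟨x, h, rfl⟩, fun ⟨y, hy, e⟩ => Subtype.ext e ▸ hy⟩

/-- The dihedral involution modulo the core of a centralizer. -/
theorem half_mod {z x y v : G} (hx : x * z = z * x) (hy : y * z = z * y) (hv : v * z = z * v) (hv2 : v * v = 1)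
    (hvO : v ∉ Oc z) (h : x * y * (x * y) * v ∈ Oc z) :
    Even (orderOf (x * y)) ∧ (x * y) ^ (orderOf (x * y) / 2) * v ∈ Oc z := by
  haveI : (Cfsg.oddCore (centralizer ({z} : Set G))).Normal := ocore_normal
  set φ := QuotientGroup.mk' (Cfsg.oddCore (centralizer ({z} : Set G)))
  obtain ⟨u, hu⟩ : ∃ u : centralizer ({z} : Set G), (u : G) = x * y :=
    ⟨⟨x * y, mem_centralizer_singleton_iff.2 ((show Commute x z from hx).mul_left hy).eq⟩, rfl⟩
  set v' : centralizer ({z} : Set G) := ⟨v, mem_centralizer_singleton_iff.2 hv⟩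
  have hv' : φ v' * φ v' = 1 := by rw [← map_mul, show v' * v' = 1 from Subtype.ext hv2, map_one]
  have h2 : φ u ^ 2 = φ v' := by
    rw [← inv_eq_of_sq hv', eq_inv_iff_mul_eq_one, ← map_pow, ← map_mul, mk_eq_one_iff]
    push_cast
    rw [sq, hu]
    exact h
  have h4 : φ u ^ 4 = 1 := by rw [show 4 = 2 * 2 from rfl, pow_mul, h2, sq, hv']
  haveI : Fact (Nat.Prime 2) := ⟨Nat.prime_two⟩
  have ho : orderOf (φ u) = 2 ^ (1 + 1) := orderOf_eq_prime_pow (by
    rw [pow_one, h2]; exact fun e => hvO ((mk_eq_one_iff v').1 e)) h4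
  have hdvd : 4 ∣ orderOf (x * y) := by
    rw [← hu, orderOf_coe]
    exact (show 4 = orderOf (φ u) by rw [ho]; norm_num) ▸ orderOf_map_dvd φ u
  obtain ⟨k, hk⟩ := hdvd
  have hkodd : Odd k := by
    have h5 : (x * y) ^ 4 ∈ Oc z := by
      rw [← hu, ← SubmonoidClass.coe_pow, ← mk_eq_one_iff, map_pow, h4]
    have h6 := odd_orderOf_of_mem (Oc_odd z) h5
    rwa [orderOf_pow, hk, Nat.gcd_mul_right_left, Nat.mul_div_cancel_left _ (by norm_num)] at h6
  refine ⟨⟨2 * k, by omega⟩, ?_⟩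
  rw [hk, show 4 * k / 2 = 2 * k by omega, ← hu,
    show ((u : centralizer ({z} : Set G)) : G) ^ (2 * k) * v = ((u ^ (2 * k) * v' : centralizer ({z} : Set G)) : G) from rfl,
    ← mk_eq_one_iff, map_mul, map_pow, pow_mul, h2]
  obtain ⟨j, rfl⟩ := hkodd
  rw [pow_succ, pow_mul, sq, hv', one_pow, one_mul, hv']

/-- Conjugates of `z` commuting with `a`. -/
def Cl (z a : G) : Type _ := {t : G // IsConj z t ∧ t * a = a * t}

/-- Pairs of conjugates of `z` commuting with `a`, with product of odd order. -/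
def OP (z a : G) : Type _ := {p : Cl z a × Cl z a // Odd (orderOf (p.1.1 * p.2.1))}

instance (z a : G) : Finite (Cl z a) := Subtype.finite
instance (z a : G) : Finite (OP z a) := Subtype.finite

namespace Dat

variable {S : Sylow 2 G} {A B : Subgroup G} (D : Dat S A B)
include D

theorem not_cross (hA : ¬ Fus A B) (hB : ¬ Fus B A) {a b : G} (ha : a ∈ A) (haB : a ∉ B) (hb : b ∈ B)
    (hbA : b ∉ A) : ¬ IsConj a b := by
  intro h
  obtain ⟨g, hg⟩ := isConj_iff.1 h
  set C := centralizer ({b} : Set G)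
  obtain ⟨P, hP⟩ := D.symm.sylowA hB hb hbA
  have hgC : cj g A ≤ C := by
    rintro _ ⟨x, hx, rfl⟩
    show g * x * g⁻¹ ∈ centralizer ({b} : Set G)
    rw [← hg]
    refine cent_conj.2 ?_
    simpa [mul_assoc] using mem_centralizer_singleton_iff.2 (comm_of_sq D.eA hx ha)
  obtain ⟨c, hc⟩ := exists_cj_le P (P := (cj g A).subgroupOf C) ((isPGroup_of_sq (cj_sq D.eA)).comap_subtype)
  rw [hP] at hc
  refine D.not_conjAB ((c : G) * g) (eq_of_le_of_card_ge (fun x hx => ?_) (by rw [card_cj, D.cA, D.cB]))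
  rw [← cj_cj, mem_cj] at hx
  have := hc ((conj_mem_cj (g := c)).2 (show (⟨_, hgC hx⟩ : C) ∈ (cj g A).subgroupOf C from hx))
  rw [mem_subgroupOf] at this
  simpa [mul_assoc] using this

theorem conj_sq_eq {z t : G} (hz : z ∈ A) (h : IsConj z t) : t * t = 1 := by
  obtain ⟨g, rfl⟩ := isConj_iff.1 h
  exact conj_sq g z (D.eA z hz)

theorem conj_two {z t : G} (hz : z ∈ A) (hz1 : z ≠ 1) (h : IsConj z t) : orderOf t = 2 := by
  obtain ⟨g, rfl⟩ := isConj_iff.1 h
  rw [Invol.orderOf_conj_eq, D.orderA hz hz1]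

/-- Involutions of `C(w)` are conjugate under the core to elements of `S`. -/
theorem cz_invol {w t : G} (hw : w ∈ A ⊓ B) (hw1 : w ≠ 1) (ht : t * w = w * t) (ht2 : t * t = 1) :
    ∃ o ∈ Oc w, ∃ s ∈ (S : Subgroup G), s * s = 1 ∧ IsConj t s ∧ o * s * o⁻¹ = t := by
  obtain ⟨c, hc, hcS⟩ := conj_into S (D.le_cent hw) (mem_centralizer_singleton_iff.2 ht) ht2
  obtain ⟨o, ho, n, hn, hnC, rfl⟩ := D.cz_decomp hw hw1 hc
  refine ⟨n⁻¹ * o⁻¹ * n, ?_, n⁻¹ * (o * n * t * (o * n)⁻¹) * n⁻¹⁻¹, conj_mem_of_normalizer (inv_mem hn) hcS,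
    conj_sq _ _ (conj_sq _ _ ht2), isConj_iff.2 ⟨n⁻¹ * (o * n), by group⟩, by group⟩
  have hnw : n⁻¹ ∈ centralizer ({w} : Set G) :=
    inv_mem (mem_centralizer_singleton_iff.2 (mem_centZ_iff.1 hnC w hw))
  simpa using conj_mem_of_normalizer (cent_le_normalizer_Oc w hnw) (inv_mem ho)

theorem conj_Z (hA : ¬ Fus A B) (hB : ¬ Fus B A) {z s : G} (hz : z ∈ A ⊓ B) (hs : s ∈ (S : Subgroup G))
    (hs2 : s * s = 1) (h : IsConj z s) : s ∈ A ⊓ B := by
  rcases D.inv s hs hs2 with h' | h'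
  · exact D.not_zne hA h' hz h
  · exact (inf_comm B A).le (D.symm.not_zne hB h' ((inf_comm A B).le hz) h)

theorem mul_Z_conj {a w : G} (ha : a ∈ A) (haB : a ∉ B) (hw : w ∈ A ⊓ B) : IsConj a (a * w) := by
  obtain ⟨b, -, hb⟩ := D.exists_comm ha haB hw
  exact isConj_iff.2 ⟨b, hb⟩

/-- Every conjugate of `z` is counted once by the pairs of a non-central involution. -/
theorem count_za (hA : ¬ Fus A B) (hB : ¬ Fus B A) {a z : G} (ha : a ∈ A) (haB : a ∉ B)
    (hz : z ∈ A ⊓ B) (hz1 : z ≠ 1) : Nat.card {t : G // IsConj z t} = Nat.card (OP z a) := by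
  classical
  have ha1 : a ≠ 1 := fun e => haB (e ▸ one_mem B)
  have haz : ¬ IsConj z a := fun h => haB (mem_inf.1 (D.not_zne hA ha hz h)).2
  -- the two classes multiply into the first
  have hmul : ∀ i s : G, IsConj a i → IsConj z s → s * i = i * s → IsConj a (i * s) := by
    intro i s hi hs hc
    obtain ⟨g, hg⟩ := isConj_iff.1 hi.symm
    obtain ⟨c, hca, hcw, -⟩ := D.cent_into hA ha haB hz hz1 (t := g * s * g⁻¹) (by
      rw [← hg, show g * s * g⁻¹ * (g * i * g⁻¹) = g * (s * i) * g⁻¹ by group, hc]; group)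
      (hs.trans (isConj_iff.2 ⟨g, rfl⟩))
    refine (D.mul_Z_conj ha haB hcw).trans (isConj_iff.2 ⟨(c * g)⁻¹, ?_⟩)
    have : c * a * c⁻¹ = a := by rw [hca, mul_inv_cancel_right]
    calc (c * g)⁻¹ * (a * (c * (g * s * g⁻¹) * c⁻¹)) * (c * g)⁻¹⁻¹
        = g⁻¹ * c⁻¹ * a * c * g * s := by group
      _ = g⁻¹ * c⁻¹ * (c * a * c⁻¹) * c * g * s := by rw [this]
      _ = g⁻¹ * (g * i * g⁻¹) * g * s := by rw [hg]; group
      _ = i * s := by group
  -- the inverse map
  have hinv : ∀ e t : G, IsConj a e → IsConj z t →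
      Even (orderOf (e * t)) ∧ IsConj a ((e * t) ^ (orderOf (e * t) / 2)) ∧
        IsConj z (e * (e * t) ^ (orderOf (e * t) / 2)) ∧ Odd (orderOf (e * t) / 2) := by
    intro e t he ht
    have he2 : orderOf e = 2 := D.conj_two ha ha1 he
    have ht2 : orderOf t = 2 := D.conj_two hz.1 hz1 ht
    have hev : Even (orderOf (e * t)) := by
      rw [← Nat.not_odd_iff_even]
      exact fun h => haz (ht.trans ((Invol.isConj_of_odd he2 ht2 h).symm.trans he.symm))
    obtain ⟨hi, hie, hit⟩ := Invol.half_props he2 ht2 hev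
    set i := (e * t) ^ (orderOf (e * t) / 2) with hidef
    have hnot : ¬ IsConj t (t * i) := by
      intro hti
      -- then `i` is conjugate into the centre
      obtain ⟨g, hg⟩ := isConj_iff.1 ht.symm
      have hs : g * (t * i) * g⁻¹ * z = z * (g * (t * i) * g⁻¹) := by
        rw [← hg, show g * (t * i) * g⁻¹ * (g * t * g⁻¹) = g * (t * (i * t)) * g⁻¹ by group, hit.eq]; group
      obtain ⟨c, hc, hcS⟩ := conj_into S (D.le_cent hz) (mem_centralizer_singleton_iff.2 hs)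
        (conj_sq _ _ (D.conj_sq_eq hz.1 (ht.trans hti)))
      have hσ := D.conj_Z hA hB hz hcS (conj_sq _ _ (conj_sq _ _ (D.conj_sq_eq hz.1 (ht.trans hti))))
        ((ht.trans hti).trans (isConj_iff.2 ⟨c * g, by group⟩))
      have hcz : c * z * c⁻¹ = z := by rw [mem_centralizer_singleton_iff.1 hc, mul_inv_cancel_right]
      have hi' : c * g * i * (c * g)⁻¹ ∈ A ⊓ B := by
        have : c * g * i * (c * g)⁻¹ = (c * z * c⁻¹)⁻¹ * (c * (g * (t * i) * g⁻¹) * c⁻¹) := by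
          rw [← hg]; group
        rw [this, hcz]
        exact mul_mem (inv_mem hz) hσ
      obtain ⟨g', hg'⟩ := isConj_iff.1 he.symm
      have hw₀1 : c * g * i * (c * g)⁻¹ ≠ 1 := fun e' => Invol.ne_one hi (conj_eq_one_iff.1 e')
      obtain ⟨c', hc', hw, hw1⟩ := D.cent_into hA ha haB hi' hw₀1 (t := g' * i * g'⁻¹) (by
        rw [← hg', show g' * i * g'⁻¹ * (g' * e * g'⁻¹) = g' * (i * e) * g'⁻¹ by group, hie.eq]; group)
        ((isConj_iff.2 ⟨(c * g)⁻¹, by group⟩ : IsConj (c * g * i * (c * g)⁻¹) i).trans (isConj_iff.2 ⟨g', rfl⟩))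
      set h := c' * g' with hh
      set w := c' * (g' * i * g'⁻¹) * c'⁻¹ with hwdef
      set t' := h * t * h⁻¹ with ht'
      have hha : h * e * h⁻¹ = a := by
        rw [hh, show c' * g' * e * (c' * g')⁻¹ = c' * (g' * e * g'⁻¹) * c'⁻¹ by group, hg', hc', mul_inv_cancel_right]
      have hhi : h * i * h⁻¹ = w := by rw [hh, hwdef]; group
      have htw : t' * w = w * t' := by
        rw [ht', ← hhi, show h * t * h⁻¹ * (h * i * h⁻¹) = h * (t * i) * h⁻¹ by group, hit.eq.symm]; group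
      obtain ⟨o, ho, σ, hσS, hσ2, hσc, hσe⟩ := D.cz_invol hw hw1 htw (D.conj_sq_eq hz.1 (ht.trans (isConj_iff.2 ⟨h, ht'.symm⟩)))
      have hσZ := D.conj_Z hA hB hz hσS hσ2 ((ht.trans (isConj_iff.2 ⟨h, ht'.symm⟩)).trans hσc)
      haveI : (Cfsg.oddCore (centralizer ({w} : Set G))).Normal := ocore_normal
      set φ := QuotientGroup.mk' (Cfsg.oddCore (centralizer ({w} : Set G)))
      set u : centralizer ({w} : Set G) := ⟨a, D.le_cent hw (D.hA ha)⟩ * ⟨t', mem_centralizer_singleton_iff.2 htw⟩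
      set v : centralizer ({w} : Set G) := ⟨a * σ, D.le_cent hw (mul_mem (D.hA ha) hσS)⟩ with hv
      have huv : φ u = φ v := by
        have : φ ⟨t', mem_centralizer_singleton_iff.2 htw⟩ = φ ⟨σ, D.le_cent hw hσS⟩ := by
          have h1 : φ ⟨o, Oc_le w ho⟩ = 1 := (mk_eq_one_iff _).2 ho
          rw [show (⟨t', mem_centralizer_singleton_iff.2 htw⟩ : centralizer ({w} : Set G)) =
            ⟨o, Oc_le w ho⟩ * ⟨σ, D.le_cent hw hσS⟩ * ⟨o, Oc_le w ho⟩⁻¹ from Subtype.ext hσe.symm, map_mul, map_mul,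
            map_inv, h1, one_mul, inv_one, mul_one]
        rw [map_mul, this, ← map_mul]
        rfl
      have hvA : a * σ ∈ A := mul_mem ha hσZ.1
      have hv2 : φ v * φ v = 1 := by rw [← map_mul, show v * v = 1 from Subtype.ext (D.eA _ hvA), map_one]
      have hord : orderOf (u : G) = orderOf (e * t) := by
        rw [show (u : G) = h * (e * t) * h⁻¹ by push_cast [u]; rw [← hha, ht']; group, Invol.orderOf_conj_eq]
      have hup : (u : G) ^ (orderOf (e * t) / 2) = w := by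
        rw [show (u : G) = h * (e * t) * h⁻¹ by push_cast [u]; rw [← hha, ht']; group, conj_pow, ← hidef, hhi]
      obtain ⟨m, hm⟩ := hev
      have hu2 : φ (u ^ 2) = 1 := by rw [map_pow, huv, sq, hv2]
      have hmodd : Odd m := by
        have h5 := odd_orderOf_of_mem (Oc_odd w) ((mk_eq_one_iff (u ^ 2)).1 hu2)
        push_cast at h5
        rwa [orderOf_pow, hord, hm, ← two_mul, Nat.gcd_mul_right_left, Nat.mul_div_cancel_left _ (by norm_num)] at h5
      rw [hm, show (m + m) / 2 = m by omega] at hup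
      obtain ⟨j, rfl⟩ := hmodd
      have hφ : φ (u ^ (2 * j + 1)) = φ v := by rw [map_pow, huv, pow_succ, pow_mul, sq, hv2, one_pow, one_mul]
      rw [show u ^ (2 * j + 1) = ⟨w, D.le_cent hw (D.z_le_S hw)⟩ from Subtype.ext (by push_cast; exact hup)] at hφ
      have h1 : w⁻¹ * (a * σ) ∈ Oc w := by
        have := (mk_eq_one_iff ((⟨w, D.le_cent hw (D.z_le_S hw)⟩ : centralizer ({w} : Set G))⁻¹ * v)).1 (by
          rw [map_mul, map_inv, hφ, inv_mul_cancel])
        simpa [hv] using this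
      have h2 := inf_eq_bot_of_odd (Oc_odd w) S.2 h1 (mul_mem (inv_mem (D.z_le_S hw)) (D.hA hvA))
      have h3 : a * σ = w := (inv_mul_eq_one.1 h2).symm
      exact haB ((mul_mem_cancel_right (mem_inf.1 hσZ).2).1 (h3.symm ▸ (mem_inf.1 hw).2))
    obtain ⟨hodd, hc⟩ := half_of_not he2 ht2 hev hnot
    refine ⟨hev, ?_, ht.trans hc, hodd⟩
    have := hmul e (e * i) he (ht.trans hc) (by rw [mul_assoc, hie.eq, ← mul_assoc])
    rwa [← mul_assoc, Invol.mul_self_eq_one he2, one_mul] at this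
  let T := {t : G // IsConj z t}
  let K := {e : G // IsConj a e}
  let f : (Σ i : K, OP z (i : G)) → K × T := fun p =>
    (⟨p.1.1 * p.2.1.1.1, hmul _ _ p.1.2 p.2.1.1.2.1 p.2.1.1.2.2⟩, ⟨p.2.1.2.1, p.2.1.2.2.1⟩)
  have hfwd : ∀ (i t' t : G), IsConj a i → IsConj z t' → IsConj z t → t' * i = i * t' → t * i = i * t →
      Odd (orderOf (t' * t)) → ((i * t' * t) ^ (orderOf (i * t' * t) / 2)) = i := by
    intro i t' t hi _ _ h1 h2 ho
    rw [mul_assoc]
    exact (half_mul (D.conj_two ha ha1 hi) ho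
      ((show Commute i t' from h1.symm).mul_right (show Commute i t from h2.symm))).2
  have hf : Function.Bijective f := by
    constructor
    · rintro ⟨⟨i, hi⟩, ⟨⟨⟨t', ht'⟩, ⟨t, ht⟩⟩, ho⟩⟩ ⟨⟨j, hj⟩, ⟨⟨⟨s', hs'⟩, ⟨s, hs⟩⟩, ho'⟩⟩ e
      have e1 : i * t' = j * s' := congrArg (fun p : K × T => (p.1 : G)) e
      have e2 : t = s := congrArg (fun p : K × T => (p.2 : G)) e
      subst e2
      have hij : i = j := by
        rw [← hfwd i t' t hi ht'.1 ht.1 ht'.2 ht.2 ho, ← hfwd j s' t hj hs'.1 hs.1 hs'.2 hs.2 ho', e1]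
      subst hij
      have e3 : t' = s' := mul_left_cancel e1
      subst e3
      rfl
    · rintro ⟨⟨e, he⟩, ⟨t, ht⟩⟩
      obtain ⟨hev, hi, hei, hodd⟩ := hinv e t he ht
      have he2 := D.conj_two ha ha1 he
      have ht2 := D.conj_two hz.1 hz1 ht
      obtain ⟨hi2, hie, hit⟩ := Invol.half_props he2 ht2 hev
      set i := (e * t) ^ (orderOf (e * t) / 2) with hidef
      have hprod : Odd (orderOf (e * i * t)) := by
        refine hodd.of_dvd_nat (orderOf_dvd_of_pow_eq_one ?_)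
        have hc : Commute i (e * t) := (Commute.pow_self _ _)
        rw [← hie.eq, mul_assoc, hc.mul_pow, ← hidef]
        obtain ⟨j, hj⟩ := hodd
        rw [hj, pow_succ, pow_mul, sq, Invol.mul_self_eq_one hi2, one_pow, one_mul, Invol.mul_self_eq_one hi2]
      refine ⟨⟨⟨i, hi⟩, ⟨(⟨e * i, hei, by rw [mul_assoc, ← mul_assoc i, hie.eq]; group⟩, ⟨t, ht, hit.eq.symm⟩), hprod⟩⟩, ?_⟩
      refine Prod.ext (Subtype.ext ?_) rfl
      show i * (e * i) = e
      rw [← mul_assoc, hie.eq, mul_assoc, Invol.mul_self_eq_one hi2, mul_one]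
  have h := Nat.card_eq_of_bijective f hf
  haveI := Fintype.ofFinite K
  have hsame : ∀ i : K, Nat.card (OP z (i : G)) = Nat.card (OP z a) := by
    intro i
    obtain ⟨g, hg⟩ := isConj_iff.1 i.2
    let E : Cl z a ≃ Cl z (i : G) := (MulAut.conj g).toEquiv.subtypeEquiv fun t => by
      constructor
      · rintro ⟨h1, h2⟩
        refine ⟨h1.trans (isConj_iff.2 ⟨g, rfl⟩), ?_⟩
        show g * t * g⁻¹ * (i : G) = (i : G) * (g * t * g⁻¹)
        rw [← hg, show g * t * g⁻¹ * (g * a * g⁻¹) = g * (t * a) * g⁻¹ by group, h2]; group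
      · rintro ⟨h1, h2⟩
        refine ⟨h1.trans (isConj_iff.2 ⟨g⁻¹, by simp [mul_assoc]⟩), ?_⟩
        change g * t * g⁻¹ * (i : G) = (i : G) * (g * t * g⁻¹) at h2
        calc t * a = g⁻¹ * (g * t * g⁻¹ * (g * a * g⁻¹)) * g := by group
          _ = g⁻¹ * (g * a * g⁻¹ * (g * t * g⁻¹)) * g := by rw [hg, h2]
          _ = a * t := by group
    refine (Nat.card_congr ((E.prodCongr E).subtypeEquiv fun p => ?_)).symm
    show Odd (orderOf (p.1.1 * p.2.1)) ↔ Odd (orderOf (g * p.1.1 * g⁻¹ * (g * p.2.1 * g⁻¹)))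
    rw [show g * p.1.1 * g⁻¹ * (g * p.2.1 * g⁻¹) = g * (p.1.1 * p.2.1) * g⁻¹ by group, Invol.orderOf_conj_eq]
  rw [Nat.card_sigma, Finset.sum_congr rfl (fun i _ => hsame i), Finset.sum_const, Finset.card_univ,
    ← Nat.card_eq_fintype_card, smul_eq_mul, Nat.card_prod] at h
  haveI : Nonempty K := ⟨⟨a, IsConj.refl a⟩⟩
  exact (Nat.eq_of_mul_eq_mul_left (Nat.card_pos (α := K)) h).symm

theorem card_cl_moving (hA : ¬ Fus A B) {a z : G} (ha : a ∈ A) (haB : a ∉ B) (hmv : Moves A B a)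
    (hz : z ∈ A ⊓ B) (hz1 : z ≠ 1) :
    (∀ t : Cl z a, ∃ c : G, c * a = a * c ∧ c * t.1 * c⁻¹ = z) ∧
    Nat.card (Cl z a) * Nat.card (centralizer ({a} : Set G) ⊓ centralizer ({z} : Set G) : Subgroup G) =
      Nat.card (centralizer ({a} : Set G)) := by
  have h1 : ∀ t : Cl z a, ∃ c : G, c * a = a * c ∧ c * t.1 * c⁻¹ = z := by
    rintro ⟨t, ht, hta⟩
    obtain ⟨c, hc, hcw, hcw1⟩ := D.cent_into hA ha haB hz hz1 hta ht
    obtain ⟨n, -, hn, e⟩ := D.moves_trans hA ha haB hmv hcw hcw1 hz hz1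
    refine ⟨n * c, ((show Commute n a from hn).mul_left hc).eq, ?_⟩
    show n * c * t * (n * c)⁻¹ = z
    calc n * c * t * (n * c)⁻¹ = n * (c * t * c⁻¹) * n⁻¹ := by group
      _ = z := e
  refine ⟨h1, ?_⟩
  rw [← card_orbit (centralizer ({a} : Set G)) z]
  congr 1
  refine Nat.card_congr (Equiv.subtypeEquivRight fun t => ⟨fun h => ?_, ?_⟩)
  · obtain ⟨c, hc, e⟩ := h1 ⟨t, h⟩
    exact ⟨c⁻¹, inv_mem (mem_centralizer_singleton_iff.2 hc), by rw [← e]; group⟩
  · rintro ⟨c, hc, rfl⟩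
    have hza : z * a = a * z := comm_of_sq D.eA hz.1 ha
    exact ⟨isConj_iff.2 ⟨c, rfl⟩, (((show Commute c a from mem_centralizer_singleton_iff.1 hc).mul_left hza).mul_left
      (show Commute c a from mem_centralizer_singleton_iff.1 hc).inv_left).eq⟩

/-- Pairs with product of even order, for a moving automizer. -/
theorem even_bound (hA : ¬ Fus A B) (hB : ¬ Fus B A) {a z w : G} (ha : a ∈ A) (haB : a ∉ B)
    (hmv : Moves A B a) (hz : z ∈ A ⊓ B) (hz1 : z ≠ 1) (hw : w ∈ A ⊓ B) (hw1 : w ≠ 1) (hzw : z ≠ w) :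
    Nat.card {p : Cl z a × Cl z a // ¬ Odd (orderOf (p.1.1 * p.2.1))} ≤
      Nat.card (Cl z a) * (2 * Nat.card {y : G // ∃ o ∈ Oc z ⊓ centralizer ({a} : Set G), o * w * o⁻¹ = y} ^ 2) := by
  classical
  set R := Cl z a
  set O' := Oc z ⊓ centralizer ({a} : Set G) with hO'
  have hzw' : z * w ∈ A ⊓ B := mul_mem hz hw
  have htr := (D.card_cl_moving hA ha haB hmv hz hz1).1
  choose cc hcca hccz using htr
  set E := {p : R × R // ¬ Odd (orderOf (p.1.1 * p.2.1))}
  have hhalf : ∀ p : E, orderOf p.1.1.1 = 2 ∧ orderOf p.1.2.1 = 2 ∧ Even (orderOf (p.1.1.1 * p.1.2.1)) := fun p =>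
    ⟨D.conj_two hz.1 hz1 p.1.1.2.1, D.conj_two hz.1 hz1 p.1.2.2.1, Nat.not_odd_iff_even.1 p.2⟩
  let half : E → G := fun p => (p.1.1.1 * p.1.2.1) ^ (orderOf (p.1.1.1 * p.1.2.1) / 2)
  have hiR : ∀ p : E, IsConj z (half p) ∧ half p * a = a * half p := by
    intro p
    obtain ⟨ht, hs, hev⟩ := hhalf p
    obtain ⟨hi, hit, -⟩ := Invol.half_props ht hs hev
    have hia : half p * a = a * half p :=
      (Commute.mul_left (show Commute p.1.1.1 a from p.1.1.2.2) (show Commute p.1.2.1 a from p.1.2.2.2)).pow_left _ |>.eq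
    refine ⟨?_, hia⟩
    set c := cc p.1.1 with hc
    replace hit : Commute (half p) p.1.1.1 := hit
    set i := half p with hidef
    have hti : IsConj z (p.1.1.1 * i) := by
      rcases Invol.mul_half_isConj ht hs hev with h | h
      · exact p.1.1.2.1.trans h
      · exact p.1.2.2.1.trans h
    set s := c * (p.1.1.1 * i) * c⁻¹ with hsdef
    have hcz : c * p.1.1.1 * c⁻¹ = z := hccz p.1.1
    have hca : Commute c a := hcca p.1.1
    have hsz : s * z = z * s := by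
      rw [← hcz, hsdef, show c * (p.1.1.1 * i) * c⁻¹ * (c * p.1.1.1 * c⁻¹) = c * (p.1.1.1 * (i * p.1.1.1)) * c⁻¹ by group,
        hit.eq]
      group
    have hsa : s * a = a * s :=
      ((hca.mul_left ((show Commute p.1.1.1 a from p.1.1.2.2).mul_left hia)).mul_left hca.inv_left).eq
    obtain ⟨o, ho, x, hx, hoa, e⟩ := D.cza_decomp hz hz1 ha haB (mem_centralizer_singleton_iff.2 hsz) hsa
    have hs2 : s * s = 1 := D.conj_sq_eq hz.1 (hti.trans (isConj_iff.2 ⟨c, rfl⟩))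
    have hso : orderOf s = 2 := D.conj_two hz.1 hz1 (hti.trans (isConj_iff.2 ⟨c, rfl⟩))
    have hx1 : x ≠ 1 := fun e' => Invol.ne_one hso (eq_one_of_sq_odd hs2 (by
      rw [e, e', mul_one]; exact odd_orderOf_of_mem (Oc_odd z) ho))
    obtain ⟨o', ho', e'⟩ := exists_conj_mod (Oc_odd z) (D.orderA hx hx1) hso
      (show s * x ∈ Oc z by rw [e, mul_assoc, D.eA x hx, mul_one]; exact ho)
    have hxc : IsConj z x := (hti.trans (isConj_iff.2 ⟨c, rfl⟩)).trans (isConj_iff.2 ⟨o'⁻¹, by rw [← hsdef, ← e']; group⟩)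
    have hxZ := D.not_zne hA hx hz hxc
    have ho'z : o' * z * o'⁻¹ = z := by rw [Oc_comm ho', mul_inv_cancel_right]
    have hi' : o'⁻¹ * c * i * (o'⁻¹ * c)⁻¹ = z * x := by
      have h1 : i = p.1.1.1⁻¹ * (p.1.1.1 * i) := by group
      rw [h1, show o'⁻¹ * c * (p.1.1.1⁻¹ * (p.1.1.1 * i)) * (o'⁻¹ * c)⁻¹ =
        (o'⁻¹ * (c * p.1.1.1 * c⁻¹) * o')⁻¹ * (o'⁻¹ * (c * (p.1.1.1 * i) * c⁻¹) * o') by group, hcz, ← hsdef, ← e']
      have : o'⁻¹ * z * o' = z := by rw [mul_assoc, ← Oc_comm ho', inv_mul_cancel_left]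
      rw [this, inv_eq_of_sq (D.eA z hz.1)]
      group
    have hne : z * x ≠ 1 := fun h => Invol.ne_one hi (conj_eq_one_iff.1 (hi'.trans h))
    obtain ⟨n, -, -, en⟩ := D.moves_trans hA ha haB hmv hz hz1 (mul_mem hz hxZ) hne
    exact (isConj_iff.2 ⟨n, en⟩).trans (isConj_iff.2 ⟨(o'⁻¹ * c)⁻¹, by rw [← hi']; group⟩)
  let ι : E → R := fun p => ⟨half p, hiR p⟩
  -- the translated pair
  let P : G → Type _ := fun v => {y : G // ∃ o ∈ O', o * v * o⁻¹ = y}
  have hcl : ∀ p : E, ∃ w' ∈ A ⊓ B, ∃ w'' ∈ A ⊓ B, (∃ o ∈ O', o * w' * o⁻¹ = cc (ι p) * p.1.1.1 * (cc (ι p))⁻¹) ∧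
      (∃ o ∈ O', o * w'' * o⁻¹ = cc (ι p) * p.1.2.1 * (cc (ι p))⁻¹) ∧
      ((w' = w ∧ w'' = z * w) ∨ (w' = z * w ∧ w'' = w)) := by
    intro p
    obtain ⟨ht, hs, hev⟩ := hhalf p
    obtain ⟨hi, hit, his⟩ := Invol.half_props ht hs hev
    set c := cc (ι p)
    have hca : Commute c a := hcca (ι p)
    have hcz : c * half p * c⁻¹ = z := hccz (ι p)
    have hconv : ∀ t : R, Commute (half p) t.1 → ∃ w' ∈ A ⊓ B, w' ≠ 1 ∧ ∃ o ∈ O', o * w' * o⁻¹ = c * t.1 * c⁻¹ := by
      intro t hti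
      set s := c * t.1 * c⁻¹ with hsdef
      have hsz : s * z = z * s := by
        rw [← hcz, hsdef, show c * t.1 * c⁻¹ * (c * half p * c⁻¹) = c * (t.1 * half p) * c⁻¹ by group, hti.eq.symm]
        group
      have hsa : s * a = a * s := ((hca.mul_left (show Commute t.1 a from t.2.2)).mul_left hca.inv_left).eq
      have hsc : IsConj z s := t.2.1.trans (isConj_iff.2 ⟨c, rfl⟩)
      obtain ⟨o, ho, x, hx, hoa, e⟩ := D.cza_decomp hz hz1 ha haB (mem_centralizer_singleton_iff.2 hsz) hsa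
      have hso : orderOf s = 2 := D.conj_two hz.1 hz1 hsc
      have hx1 : x ≠ 1 := fun e' => Invol.ne_one hso (eq_one_of_sq_odd (Invol.mul_self_eq_one hso) (by
        rw [e, e', mul_one]; exact odd_orderOf_of_mem (Oc_odd z) ho))
      obtain ⟨o', ho', e'⟩ := exists_conj_mod (Odd.of_dvd_nat (Oc_odd z) (card_dvd_of_le inf_le_left)) (N := O')
        (D.orderA hx hx1) hso (show s * x ∈ O' by
          rw [e, mul_assoc, D.eA x hx, mul_one]; exact ⟨ho, mem_centralizer_singleton_iff.2 hoa⟩)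
      exact ⟨x, D.not_zne hA hx hz (hsc.trans (isConj_iff.2 ⟨o'⁻¹, by rw [← e']; group⟩)), hx1, o', ho', e'⟩
    obtain ⟨w', hw', hw'1, o₁, ho₁, e₁⟩ := hconv p.1.1 hit
    obtain ⟨w'', hw'', hw''1, o₂, ho₂, e₂⟩ := hconv p.1.2 his
    set u := c * (p.1.1.1 * p.1.2.1) * c⁻¹ with hu
    have hu' : u = (o₁ * w' * o₁⁻¹) * (o₂ * w'' * o₂⁻¹) := by rw [e₁, e₂, hu]; group
    have hord : orderOf u = orderOf (p.1.1.1 * p.1.2.1) := Invol.orderOf_conj_eq _ _
    have hpow : u ^ (orderOf u / 2) = z := by rw [hord, hu, conj_pow]; exact hcz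
    have hne : ∀ o ∈ O', o * z * o⁻¹ = z := fun o ho => by rw [Oc_comm ho.1, mul_inv_cancel_right]
    have hfour : ∀ s : G, s * s = 1 → s * z = z * s → (z * s) ^ (orderOf (z * s) / 2) = z → Even (orderOf (z * s)) →
        s = 1 := by
      intro s hs2 hsz hh hev'
      have h2 : (z * s) * (z * s) = 1 := by
        rw [show z * s * (z * s) = z * (s * z) * s by group, hsz, ← mul_assoc z z, D.eA z hz.1, one_mul, hs2]
      by_cases h1 : z * s = 1
      · rw [h1, orderOf_one] at hev'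
        exact absurd hev' (by decide)
      rw [Invol.orderOf_eq_two h2 h1, pow_one] at hh
      exact mul_eq_left.1 hh
    have hw'z : w' ≠ z := by
      intro e
      rw [e, hne o₁ ho₁] at hu'
      set s := o₂ * w'' * o₂⁻¹
      have hs2 : s * s = 1 := conj_sq _ _ (D.eA w'' hw''.1)
      have hsz : s * z = z * s :=
        (((show Commute o₂ z from Oc_comm ho₂.1).mul_left (comm_of_sq D.eA hw''.1 hz.1)).mul_left
          (show Commute o₂ z from Oc_comm ho₂.1).inv_left).eq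
      exact hw''1 (conj_eq_one_iff.1 (hfour s hs2 hsz (hu' ▸ hpow) (hu' ▸ hord ▸ hev)))
    have hw''z : w'' ≠ z := by
      intro e
      rw [e, hne o₂ ho₂] at hu'
      set s := o₁ * w' * o₁⁻¹
      have hs2 : s * s = 1 := conj_sq _ _ (D.eA w' hw'.1)
      have hsz : s * z = z * s :=
        (((show Commute o₁ z from Oc_comm ho₁.1).mul_left (comm_of_sq D.eA hw'.1 hz.1)).mul_left
          (show Commute o₁ z from Oc_comm ho₁.1).inv_left).eq
      rw [hsz] at hu'
      exact hw'1 (conj_eq_one_iff.1 (hfour s hs2 hsz (hu' ▸ hpow) (hu' ▸ hord ▸ hev)))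
    have hdiff : w' ≠ w'' := by
      intro e
      refine p.2 ?_
      rw [← hord]
      refine odd_orderOf_of_mem (Oc_odd z) ?_
      have hwz : ∀ o ∈ Oc z, w' * o * w'⁻¹ ∈ Oc z := fun o ho =>
        conj_mem_of_normalizer (cent_le_normalizer_Oc z (D.le_cent hz (D.z_le_S hw'))) ho
      rw [hu', ← e, show o₁ * w' * o₁⁻¹ * (o₂ * w' * o₂⁻¹) = o₁ * (w' * (o₁⁻¹ * o₂) * w'⁻¹) * (w' * w') * o₂⁻¹ by group,
        D.eA w' hw'.1, mul_one]
      exact mul_mem (mul_mem ho₁.1 (hwz _ (mul_mem (inv_mem ho₁.1) ho₂.1))) (inv_mem ho₂.1)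
    refine ⟨w', hw', w'', hw'', ⟨o₁, ho₁, e₁⟩, ⟨o₂, ho₂, e₂⟩, ?_⟩
    rcases D.exists_third hz hw hz1 hw1 hzw hw' with h | h | h | h
    · exact absurd h hw'1
    · exact absurd h hw'z
    · refine Or.inl ⟨h, ?_⟩
      rcases D.exists_third hz hw hz1 hw1 hzw hw'' with h' | h' | h' | h'
      · exact absurd h' hw''1
      · exact absurd h' hw''z
      · exact absurd (h.trans h'.symm) hdiff
      · exact h'
    · refine Or.inr ⟨h, ?_⟩
      rcases D.exists_third hz hw hz1 hw1 hzw hw'' with h' | h' | h' | h'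
      · exact absurd h' hw''1
      · exact absurd h' hw''z
      · exact h'
      · exact absurd (h.trans h'.symm) hdiff
  choose w' hw' w'' hw'' ho₁ ho₂ hsplit using hcl
  let F : E → R × ((P w × P (z * w)) ⊕ (P (z * w) × P w)) := fun p => (ι p,
    if h : w' p = w then
      Sum.inl (⟨_, h ▸ ho₁ p⟩, ⟨_, ((hsplit p).resolve_right fun h' => hz1 (mul_eq_right.1 (h'.1.symm.trans h))).2 ▸ ho₂ p⟩)
    else
      Sum.inr (⟨_, ((hsplit p).resolve_left fun h' => h h'.1).1 ▸ ho₁ p⟩,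
        ⟨_, ((hsplit p).resolve_left fun h' => h h'.1).2 ▸ ho₂ p⟩))
  have hF : Function.Injective F := by
    intro p q e
    have e1 : ι p = ι q := congrArg Prod.fst e
    have e2 := congrArg Prod.snd e
    have e3 : cc (ι p) * p.1.1.1 * (cc (ι p))⁻¹ = cc (ι q) * q.1.1.1 * (cc (ι q))⁻¹ ∧
        cc (ι p) * p.1.2.1 * (cc (ι p))⁻¹ = cc (ι q) * q.1.2.1 * (cc (ι q))⁻¹ := by
      by_cases hp : w' p = w <;> by_cases hq : w' q = w
      · simp only [F, dif_pos hp, dif_pos hq] at e2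
        have e2' := Sum.inl_injective e2
        exact ⟨congrArg (fun x => x.1.1) e2', congrArg (fun x => x.2.1) e2'⟩
      · simp only [F, dif_pos hp, dif_neg hq] at e2
        simp at e2
      · simp only [F, dif_neg hp, dif_pos hq] at e2
        simp at e2
      · simp only [F, dif_neg hp, dif_neg hq] at e2
        have e2' := Sum.inr_injective e2
        exact ⟨congrArg (fun x => x.1.1) e2', congrArg (fun x => x.2.1) e2'⟩
    rw [← e1] at e3
    exact Subtype.ext (Prod.ext (Subtype.ext (mul_left_cancel (mul_right_cancel e3.1)))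
      (Subtype.ext (mul_left_cancel (mul_right_cancel e3.2))))
  have hPeq : Nat.card (P (z * w)) = Nat.card (P w) := by
    have h1 := card_orbit O' w
    have h2 := card_orbit O' (z * w)
    have heq : O' ⊓ centralizer ({z * w} : Set G) = O' ⊓ centralizer ({w} : Set G) := by
      ext x
      simp only [mem_inf, mem_centralizer_singleton_iff]
      refine and_congr_right fun hx => ?_
      have hxz : x * z = z * x := Oc_comm (mem_inf.1 hx).1
      rw [← mul_assoc, hxz, mul_assoc, mul_assoc z w x]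
      exact mul_left_cancel_iff
    rw [heq] at h2
    exact Nat.eq_of_mul_eq_mul_right Nat.card_pos (h2.trans h1.symm)
  refine (Nat.card_le_card_of_injective F hF).trans (le_of_eq ?_)
  rw [Nat.card_prod, Nat.card_sum, Nat.card_prod, Nat.card_prod, hPeq]
  show _ = Nat.card R * (2 * Nat.card (P w) ^ 2)
  ring

/-- The bound for a moving automizer. -/
theorem moving_bound (hA : ¬ Fus A B) (hB : ¬ Fus B A) {a z : G} (ha : a ∈ A) (haB : a ∉ B)
    (hmv : Moves A B a) (hz : z ∈ A ⊓ B) (hz1 : z ≠ 1) :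
    Nat.card (Cl z a) ^ 2 ≤ 3 * Nat.card (OP z a) ∧ Nat.card (OP z a) < Nat.card (Cl z a) ^ 2 ∧
      (3 * Nat.card (OP z a) = Nat.card (Cl z a) ^ 2 →
        (∀ g ∈ centralizer ({a} : Set G), g * z = z * g → Odd (orderOf g) → g ∈ Oc a) ∧
          ∀ g ∈ centralizer ({a} : Set G), ∃ o ∈ Oc a, ∃ n ∈ normalizer (A : Set G), g = o * n) := by
  classical
  obtain ⟨w, hw, hw1, hwz⟩ := D.zne_two hz hz1
  have hzw : z ≠ w := hwz.symm
  have he := D.even_bound hA hB ha haB hmv hz hz1 hw hw1 hzw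
  obtain ⟨hq, hqe⟩ := D.moving_quot hA ha haB hmv hz hz1 hw hw1 hzw
  have hcl := (D.card_cl_moving hA ha haB hmv hz hz1).2
  have hor := card_orbit (Oc z ⊓ centralizer ({a} : Set G)) w
  have hy := D.card_cent_az' hz hz1 ha haB
  have hyw := D.card_cent_aZ hz hz1 hw ha haB
  haveI := Fintype.ofFinite (Cl z a)
  set R := Cl z a
  set E := {p : R × R // ¬ Odd (orderOf (p.1.1 * p.2.1))}
  have hsum : Nat.card (OP z a) + Nat.card E = Nat.card R ^ 2 := by
    rw [sq, ← Nat.card_prod, ← Nat.card_sum]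
    exact Nat.card_congr (Equiv.sumCompl fun p : R × R => Odd (orderOf (p.1.1 * p.2.1)))
  have hEpos : 0 < Nat.card E := by
    have hzR : IsConj z w ∧ w * a = a * w := by
      obtain ⟨n, -, -, e⟩ := D.moves_trans hA ha haB hmv hz hz1 hw hw1
      exact ⟨isConj_iff.2 ⟨n, e⟩, comm_of_sq D.eA hw.1 ha⟩
    haveI : Nonempty E := ⟨⟨(⟨z, IsConj.refl z, comm_of_sq D.eA hz.1 ha⟩, ⟨w, hzR⟩), fun h => by
      have h2 : z * w ≠ 1 := fun e => hzw (by
        rw [← inv_eq_of_sq (D.eA z hz.1)]; exact inv_eq_of_mul_eq_one_right e)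
      exact h2 (eq_one_of_sq_odd (D.eA _ (mul_mem hz.1 hw.1)) h)⟩⟩
    exact Nat.card_pos
  have hopos : 0 < Nat.card (Oc z ⊓ centralizer ({a} : Set G) ⊓ centralizer ({w} : Set G) : Subgroup G) := Nat.card_pos
  rw [hy, hyw] at hq hqe
  rw [hy] at hcl
  rw [← hcl, ← hor] at hq hqe
  set o2 := Nat.card (Oc z ⊓ centralizer ({a} : Set G) ⊓ centralizer ({w} : Set G) : Subgroup G)
  set r := Nat.card {y : G // ∃ o ∈ Oc z ⊓ centralizer ({a} : Set G), o * w * o⁻¹ = y}
  set ν := Nat.card R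
  set P := Nat.card (OP z a)
  set e := Nat.card E
  have hr : 0 < r := by
    haveI : Nonempty {y : G // ∃ o ∈ Oc z ⊓ centralizer ({a} : Set G), o * w * o⁻¹ = y} :=
      ⟨⟨w, 1, one_mem _, by group⟩⟩
    exact Nat.card_pos
  have hK : 0 < 16 ^ 3 * r * o2 ^ 3 := by positivity
  have hν : 3 * r ^ 2 ≤ ν := by
    refine Nat.le_of_mul_le_mul_left ?_ hK
    calc 16 ^ 3 * r * o2 ^ 3 * (3 * r ^ 2) = 3 * (16 * (r * o2)) ^ 3 := by ring
      _ ≤ ν * (16 * (r * o2)) * (16 * o2) ^ 2 := hq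
      _ = _ := by ring
  refine ⟨?_, by omega, fun h => hqe ?_⟩
  · have : 3 * e ≤ 2 * ν ^ 2 := by
      calc 3 * e ≤ 3 * (ν * (2 * r ^ 2)) := Nat.mul_le_mul_left 3 he
        _ = 2 * ν * (3 * r ^ 2) := by ring
        _ ≤ 2 * ν * ν := Nat.mul_le_mul_left _ hν
        _ = _ := by ring
    omega
  · have h3 : 2 * ν * ν ≤ 2 * ν * (3 * r ^ 2) := by
      calc 2 * ν * ν = 3 * e := by rw [mul_assoc, ← sq]; omega
        _ ≤ 3 * (ν * (2 * r ^ 2)) := Nat.mul_le_mul_left 3 he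
        _ = _ := by ring
    have hν' : ν = 3 * r ^ 2 := le_antisymm (Nat.le_of_mul_le_mul_left h3 (by
      have : 0 < r ^ 2 := by positivity
      omega)) hν
    rw [hν']; ring

/-- The pairs from two different classes outside the centre. -/
theorem count_ab (hA : ¬ Fus A B) (hB : ¬ Fus B A) {a b z : G} (ha : a ∈ A) (haB : a ∉ B) (hmv : Moves A B a)
    (hb : b ∈ B) (hz : z ∈ A ⊓ B) (hz1 : z ≠ 1) (hab : b * a * b⁻¹ = a * z) :
    Nat.card {t : G // IsConj z t} * Nat.card (centralizer ({z} : Set G)) =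
      Nat.card (Cl z a) * Nat.card {y : G // ∃ h ∈ centralizer ({b} : Set G), h * z * h⁻¹ = y} *
        (64 * Nat.card (Oc z)) := by
  classical
  have hbA : b ∉ A := fun h => hz1 (by
    rw [comm_of_sq D.eA h ha, mul_inv_cancel_right] at hab
    exact mul_eq_left.1 hab.symm)
  have ha1 : a ≠ 1 := fun e => haB (e ▸ one_mem B)
  have hb1 : b ≠ 1 := fun e => hbA (e ▸ one_mem A)
  have hab' : a * b * (a * b) = z := by
    have e : b * a * b = a * z := by rwa [inv_eq_of_sq (D.eB b hb)] at hab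
    rw [show a * b * (a * b) = a * (b * a * b) by group, e, ← mul_assoc, D.eA a ha, one_mul]
  obtain ⟨htr, -⟩ := D.card_cl_moving hA ha haB hmv hz hz1
  choose cc hcca hccz using htr
  set K := {y : G // IsConj b y}
  have hord : ∀ y : K, orderOf y.1 = 2 := fun y => by
    obtain ⟨g, hg⟩ := isConj_iff.1 y.2
    rw [← hg, Invol.orderOf_conj_eq, order_two (D.eB b hb) hb1]
  have hev : ∀ y : K, Even (orderOf (a * y.1)) := fun y => by
    rw [← Nat.not_odd_iff_even]
    exact fun h => D.not_cross hA hB ha haB hb hbA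
      ((Invol.isConj_of_odd (D.orderA ha ha1) (hord y) h).trans y.2.symm)
  have hhalfR : ∀ y : K, IsConj z ((a * y.1) ^ (orderOf (a * y.1) / 2)) ∧
      (a * y.1) ^ (orderOf (a * y.1) / 2) * a = a * (a * y.1) ^ (orderOf (a * y.1) / 2) := by
    intro y
    obtain ⟨hi, hia, hiy⟩ := Invol.half_props (D.orderA ha ha1) (hord y) (hev y)
    set i := (a * y.1) ^ (orderOf (a * y.1) / 2)
    refine ⟨?_, hia.eq⟩
    obtain ⟨P, hP⟩ := D.sylowA hA ha haB
    obtain ⟨c, hc⟩ := exists_conj_mem P (x := (⟨i, mem_centralizer_singleton_iff.2 hia.eq⟩ : centralizer ({a} : Set G)))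
      (Subtype.ext (Invol.mul_self_eq_one hi))
    rw [hP, mem_subgroupOf] at hc
    change (c : G) * i * (c : G)⁻¹ ∈ A at hc
    obtain ⟨g, hg⟩ := isConj_iff.1 y.2.symm
    obtain ⟨Q, hQ⟩ := D.symm.sylowA hB hb hbA
    obtain ⟨d, hd⟩ := exists_conj_mem Q (x := (⟨g * i * g⁻¹, mem_centralizer_singleton_iff.2 (by
      rw [← hg, show g * i * g⁻¹ * (g * y.1 * g⁻¹) = g * (i * y.1) * g⁻¹ by group, hiy.eq]; group)⟩ :
        centralizer ({b} : Set G))) (Subtype.ext (conj_sq _ _ (Invol.mul_self_eq_one hi)))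
    rw [hQ, mem_subgroupOf] at hd
    change (d : G) * (g * i * g⁻¹) * (d : G)⁻¹ ∈ B at hd
    set i' := (c : G) * i * (c : G)⁻¹
    have hconj : IsConj i' ((d : G) * (g * i * g⁻¹) * (d : G)⁻¹) :=
      (isConj_iff.2 ⟨(c : G), rfl⟩ : IsConj i i').symm.trans (isConj_iff.2 ⟨(d : G) * g, by group⟩)
    have hi'Z : i' ∈ A ⊓ B := by
      refine mem_inf.2 ⟨hc, ?_⟩
      by_contra hiB
      by_cases hdA : (d : G) * (g * i * g⁻¹) * (d : G)⁻¹ ∈ A
      · exact hA ⟨i', hc, hiB, _, mem_inf.2 ⟨hdA, hd⟩, hconj⟩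
      · exact D.not_cross hA hB hc hiB hd hdA hconj
    obtain ⟨n, -, -, e⟩ := D.moves_trans hA ha haB hmv hz hz1 hi'Z fun e => Invol.ne_one hi (conj_eq_one_iff.1 e)
    exact (isConj_iff.2 ⟨n, e⟩).trans (isConj_iff.2 ⟨(c : G), rfl⟩).symm
  let ι : K → Cl z a := fun y => ⟨_, hhalfR y⟩
  set M := {y : K // (a * y.1) ^ (orderOf (a * y.1) / 2) = z}
  -- all fibres are translates
  have hKM : Nat.card K = Nat.card (Cl z a) * Nat.card M := by
    have hmove : ∀ (g : G) (y : K), g * a = a * g → IsConj b (g * y.1 * g⁻¹) ∧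
        (a * (g * y.1 * g⁻¹)) ^ (orderOf (a * (g * y.1 * g⁻¹)) / 2) =
          g * (a * y.1) ^ (orderOf (a * y.1) / 2) * g⁻¹ := by
      intro g y hg
      refine ⟨y.2.trans (isConj_iff.2 ⟨g, rfl⟩), ?_⟩
      have e : a * (g * y.1 * g⁻¹) = g * (a * y.1) * g⁻¹ := by
        rw [← mul_assoc, ← mul_assoc, ← hg]; group
      rw [e, Invol.orderOf_conj_eq, conj_pow]
    let f : K → Cl z a × M := fun y => (ι y, ⟨⟨_, (hmove (cc (ι y)) y (hcca _)).1⟩,
      (hmove (cc (ι y)) y (hcca _)).2.trans (hccz (ι y))⟩)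
    have hf : Function.Bijective f := by
      constructor
      · intro y y' e
        have e1 : ι y = ι y' := congrArg Prod.fst e
        have e2 : cc (ι y) * y.1 * (cc (ι y))⁻¹ = cc (ι y') * y'.1 * (cc (ι y'))⁻¹ :=
          congrArg (fun p : Cl z a × M => p.2.1.1) e
        rw [← e1] at e2
        exact Subtype.ext (mul_left_cancel (mul_right_cancel e2))
      · rintro ⟨i, ⟨y, hy⟩⟩
        have hinv : (cc i)⁻¹ * a = a * (cc i)⁻¹ := ((show Commute (cc i) a from hcca i).inv_left).eq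
        obtain ⟨h1, h2⟩ := hmove (cc i)⁻¹ y hinv
        refine ⟨⟨_, h1⟩, ?_⟩
        have e : ι ⟨_, h1⟩ = i := Subtype.ext (by
          show (a * ((cc i)⁻¹ * y.1 * (cc i)⁻¹⁻¹)) ^ _ = i.1
          rw [h2, hy]
          conv_lhs => rw [← hccz i]
          group)
        refine Prod.ext e (Subtype.ext (Subtype.ext ?_))
        show cc (ι ⟨_, h1⟩) * ((cc i)⁻¹ * y.1 * (cc i)⁻¹⁻¹) * (cc (ι ⟨_, h1⟩))⁻¹ = y.1
        rw [e]; group
    rw [Nat.card_eq_of_bijective f hf, Nat.card_prod]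
  -- the fibre over `z`
  haveI : (Cfsg.oddCore (centralizer ({z} : Set G))).Normal := ocore_normal
  set φ := QuotientGroup.mk' (Cfsg.oddCore (centralizer ({z} : Set G)))
  have hcz : ∀ x ∈ (S : Subgroup G), x * z = z * x := fun x hx => D.center_comm hz hx
  have hsqz : ∀ (o : G), o ∈ Oc z → ∀ b' ∈ B, a * (o * b' * o⁻¹) * (a * (o * b' * o⁻¹)) * (a * b' * (a * b'))⁻¹ ∈ Oc z := by
    intro o ho b' hb'
    set A' : centralizer ({z} : Set G) := ⟨a, D.le_cent hz (D.hA ha)⟩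
    set B' : centralizer ({z} : Set G) := ⟨b', D.le_cent hz (D.hB hb')⟩
    set O' : centralizer ({z} : Set G) := ⟨o, Oc_le z ho⟩
    have h := (mk_eq_one_iff (A' * (O' * B' * O'⁻¹) * (A' * (O' * B' * O'⁻¹)) * (A' * B' * (A' * B'))⁻¹)).1 (by
      simp only [map_mul, map_inv, (mk_eq_one_iff O').2 ho, one_mul, inv_one, mul_one, mul_inv_cancel])
    exact h
  have hzO : z ∉ Oc z := fun h => hz1 (inf_eq_bot_of_odd (Oc_odd z) S.2 h (D.z_le_S hz))
  let P := {y : G // ∃ o ∈ Oc z, o * b * o⁻¹ = y}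
  choose av hav havc using fun v : (A ⊓ B : Subgroup G) => D.symm.exists_comm hb hbA ((inf_comm A B).le v.2)
  have hmem : ∀ (v : (A ⊓ B : Subgroup G)) (s : P), IsConj b (av v * s.1 * (av v)⁻¹) ∧
      ∃ o ∈ Oc z, o * (b * v) * o⁻¹ = av v * s.1 * (av v)⁻¹ := by
    intro v s
    obtain ⟨o, ho, hs⟩ := s.2
    refine ⟨(isConj_iff.2 ⟨av v * o, by rw [← hs]; group⟩), av v * o * (av v)⁻¹,
      conj_mem_of_normalizer (cent_le_normalizer_Oc z (D.le_cent hz (D.hA (hav v)))) ho, ?_⟩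
    rw [← hs, ← havc v]; group
  have hM : ∀ (v : (A ⊓ B : Subgroup G)) (s : P),
      (a * (av v * s.1 * (av v)⁻¹)) ^ (orderOf (a * (av v * s.1 * (av v)⁻¹)) / 2) = z := by
    intro v s
    obtain ⟨hc, o, ho, e⟩ := hmem v s
    rw [← e]
    have hbv : b * v ∈ B := mul_mem hb v.2.2
    have h := hsqz o ho (b * v) hbv
    have hsq : a * (b * v) * (a * (b * v)) = z := by
      rw [show a * (b * v) * (a * (b * v)) = a * b * (v * (a * b)) * v by group,
        D.cen v v.2 (a * b) (mul_mem (D.hA ha) (D.hB hb)), show a * b * (a * b * v) * v = a * b * (a * b) * (v * v) by group,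
        D.eA v v.2.1, mul_one, hab']
    rw [hsq, inv_eq_of_sq (D.eA z hz.1)] at h
    have hoz : (o * (b * v) * o⁻¹) * z = z * (o * (b * v) * o⁻¹) :=
      (((show Commute o z from Oc_comm ho).mul_left (hcz _ (D.hB hbv))).mul_left (show Commute o z from Oc_comm ho).inv_left).eq
    obtain ⟨he, hh⟩ := half_mod (hcz a (D.hA ha)) hoz rfl (D.eA z hz.1) hzO h
    have h2 : orderOf (o * (b * v) * o⁻¹) = 2 := by rw [e]; exact hord ⟨_, hc⟩
    obtain ⟨hi, -, -⟩ := Invol.half_props (D.orderA ha ha1) h2 he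
    set i := (a * (o * (b * v) * o⁻¹)) ^ (orderOf (a * (o * (b * v) * o⁻¹)) / 2)
    have hiz : Commute i z := Commute.pow_left (Commute.mul_left (hcz a (D.hA ha)) hoz) _
    have h3 : i * z = 1 := eq_one_of_sq_odd (by
      rw [show i * z * (i * z) = i * (z * i) * z by group, ← hiz.eq, ← mul_assoc i i z, Invol.mul_self_eq_one hi,
        one_mul, D.eA z hz.1]) (odd_orderOf_of_mem (Oc_odd z) hh)
    exact (eq_inv_of_mul_eq_one_left h3).trans (inv_eq_of_sq (D.eA z hz.1))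
  let f : (A ⊓ B : Subgroup G) × P → M := fun p => ⟨⟨_, (hmem p.1 p.2).1⟩, hM p.1 p.2⟩
  have hf : Function.Bijective f := by
    constructor
    · rintro ⟨v, s⟩ ⟨v', s'⟩ e
      have e' : av v * s.1 * (av v)⁻¹ = av v' * s'.1 * (av v')⁻¹ := congrArg (fun m : M => m.1.1) e
      obtain ⟨-, o, ho, h1⟩ := hmem v s
      obtain ⟨-, o', ho', h2⟩ := hmem v' s'
      have h3 : φ ⟨b * v, D.le_cent hz (mul_mem (D.hB hb) (D.z_le_S v.2))⟩ =
          φ ⟨b * v', D.le_cent hz (mul_mem (D.hB hb) (D.z_le_S v'.2))⟩ := by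
        have h4 : (⟨o, Oc_le z ho⟩ : centralizer ({z} : Set G)) *
            ⟨b * v, D.le_cent hz (mul_mem (D.hB hb) (D.z_le_S v.2))⟩ * (⟨o, Oc_le z ho⟩ : centralizer ({z} : Set G))⁻¹ =
            (⟨o', Oc_le z ho'⟩ : centralizer ({z} : Set G)) *
            ⟨b * v', D.le_cent hz (mul_mem (D.hB hb) (D.z_le_S v'.2))⟩ * (⟨o', Oc_le z ho'⟩ : centralizer ({z} : Set G))⁻¹ :=
          Subtype.ext (h1.trans (e'.trans h2.symm))
        have h5 := congrArg φ h4
        have ho1 : φ ⟨o, Oc_le z ho⟩ = 1 := (mk_eq_one_iff _).2 ho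
        have ho1' : φ ⟨o', Oc_le z ho'⟩ = 1 := (mk_eq_one_iff _).2 ho'
        simpa only [map_mul, map_inv, ho1, ho1', one_mul, inv_one, mul_one] using h5
      have h6 : (b * v)⁻¹ * (b * v') ∈ Oc z := by
        have := (mk_eq_one_iff ((⟨b * v, D.le_cent hz (mul_mem (D.hB hb) (D.z_le_S v.2))⟩ : centralizer ({z} : Set G))⁻¹ *
          ⟨b * v', D.le_cent hz (mul_mem (D.hB hb) (D.z_le_S v'.2))⟩)).1 (by rw [map_mul, map_inv, h3, inv_mul_cancel])
        simpa using this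
      have hvv : v = v' := Subtype.ext (mul_left_cancel (inv_mul_eq_one.1 (inf_eq_bot_of_odd (Oc_odd z) S.2 h6
        (mul_mem (inv_mem (mul_mem (D.hB hb) (D.z_le_S v.2))) (mul_mem (D.hB hb) (D.z_le_S v'.2))))))
      subst hvv
      exact Prod.ext rfl (Subtype.ext (mul_left_cancel (mul_right_cancel e')))
    · rintro ⟨⟨y, hy⟩, hyz⟩
      obtain ⟨hi, hia, hiy⟩ := Invol.half_props (D.orderA ha ha1) (hord ⟨y, hy⟩) (hev ⟨y, hy⟩)
      simp only [hyz] at hiy hia
      obtain ⟨o, ho, s, hs, hs2, hys, e⟩ := D.cz_invol hz hz1 hiy.eq.symm (Invol.mul_self_eq_one (hord ⟨y, hy⟩))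
      have hsB : s ∈ B ∧ s ∉ A := by
        have hbs : IsConj b s := hy.trans hys
        rcases D.inv s hs hs2 with h | h
        · exfalso
          by_cases hsB : s ∈ B
          · exact hB ⟨b, hb, hbA, s, mem_inf.2 ⟨hsB, h⟩, hbs⟩
          · exact D.not_cross hA hB h hsB hb hbA hbs.symm
        · exact ⟨h, fun hsA => hB ⟨b, hb, hbA, s, mem_inf.2 ⟨h, hsA⟩, hbs⟩⟩
      set v := a * s * (a * s) with hvdef
      have hvZ : v ∈ A ⊓ B := by
        have := D.comm_mem ha hsB.1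
        rwa [inv_eq_of_sq (D.eA a ha), inv_eq_of_sq hs2, mul_assoc (a * s) a s] at this
      have hv1 : v ≠ 1 := by
        intro h1
        refine hsB.2 (D.selfA a ha haB s hsB.1 ?_)
        rw [← inv_eq_of_mul_eq_one_right h1, mul_inv_rev, inv_eq_of_sq (D.eA a ha), inv_eq_of_sq hs2]
      have hvO : v ∉ Oc z := fun h => hv1 (inf_eq_bot_of_odd (Oc_odd z) S.2 h (D.z_le_S hvZ))
      have h := hsqz o ho s hsB.1
      rw [← hvdef, inv_eq_of_sq (D.eA v hvZ.1), e] at h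
      obtain ⟨-, hh⟩ := half_mod (hcz a (D.hA ha)) hiy.eq.symm (hcz v (D.z_le_S hvZ)) (D.eA v hvZ.1) hvO h
      simp only at hyz
      rw [hyz] at hh
      have hvz : z = v := by
        have := inf_eq_bot_of_odd (Oc_odd z) S.2 hh (mul_mem (D.z_le_S hz) (D.z_le_S hvZ))
        rw [← inv_eq_of_sq (D.eA v hvZ.1)]
        exact eq_inv_of_mul_eq_one_left this
      -- `s` lies in the coset of `b`
      have hbs : b⁻¹ * s ∈ A ⊓ B := by
        refine mem_inf.2 ⟨D.selfA a ha haB _ (mul_mem (inv_mem hb) hsB.1) ?_, mul_mem (inv_mem hb) hsB.1⟩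
        have e1 : b * a * b = s * a * s := by
          have : a * b * (a * b) = a * s * (a * s) := hab'.trans hvz
          simpa [mul_assoc] using this
        rw [inv_eq_of_sq (D.eB b hb)]
        calc a * (b * s) = b * (b * a * b) * s := by rw [← mul_assoc b, ← mul_assoc b, D.eB b hb]; group
          _ = b * (s * a * s) * s := by rw [e1]
          _ = b * s * a * (s * s) := by group
          _ = b * s * a := by rw [hs2, mul_one]
      set v₀ : (A ⊓ B : Subgroup G) := ⟨b⁻¹ * s, hbs⟩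
      have e2 : s = av v₀ * b * (av v₀)⁻¹ := by rw [havc v₀]; show s = b * (b⁻¹ * s); group
      refine ⟨(v₀, ⟨(av v₀)⁻¹ * o * av v₀ * b * ((av v₀)⁻¹ * o * av v₀)⁻¹, (av v₀)⁻¹ * o * av v₀, ?_, rfl⟩), ?_⟩
      · simpa using conj_mem_of_normalizer (cent_le_normalizer_Oc z (D.le_cent hz (D.hA (inv_mem (hav v₀))))) ho
      · refine Subtype.ext (Subtype.ext ?_)
        show av v₀ * ((av v₀)⁻¹ * o * av v₀ * b * ((av v₀)⁻¹ * o * av v₀)⁻¹) * (av v₀)⁻¹ = y
        rw [← e, e2]; group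
  have hMcard : Nat.card M = 4 * Nat.card P := by rw [← Nat.card_eq_of_bijective f hf, Nat.card_prod, D.cI]
  have h1 := card_isConj b
  have h2 := card_isConj z
  have h3 := card_orbit (centralizer ({b} : Set G)) z
  have h4 := D.symm.card_cent_az' ((inf_comm A B).le hz) hz1 hb hbA
  have h5 : Nat.card P * Nat.card (Oc z ⊓ centralizer ({b} : Set G) : Subgroup G) = Nat.card (Oc z) :=
    card_orbit (Oc z) b
  rw [h4] at h3
  change Nat.card K * _ = _ at h1
  rw [hKM, hMcard, ← h3] at h1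
  rw [h2, ← h1, ← h5]
  ring

/-- Pairs in the centralizer of an involution with trivial automizer. -/
theorem count_nonmoving (hA : ¬ Fus A B) {a z : G} (ha : a ∈ A) (haB : a ∉ B)
    (hnil : ∀ g ∈ centralizer ({a} : Set G), ∃ o ∈ Oc a, ∃ x ∈ A, g = o * x)
    (hz : z ∈ A ⊓ B) (hz1 : z ≠ 1) (hall : ∀ w ∈ A ⊓ B, w ≠ 1 → IsConj z w)
    [Fintype {w : (A ⊓ B : Subgroup G) // w ≠ 1}] :
    Nat.card (OP z a) = ∑ w : {w : (A ⊓ B : Subgroup G) // w ≠ 1},
      Nat.card {y : G // ∃ h ∈ centralizer ({a} : Set G), h * ((w : (A ⊓ B : Subgroup G)) : G) * h⁻¹ = y} ^ 2 := by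
  classical
  haveI : (Cfsg.oddCore (centralizer ({a} : Set G))).Normal := ocore_normal
  set φ := QuotientGroup.mk' (Cfsg.oddCore (centralizer ({a} : Set G)))
  let W := {w : (A ⊓ B : Subgroup G) // w ≠ 1}
  let orb : W → Type _ := fun w =>
    {y : G // ∃ h ∈ centralizer ({a} : Set G), h * ((w : (A ⊓ B : Subgroup G)) : G) * h⁻¹ = y}
  have haC : A ≤ centralizer ({a} : Set G) := fun x hx => mem_centralizer_singleton_iff.2 (comm_of_sq D.eA hx ha)
  have hshape : ∀ (w : W) (y : orb w), ∃ o ∈ Oc a, o * ((w : (A ⊓ B : Subgroup G)) : G) * o⁻¹ = y.1 := by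
    intro w y
    obtain ⟨h, hh, e⟩ := y.2
    obtain ⟨o, ho, x, hx, rfl⟩ := hnil h hh
    refine ⟨o, ho, ?_⟩
    rw [← e, show o * x * (w : (A ⊓ B : Subgroup G)).1 * (o * x)⁻¹ = o * (x * (w : (A ⊓ B : Subgroup G)).1 * x⁻¹) * o⁻¹ by group,
      comm_of_sq D.eA hx (w : (A ⊓ B : Subgroup G)).2.1, mul_inv_cancel_right]
  have hcl : ∀ (w : W) (y : orb w), IsConj z y.1 ∧ y.1 * a = a * y.1 := by
    intro w y
    obtain ⟨h, hh, e⟩ := y.2
    refine ⟨(hall _ (w : (A ⊓ B : Subgroup G)).2 fun e' => w.2 (Subtype.ext e')).trans (isConj_iff.2 ⟨h, e⟩), ?_⟩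
    rw [← e]
    exact mem_centralizer_singleton_iff.1 (mul_mem (mul_mem hh (haC (w : (A ⊓ B : Subgroup G)).2.1)) (inv_mem hh))
  have hmod : ∀ (w w' : W) (y : orb w) (y' : orb w'),
      φ ⟨y.1 * y'.1, mem_centralizer_singleton_iff.2 ((show Commute y.1 a from (hcl w y).2).mul_left (hcl w' y').2).eq⟩ =
        φ ⟨((w : (A ⊓ B : Subgroup G)) : G) * (w' : (A ⊓ B : Subgroup G)),
          haC (mul_mem (w : (A ⊓ B : Subgroup G)).2.1 (w' : (A ⊓ B : Subgroup G)).2.1)⟩ := by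
    intro w w' y y'
    obtain ⟨o, ho, e⟩ := hshape w y
    obtain ⟨o', ho', e'⟩ := hshape w' y'
    have h : (⟨y.1 * y'.1, mem_centralizer_singleton_iff.2 ((show Commute y.1 a from (hcl w y).2).mul_left (hcl w' y').2).eq⟩ :
        centralizer ({a} : Set G)) = ⟨o, Oc_le a ho⟩ * ⟨_, haC (w : (A ⊓ B : Subgroup G)).2.1⟩ * ⟨o, Oc_le a ho⟩⁻¹ *
          (⟨o', Oc_le a ho'⟩ * ⟨_, haC (w' : (A ⊓ B : Subgroup G)).2.1⟩ * ⟨o', Oc_le a ho'⟩⁻¹) :=
      Subtype.ext (by push_cast; rw [e, e'])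
    rw [h]
    have ho1 : φ ⟨o, Oc_le a ho⟩ = 1 := (mk_eq_one_iff _).2 ho
    have ho1' : φ ⟨o', Oc_le a ho'⟩ = 1 := (mk_eq_one_iff _).2 ho'
    rw [map_mul, map_mul, map_mul, map_mul, map_mul, map_inv, map_inv, ho1, ho1', one_mul, one_mul, inv_one, mul_one,
      mul_one]
    rw [← map_mul]
    rfl
  -- equal labels exactly when the product is odd
  have hodd : ∀ (w w' : W) (y : orb w) (y' : orb w'), Odd (orderOf (y.1 * y'.1)) → w = w' := by
    intro w w' y y' h
    by_contra hne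
    set p := ((w : (A ⊓ B : Subgroup G)) : G) * (w' : (A ⊓ B : Subgroup G))
    have hp : p ∈ A := mul_mem (w : (A ⊓ B : Subgroup G)).2.1 (w' : (A ⊓ B : Subgroup G)).2.1
    have h1 : φ ⟨p, haC hp⟩ = 1 := by
      have hsq : φ ⟨p, haC hp⟩ * φ ⟨p, haC hp⟩ = 1 := by
        rw [← map_mul, show (⟨p, haC hp⟩ : centralizer ({a} : Set G)) * ⟨p, haC hp⟩ = 1 from Subtype.ext (D.eA p hp),
          map_one]
      refine eq_one_of_sq_odd hsq ?_
      rw [← hmod w w' y y']
      refine Odd.of_dvd_nat ?_ (orderOf_map_dvd φ _)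
      rwa [← orderOf_coe]
    have h2 := inf_eq_bot_of_odd (Oc_odd a) (isPGroup_of_sq D.eA) ((mk_eq_one_iff _).1 h1) hp
    exact hne (Subtype.ext (Subtype.ext ((eq_inv_of_mul_eq_one_left h2).trans
      (inv_eq_of_sq (D.eA _ (w' : (A ⊓ B : Subgroup G)).2.1)))))
  have hsame : ∀ (w : W) (y y' : orb w), Odd (orderOf (y.1 * y'.1)) := by
    intro w y y'
    have hp : ((w : (A ⊓ B : Subgroup G)) : G) * (w : (A ⊓ B : Subgroup G)) = 1 := D.eA _ (w : (A ⊓ B : Subgroup G)).2.1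
    have h := hmod w w y y'
    rw [show (⟨_, haC (mul_mem (w : (A ⊓ B : Subgroup G)).2.1 (w : (A ⊓ B : Subgroup G)).2.1)⟩ :
      centralizer ({a} : Set G)) = 1 from Subtype.ext hp, map_one] at h
    exact odd_orderOf_of_mem (Oc_odd a) ((mk_eq_one_iff _).1 h)
  have hlabel : ∀ t : Cl z a, ∃ w : W, ∃ y : orb w, y.1 = t.1 := by
    intro t
    obtain ⟨c, hc, hcw, hcw1⟩ := D.cent_into hA ha haB hz hz1 t.2.2 t.2.1
    refine ⟨⟨⟨_, hcw⟩, fun e => hcw1 (congrArg Subtype.val e)⟩, ⟨t.1, c⁻¹,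
      inv_mem (mem_centralizer_singleton_iff.2 hc), ?_⟩, rfl⟩
    show c⁻¹ * (c * t.1 * c⁻¹) * c⁻¹⁻¹ = t.1
    group
  let f : (Σ w : W, orb w × orb w) → OP z a := fun p =>
    ⟨(⟨p.2.1.1, hcl _ p.2.1⟩, ⟨p.2.2.1, hcl _ p.2.2⟩), hsame p.1 p.2.1 p.2.2⟩
  have hf : Function.Bijective f := by
    constructor
    · rintro ⟨w, y, y'⟩ ⟨v, x, x'⟩ e
      have e1 : y.1 = x.1 := congrArg (fun p : OP z a => p.1.1.1) e
      have e2 : y'.1 = x'.1 := congrArg (fun p : OP z a => p.1.2.1) e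
      obtain rfl : w = v := hodd w v y x (by
        rw [← e1]; exact hsame w y y)
      rw [show y = x from Subtype.ext e1, show y' = x' from Subtype.ext e2]
    · rintro ⟨⟨t, t'⟩, h⟩
      obtain ⟨w, y, e⟩ := hlabel t
      obtain ⟨w', y', e'⟩ := hlabel t'
      obtain rfl : w = w' := hodd w w' y y' (by rw [e, e']; exact h)
      exact ⟨⟨w, y, y'⟩, Subtype.ext (Prod.ext (Subtype.ext e) (Subtype.ext e'))⟩
  rw [← Nat.card_eq_of_bijective f hf, Nat.card_sigma]
  exact Finset.sum_congr rfl fun w _ => by rw [Nat.card_prod, sq]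

theorem exists_h {z : G} (hz : z ∈ A ⊓ B) :
    ∃ h : ℕ, Odd h ∧ Nat.card (centralizer ({z} : Set G)) = h * (64 * Nat.card (Oc z)) := by
  have h1 : 64 ∣ Nat.card (centralizer ({z} : Set G)) := D.cS ▸ card_dvd_of_le (D.le_cent hz)
  have h2 : Nat.card (Oc z) ∣ Nat.card (centralizer ({z} : Set G)) := card_dvd_of_le (Oc_le z)
  obtain ⟨h, hh⟩ := Nat.Coprime.mul_dvd_of_dvd_of_dvd
    ((Nat.coprime_two_left.2 (Oc_odd z)).pow_left 6 : Nat.Coprime 64 (Nat.card (Oc z))) h1 h2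
  refine ⟨h, Nat.not_even_iff_odd.1 fun ⟨j, hj⟩ => card_two_part S D.cS ?_, by rw [hh, mul_comm]⟩
  refine dvd_trans ⟨j * Nat.card (Oc z), ?_⟩ (card_subgroup_dvd_card (centralizer ({z} : Set G)))
  rw [hh, hj]; ring

/-- The bound for a moving automizer is attained. -/
theorem moving_eq (hA : ¬ Fus A B) (hB : ¬ Fus B A) {a z : G} (ha : a ∈ A) (haB : a ∉ B) (hM : Moves A B a)
    (hz : z ∈ A ⊓ B) (hz1 : z ≠ 1) :
    (∀ g ∈ centralizer ({a} : Set G), g * z = z * g → Odd (orderOf g) → g ∈ Oc a) ∧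
      ∀ g ∈ centralizer ({a} : Set G), ∃ o ∈ Oc a, ∃ n ∈ normalizer (A : Set G), g = o * n := by
  classical
  obtain ⟨b, hb, hab⟩ := D.exists_comm ha haB hz
  have hbA : b ∉ A := fun h => hz1 (by
    rw [comm_of_sq D.eA h ha, mul_inv_cancel_right] at hab
    exact mul_eq_left.1 hab.symm)
  obtain ⟨h, hhodd, hC⟩ := D.exists_h hz
  have hq : 0 < 64 * Nat.card (Oc z) := by have : 0 < Nat.card (Oc z) := Nat.card_pos; omega
  set X := Nat.card {t : G // IsConj z t} with hX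
  have hXpos : 0 < X := by
    haveI : Nonempty {t : G // IsConj z t} := ⟨⟨z, IsConj.refl z⟩⟩
    exact Nat.card_pos
  obtain ⟨hle, hlt, heq⟩ := D.moving_bound hA hB ha haB hM hz hz1
  rw [← D.count_za hA hB ha haB hz hz1, ← hX] at hle hlt heq
  suffices h3 : 3 * X = Nat.card (Cl z a) ^ 2 from heq h3
  by_cases hmb : Moves B A b
  · have hzs : z ∈ B ⊓ A := (inf_comm A B).le hz
    obtain ⟨hle', hlt', -⟩ := D.symm.moving_bound hB hA hb hbA hmb hzs hz1
    rw [← D.symm.count_za hB hA hb hbA hzs hz1, ← hX] at hle' hlt'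
    have hab' := D.count_ab hA hB ha haB hM hb hz hz1 hab
    have hν' : Nat.card {y : G // ∃ k ∈ centralizer ({b} : Set G), k * z * k⁻¹ = y} = Nat.card (Cl z b) := by
      have h1 := (D.symm.card_cl_moving hB hb hbA hmb hzs hz1).2
      rw [← card_orbit (centralizer ({b} : Set G)) z] at h1
      exact (Nat.eq_of_mul_eq_mul_right Nat.card_pos h1).symm
    rw [← hX, hC, hν', ← mul_assoc] at hab'
    have e : X * h = Nat.card (Cl z a) * Nat.card (Cl z b) := Nat.eq_of_mul_eq_mul_right hq hab'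
    set ν := Nat.card (Cl z a)
    set ν' := Nat.card (Cl z b)
    have e2 : X ^ 2 * h ^ 2 = ν ^ 2 * ν' ^ 2 := by rw [← mul_pow, e, mul_pow]
    have h1lt : X ^ 2 * 1 < X ^ 2 * h ^ 2 := by
      rw [e2, mul_one, sq X]
      exact Nat.mul_lt_mul'' hlt hlt'
    have hh1 : h ≠ 1 := fun e' => by rw [e', one_pow] at h1lt; exact lt_irrefl _ h1lt
    have hh3 : 3 ≤ h := by obtain ⟨j, rfl⟩ := hhodd; omega
    refine le_antisymm ?_ hle
    refine Nat.le_of_mul_le_mul_right (a := 3 * X) (b := ν ^ 2) (c := 3 * X) ?_ (by omega)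
    calc 3 * X * (3 * X) = X ^ 2 * 3 ^ 2 := by ring
      _ ≤ X ^ 2 * h ^ 2 := Nat.mul_le_mul_left _ (Nat.pow_le_pow_left hh3 2)
      _ = ν ^ 2 * ν' ^ 2 := e2
      _ ≤ ν ^ 2 * (3 * X) := Nat.mul_le_mul_left _ hle'
  · have hnil := (D.symm.cent_nilpotent hB hb hbA (fun n' hn' hn'b => by
      rcases D.symm.act_dichotomy hB hb hbA hn' hn'b with h' | h'
      · exact h'
      · exact absurd ⟨n', hn', hn'b, h'⟩ hmb)).1
    haveI := Fintype.ofFinite {w : (B ⊓ A : Subgroup G) // w ≠ 1}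
    have hzall : ∀ w ∈ B ⊓ A, w ≠ 1 → IsConj z w := fun w hw hw1 => by
      obtain ⟨m, -, -, e⟩ := D.moves_trans hA ha haB hM hz hz1 ((inf_comm B A).le hw) hw1
      exact isConj_iff.2 ⟨m, e⟩
    have hsum := D.symm.count_nonmoving hB hb hbA hnil ((inf_comm A B).le hz) hz1 hzall
    rw [← D.symm.count_za hB hA hb hbA ((inf_comm A B).le hz) hz1, ← hX] at hsum
    -- the identity for every central involution
    have hterm : ∀ (w : G) (hw : w ∈ A ⊓ B) (hw1 : w ≠ 1) (a' : G), a' ∈ A → b * a' * b⁻¹ = a' * w → a' ∉ B →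
        Nat.card (Cl z a') ^ 2 ≤ 3 * X ∧
          X * h = Nat.card (Cl z a') * Nat.card {y : G // ∃ k ∈ centralizer ({b} : Set G), k * w * k⁻¹ = y} := by
      intro w hw hw1 a' ha' hab' ha'B
      have hM' := D.moves_all hA ha haB hM ha' ha'B
      obtain ⟨m, -, -, em⟩ := D.moves_trans hA ha haB hM hz hz1 hw hw1
      have hzw : IsConj z w := isConj_iff.2 ⟨m, em⟩
      have hcl : Nat.card (Cl w a') = Nat.card (Cl z a') := Nat.card_congr
        (Equiv.subtypeEquivRight fun t => and_congr_left fun _ => ⟨hzw.trans, hzw.symm.trans⟩)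
      have hXw : Nat.card {t : G // IsConj w t} = X := Nat.card_congr
        (Equiv.subtypeEquivRight fun t => ⟨hzw.trans, hzw.symm.trans⟩)
      have hb' := (D.moving_bound hA hB ha' ha'B hM' hz hz1).1
      rw [← D.count_za hA hB ha' ha'B hz hz1, ← hX] at hb'
      refine ⟨hb', ?_⟩
      have hid := D.count_ab hA hB ha' ha'B hM' hb hw hw1 hab'
      rw [← em, ← cj_centralizer, card_cj, ← cj_Oc, card_cj, hC, em, hXw, hcl, ← mul_assoc] at hid
      exact Nat.eq_of_mul_eq_mul_right hq hid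
    have hex : ∀ w : {w : (B ⊓ A : Subgroup G) // w ≠ 1}, ∃ a' ∈ A,
        b * a' * b⁻¹ = a' * ((w : (B ⊓ A : Subgroup G)) : G) ∧ a' ∉ B := by
      intro w
      have hw := (inf_comm B A).le (w : (B ⊓ A : Subgroup G)).2
      obtain ⟨a', ha', e⟩ := D.symm.exists_comm hb hbA (w : (B ⊓ A : Subgroup G)).2
      refine ⟨a', ha', ?_, fun ha'B => w.2 (Subtype.ext ?_)⟩
      · calc b * a' * b⁻¹ = b * (a' * b * a'⁻¹) * a' * (b * b)⁻¹ * (b * b * (b⁻¹ * b⁻¹)) := by
              rw [inv_eq_of_sq (D.eB b hb), D.eB b hb, inv_one, mul_one, mul_one, mul_one,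
                inv_eq_of_sq (D.eA a' ha')]
              simp only [mul_assoc, D.eA a' ha', mul_one]
          _ = b * (b * (w : (B ⊓ A : Subgroup G)).1) * a' := by
              rw [e, inv_eq_of_sq (D.eB b hb), D.eB b hb, inv_one, mul_one, mul_one, mul_one]
          _ = a' * (w : (B ⊓ A : Subgroup G)).1 := by
              rw [← mul_assoc b b, D.eB b hb, one_mul, comm_of_sq D.eA hw.1 ha']
      · rw [comm_of_sq D.eB ha'B hb, mul_inv_cancel_right] at e
        exact mul_eq_left.1 e.symm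
    choose av hav hav' havB using hex
    set ν' : {w : (B ⊓ A : Subgroup G) // w ≠ 1} → ℕ := fun w =>
      Nat.card {y : G // ∃ k ∈ centralizer ({b} : Set G), k * ((w : (B ⊓ A : Subgroup G)) : G) * k⁻¹ = y}
    have hbound : ∀ w, X * h ^ 2 ≤ 3 * ν' w ^ 2 := by
      intro w
      obtain ⟨h1, h2⟩ := hterm _ ((inf_comm B A).le (w : (B ⊓ A : Subgroup G)).2)
        (fun e => w.2 (Subtype.ext e)) _ (hav w) (hav' w) (havB w)
      refine Nat.le_of_mul_le_mul_left ?_ hXpos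
      calc X * (X * h ^ 2) = (X * h) ^ 2 := by ring
        _ = Nat.card (Cl z (av w)) ^ 2 * ν' w ^ 2 := by rw [h2, mul_pow]
        _ ≤ 3 * X * ν' w ^ 2 := Nat.mul_le_mul_right _ h1
        _ = X * (3 * ν' w ^ 2) := by ring
    have hcard3 : Fintype.card {w : (B ⊓ A : Subgroup G) // w ≠ 1} = 3 := by
      haveI := Fintype.ofFinite (B ⊓ A : Subgroup G)
      have h1 := Fintype.card_subtype_compl (fun w : (B ⊓ A : Subgroup G) => w = 1)
      rw [Fintype.card_subtype_eq, ← Nat.card_eq_fintype_card (α := (B ⊓ A : Subgroup G)), D.symm.cI] at h1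
      simp only [← Nat.card_eq_fintype_card] at h1 ⊢
      exact h1
    have htot : 3 * (X * h ^ 2) ≤ 3 * X := by
      calc 3 * (X * h ^ 2) = ∑ _w : {w : (B ⊓ A : Subgroup G) // w ≠ 1}, X * h ^ 2 := by
            rw [Finset.sum_const, Finset.card_univ, hcard3, smul_eq_mul]
        _ ≤ ∑ w, 3 * ν' w ^ 2 := Finset.sum_le_sum fun w _ => hbound w
        _ = 3 * X := by rw [← Finset.mul_sum, hsum]
    have hh1 : h = 1 := by
      have h2 : X * h ^ 2 ≤ X * 1 := by omega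
      have h3 := Nat.le_of_mul_le_mul_left h2 hXpos
      have h4 : h ≤ h ^ 2 := Nat.le_self_pow (by norm_num) h
      obtain ⟨j, rfl⟩ := hhodd
      omega
    -- equality in each term
    set w₀ : {w : (B ⊓ A : Subgroup G) // w ≠ 1} := ⟨⟨z, (inf_comm A B).le hz⟩, fun e => hz1 (congrArg Subtype.val e)⟩
    have hν₀ : 3 * ν' w₀ ^ 2 = X := by
      refine le_antisymm ?_ (by have := hbound w₀; rwa [hh1, one_pow, mul_one] at this)
      by_contra hlt'
      push Not at hlt'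
      have : ∑ _w : {w : (B ⊓ A : Subgroup G) // w ≠ 1}, X < ∑ w, 3 * ν' w ^ 2 :=
        Finset.sum_lt_sum (fun w _ => by have := hbound w; rwa [hh1, one_pow, mul_one] at this)
          ⟨w₀, Finset.mem_univ _, hlt'⟩
      rw [Finset.sum_const, Finset.card_univ, hcard3, smul_eq_mul, ← Finset.mul_sum, ← hsum] at this
      exact lt_irrefl _ this
    obtain ⟨-, h2⟩ := hterm z hz hz1 a ha hab haB
    rw [hh1, mul_one] at h2
    refine Nat.eq_of_mul_eq_mul_right (m := ν' w₀ ^ 2) (Nat.pos_of_ne_zero fun e => ?_) ?_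
    · rw [e, mul_zero] at hν₀
      omega
    · calc 3 * X * ν' w₀ ^ 2 = X * (3 * ν' w₀ ^ 2) := by ring
        _ = X * X := by rw [hν₀]
        _ = _ := by rw [← mul_pow, ← h2, sq]

/-- The centralizer of an involution of `A` outside the centre. -/
theorem cent_side (hA : ¬ Fus A B) (hB : ¬ Fus B A) {a : G} (ha : a ∈ A) (haB : a ∉ B) {g : G}
    (hg : g ∈ centralizer ({a} : Set G)) : ∃ o ∈ Oc a, ∃ n ∈ normalizer (A : Set G), g = o * n := by
  by_cases hmv : Moves A B a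
  · obtain ⟨z, hz, hz1⟩ := D.exists_zne
    exact (D.moving_eq hA hB ha haB hmv hz hz1).2 g hg
  · obtain ⟨o, ho, x, hx, e⟩ := (D.cent_nilpotent hA ha haB (fun n hn hna => by
      rcases D.act_dichotomy hA ha haB hn hna with h | h
      · exact h
      · exact absurd ⟨n, hn, hna, h⟩ hmv)).1 g hg
    exact ⟨o, ho, x, le_normalizer hx, e⟩

/-- Odd elements of `C(a) ∩ C(z)` lie in the core of `C(a)`. -/
theorem key_side (hA : ¬ Fus A B) (hB : ¬ Fus B A) {a z g : G} (ha : a ∈ A) (haB : a ∉ B)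
    (hz : z ∈ A ⊓ B) (hz1 : z ≠ 1) (hg : g ∈ centralizer ({a} : Set G)) (hgz : g * z = z * g)
    (hgo : Odd (orderOf g)) : g ∈ Oc a := by
  by_cases hmv : Moves A B a
  · exact (D.moving_eq hA hB ha haB hmv hz hz1).1 g hg hgz hgo
  · exact (D.cent_nilpotent hA ha haB (fun n hn hna => by
      rcases D.act_dichotomy hA ha haB hn hna with h | h
      · exact h
      · exact absurd ⟨n, hn, hna, h⟩ hmv)).2 g hg hgo

end Dat

end CfsgLib.SylL34
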