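import Cfsg.Agent.SylL34.Quot

/-!
Both sides fused, small centralizers: the incidence geometry of the conjugates of `A` and of `B`.
-/

set_option autoImplicit false
set_option linter.unusedSectionVars false
set_option linter.unusedSimpArgs false
set_option linter.style.haveILetI false

namespace CfsgLib.SylL34

open Subgroup

variable {G : Type*} [Group G] [Finite G]

/-- Being a conjugate of `A`. -/
def IsCj (A X : Subgroup G) : Prop := ∃ g : G, cj g A = X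

theorem IsCj.self (A : Subgroup G) : IsCj A A := ⟨1, cj_one A⟩

theorem IsCj.cj {A X : Subgroup G} (h : IsCj A X) (g : G) : IsCj A (cj g X) := by
  obtain ⟨k, rfl⟩ := h
  exact ⟨g * k, (cj_cj g k A).symm⟩

/-- Sharing an element other than `1`. -/
def Inc (X Y : Subgroup G) : Prop := ∃ x ∈ X, x ∈ Y ∧ x ≠ 1

theorem Inc.symm {X Y : Subgroup G} (h : Inc X Y) : Inc Y X := by
  obtain ⟨x, hX, hY, h1⟩ := h
  exact ⟨x, hY, hX, h1⟩

theorem Inc.cj {X Y : Subgroup G} (h : Inc X Y) (g : G) : Inc (cj g X) (cj g Y) := by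
  obtain ⟨x, hX, hY, h1⟩ := h
  exact ⟨g * x * g⁻¹, conj_mem_cj.2 hX, conj_mem_cj.2 hY, fun e => h1 (conj_eq_one_iff.1 e)⟩

theorem cj_inj {g : G} {X Y : Subgroup G} (h : cj g X = cj g Y) : X = Y := by
  rw [← cj_inv_cj g X, h, cj_inv_cj]

theorem cj_eq_iff {g : G} {X Y : Subgroup G} : cj g X = Y ↔ X = cj g⁻¹ Y :=
  ⟨fun h => by rw [← h, cj_inv_cj], fun h => by rw [h, cj_cj, mul_inv_cancel, cj_one]⟩

theorem cj_self {x : G} {X : Subgroup G} (h : x ∈ X) : cj x X = X := cj_of_mem_normalizer (le_normalizer h)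

/-- Two points on a common line. -/
def Coll (B X X' : Subgroup G) : Prop := ∃ Y, IsCj B Y ∧ Inc X Y ∧ Inc X' Y

theorem Coll.cj {B X X' : Subgroup G} (h : Coll B X X') (g : G) : Coll B (cj g X) (cj g X') := by
  obtain ⟨Y, hY, h1, h2⟩ := h
  exact ⟨_, hY.cj g, h1.cj g, h2.cj g⟩

/-- Both sides fused with small centralizers. -/
structure Two (S : Sylow 2 G) (A B : Subgroup G) : Prop where
  dat : Dat S A B
  fA : Fus A B
  fB : Fus B A
  small : Small S A B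

namespace Two

variable {S : Sylow 2 G} {A B : Subgroup G} (K : Two S A B)
include K

theorem symm : Two S B A := ⟨K.dat.symm, K.fB, K.fA, K.small.symm⟩

theorem centA_le {z : G} (hz : z ∈ A ⊓ B) (hz1 : z ≠ 1) :
    centralizer ({z} : Set G) ≤ normalizer (A : Set G) :=
  (K.small.cent z hz hz1).trans K.dat.normS_le

/-- A point is determined by any of its involutions. -/
theorem eq_base {X : Subgroup G} (hX : IsCj A X) {x : G} (hxA : x ∈ A) (hxX : x ∈ X) (hx1 : x ≠ 1) : X = A := by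
  obtain ⟨g, rfl⟩ := hX
  obtain ⟨z, hz, hz1⟩ := K.dat.exists_zne
  obtain ⟨m, hm, rfl⟩ := K.dat.exists_to K.fA hz hz1 hxA hx1
  rw [mem_cj] at hxX
  obtain ⟨n, hn, e⟩ := K.dat.exists_to K.fA hz hz1 hxX
    fun e => hx1 (conj_eq_one_iff.1 (show g⁻¹ * (m * z * m⁻¹) * g⁻¹⁻¹ = 1 by rwa [inv_inv]))
  have hc : m⁻¹ * g * n ∈ centralizer ({z} : Set G) := mem_centralizer_singleton_iff.2 (by
    calc m⁻¹ * g * n * z = m⁻¹ * g * (n * z * n⁻¹) * n := by group
      _ = m⁻¹ * g * (g⁻¹ * (m * z * m⁻¹) * g) * n := by rw [e]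
      _ = z * (m⁻¹ * g * n) := by group)
  have := mul_mem (mul_mem hm (K.centA_le hz hz1 hc)) (inv_mem hn)
  rw [show m * (m⁻¹ * g * n) * n⁻¹ = g by group] at this
  exact cj_of_mem_normalizer this

theorem point_unique {X X' : Subgroup G} (hX : IsCj A X) (hX' : IsCj A X') {x : G} (h : x ∈ X) (h' : x ∈ X')
    (hx1 : x ≠ 1) : X = X' := by
  obtain ⟨g, rfl⟩ := hX
  rw [mem_cj] at h
  have hne : g⁻¹ * x * g ≠ 1 := fun e => hx1 (conj_eq_one_iff.1
    (show g⁻¹ * x * g⁻¹⁻¹ = 1 by rwa [inv_inv]))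
  have := K.eq_base (hX'.cj g⁻¹) h (show g⁻¹ * x * g ∈ cj g⁻¹ X' by
    simpa using (conj_mem_cj (g := g⁻¹)).2 h') hne
  rw [cj_eq_iff, inv_inv] at this
  exact this.symm

theorem inc_base : Inc A B := by
  obtain ⟨z, hz, hz1⟩ := K.dat.exists_zne
  exact ⟨z, hz.1, hz.2, hz1⟩

/-- The flags form one orbit. -/
theorem flag {X Y : Subgroup G} (hX : IsCj A X) (hY : IsCj B Y) (h : Inc X Y) :
    ∃ g, cj g A = X ∧ cj g B = Y := by
  obtain ⟨g, rfl⟩ := hX
  obtain ⟨x, hxX, hxY, hx1⟩ := h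
  rw [mem_cj] at hxX
  obtain ⟨z, hz, hz1⟩ := K.dat.exists_zne
  obtain ⟨n, hn, e⟩ := K.dat.exists_to K.fA hz hz1 hxX fun e => hx1 (conj_eq_one_iff.1
    (show g⁻¹ * x * g⁻¹⁻¹ = 1 by rwa [inv_inv]))
  refine ⟨g * n, by rw [← cj_cj, cj_of_mem_normalizer hn], ?_⟩
  refine K.symm.point_unique ((IsCj.self B).cj _) hY (x := x) ?_ hxY hx1
  rw [mem_cj, show (g * n)⁻¹ * x * (g * n) = n⁻¹ * (g⁻¹ * x * g) * n by group, ← e]
  simpa [mul_assoc] using hz.2

theorem normAB {g : G} (hA : g ∈ normalizer (A : Set G)) (hB : g ∈ normalizer (B : Set G)) :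
    g ∈ normalizer ((S : Subgroup G) : Set G) := by
  refine mem_normalizer_of_conj_mem fun x hx => ?_
  obtain ⟨a, ha, b, hb, rfl⟩ := K.dat.decomp hx
  rw [show g * (a * b) * g⁻¹ = g * a * g⁻¹ * (g * b * g⁻¹) by group]
  exact mul_mem (K.dat.hA (conj_mem_of_normalizer hA ha)) (K.dat.hB (conj_mem_of_normalizer hB hb))

/-- Elements of a point fix the lines through it. -/
theorem fix_line {X Y : Subgroup G} (hX : IsCj A X) (hY : IsCj B Y) (h : Inc X Y) {x : G} (hx : x ∈ X) :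
    cj x Y = Y := by
  obtain ⟨g, rfl, rfl⟩ := K.flag hX hY h
  rw [mem_cj] at hx
  have h1 := cj_of_mem_normalizer (K.dat.symm.le_normA (K.dat.hA hx))
  conv_rhs => rw [← h1, cj_cj, show g * (g⁻¹ * x * g) = x * g by group, ← cj_cj]

/-- Elements of a line fix its points. -/
theorem fix_point {X Y : Subgroup G} (hX : IsCj A X) (hY : IsCj B Y) (h : Inc X Y) {y : G} (hy : y ∈ Y) :
    cj y X = X :=
  K.symm.fix_line hY hX h.symm hy

theorem regular_base {Y : Subgroup G} (hY : IsCj B Y) (h : Inc A Y) (hne : Y ≠ B) {b : G} (hb : b ∈ B)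
    (hfix : cj b Y = Y) : b ∈ A := by
  by_cases hb1 : b = 1
  · exact hb1 ▸ one_mem A
  obtain ⟨n, hnA, rfl⟩ := K.flag (IsCj.self A) hY h
  have hbb := K.dat.eB b hb
  have hnb : n⁻¹ * b * n ∈ normalizer ((S : Subgroup G) : Set G) := by
    refine K.normAB ?_ (mem_normalizer_of_cj ?_)
    · exact mul_mem (mul_mem (inv_mem (mem_normalizer_of_cj hnA)) (K.dat.le_normA (K.dat.hB hb)))
        (mem_normalizer_of_cj hnA)
    · rw [← cj_cj, ← cj_cj, hfix, cj_inv_cj]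
  have h2 : n⁻¹ * b * n * (n⁻¹ * b * n) = 1 := by simpa using conj_sq n⁻¹ b hbb
  rcases K.dat.inv _ (mem_of_two (k := 1) (by rw [pow_one, sq, h2]) hnb) h2 with h' | h'
  · rw [← mem_cj, hnA] at h'
    exact h'
  · exact absurd (K.symm.point_unique hY (IsCj.self B) (mem_cj.2 h') hb hb1) hne

theorem regular {X l m : Subgroup G} (hX : IsCj A X) (hl : IsCj B l) (hm : IsCj B m) (hXl : Inc X l)
    (hXm : Inc X m) (hne : m ≠ l) {b : G} (hb : b ∈ l) (hfix : cj b m = m) : b ∈ X := by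
  obtain ⟨g, rfl, rfl⟩ := K.flag hX hl hXl
  have hA' : Inc A (cj g⁻¹ m) := by simpa [cj_inv_cj] using hXm.cj g⁻¹
  rw [mem_cj] at hb ⊢
  refine K.regular_base (hm.cj g⁻¹) hA' (fun e => hne (cj_eq_iff.1 e |>.trans (by rw [inv_inv]))) hb ?_
  rw [cj_cj, show g⁻¹ * b * g * g⁻¹ = g⁻¹ * b by group, ← cj_cj, hfix]

/-- The lines through `A`. -/
abbrev Lns (_K : Two S A B) : Type _ := {Y : Subgroup G // IsCj B Y ∧ Inc A Y}

theorem card_inf {Y : Subgroup G} (hY : IsCj B Y) (h : Inc A Y) : Nat.card (A ⊓ Y : Subgroup G) = 4 := by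
  obtain ⟨n, hn, rfl⟩ := K.flag (IsCj.self A) hY h
  conv_lhs => rw [← hn]
  rw [cj, cj, ← map_inf _ _ _ (MulAut.conj n).injective]
  exact (card_map_of_injective (MulAut.conj n).injective).trans K.dat.cI

theorem card_lines : Nat.card K.Lns = 5 := by
  classical
  let f : (Σ Y : K.Lns, {x : (A ⊓ Y.1 : Subgroup G) // x ≠ 1}) → {x : A // x ≠ 1} := fun p =>
    ⟨⟨p.2.1, p.2.1.2.1⟩, fun e => p.2.2 (Subtype.ext (congrArg Subtype.val e :))⟩
  have hf : Function.Bijective f := by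
    constructor
    · rintro ⟨Y, ⟨x, hx⟩, hx1⟩ ⟨Y', ⟨x', hx'⟩, hx1'⟩ e
      obtain rfl : x = x' := congrArg (fun t : {x : A // x ≠ 1} => ((t : A) : G)) e
      obtain rfl : Y = Y' := Subtype.ext (K.symm.point_unique Y.2.1 Y'.2.1 hx.2 hx'.2
        fun e' => hx1 (Subtype.ext e'))
      rfl
    · rintro ⟨⟨x, hx⟩, hx1⟩
      obtain ⟨z, hz, hz1⟩ := K.dat.exists_zne
      obtain ⟨n, hn, rfl⟩ := K.dat.exists_to K.fA hz hz1 hx fun e => hx1 (Subtype.ext e)
      exact ⟨⟨⟨cj n B, (IsCj.self B).cj n, _, hx, conj_mem_cj.2 hz.2, fun e => hx1 (Subtype.ext e)⟩,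
        ⟨_, hx, conj_mem_cj.2 hz.2⟩, fun e => hx1 (Subtype.ext (congrArg Subtype.val e :))⟩, rfl⟩
  have h1 : ∀ H : Subgroup G, Nat.card {x : H // x ≠ 1} = Nat.card H - 1 := fun H => by
    haveI := Fintype.ofFinite H
    rw [Nat.card_eq_fintype_card, Fintype.card_subtype_compl, Fintype.card_subtype_eq,
      Nat.card_eq_fintype_card]
  have h := Nat.card_congr (Equiv.ofBijective f hf)
  rw [h1, K.dat.cA] at h
  haveI := Fintype.ofFinite K.Lns
  rw [Nat.card_sigma, Finset.sum_congr rfl (g := fun _ => 3) fun Y _ => by rw [h1, K.card_inf Y.2.1 Y.2.2],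
    Finset.sum_const, smul_eq_mul, Finset.card_univ, ← Nat.card_eq_fintype_card] at h
  omega

theorem trans_base {Y Y' : Subgroup G} (hY : IsCj B Y) (h : Inc A Y) (hne : Y ≠ B) (hY' : IsCj B Y')
    (h' : Inc A Y') (hne' : Y' ≠ B) : ∃ b ∈ B, cj b Y = Y' := by
  classical
  have hmem : ∀ b ∈ B, IsCj B (cj b Y) ∧ Inc A (cj b Y) ∧ cj b Y ≠ B := by
    intro b hb
    refine ⟨hY.cj b, ?_, fun e => hne (cj_inj (e.trans (cj_self hb).symm))⟩
    have := h.cj b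
    rwa [cj_of_mem_normalizer (K.dat.le_normA (K.dat.hB hb))] at this
  let f : B ⧸ A.subgroupOf B → {Y : K.Lns // Y.1 ≠ B} := fun q => Quotient.liftOn' q
    (fun b => ⟨⟨cj (b : G) Y, (hmem b b.2).1, (hmem b b.2).2.1⟩, (hmem b b.2).2.2⟩) fun b c hbc => by
      refine Subtype.ext (Subtype.ext ?_)
      have h1 : (b : G)⁻¹ * c ∈ A := (QuotientGroup.leftRel_apply (s := A.subgroupOf B)).1 hbc
      show cj (b : G) Y = cj (c : G) Y
      conv_lhs => rw [← K.fix_line (IsCj.self A) hY h h1, cj_cj, mul_inv_cancel_left]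
  have hf : Function.Injective f := by
    intro p q
    induction p using Quotient.inductionOn' with
    | h b =>
    induction q using Quotient.inductionOn' with
    | h c =>
    intro e
    have e' : cj (b : G) Y = cj (c : G) Y := congrArg (fun t : {Y : K.Lns // Y.1 ≠ B} => t.1.1) e
    refine QuotientGroup.eq.2 (K.regular_base hY h hne (mul_mem (inv_mem b.2) c.2) ?_)
    show cj ((b : G)⁻¹ * c) Y = Y
    rw [← cj_cj, ← e', cj_inv_cj]
  have hc : Nat.card {Y : K.Lns // Y.1 ≠ B} = 4 := by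
    haveI := Fintype.ofFinite K.Lns
    rw [Nat.card_congr (Equiv.subtypeEquivRight (q := fun Y : K.Lns => Y ≠ ⟨B, IsCj.self B, K.inc_base⟩)
      fun Y => not_congr ⟨fun e => Subtype.ext e, fun e => congrArg Subtype.val e⟩), Nat.card_eq_fintype_card,
      Fintype.card_subtype_compl, ← Nat.card_eq_fintype_card, K.card_lines]
    simp
  have hq : Nat.card (B ⧸ A.subgroupOf B) = 4 := by
    have h1 := (A.subgroupOf B).card_mul_index
    rw [← inf_subgroupOf_right A B, Nat.card_congr (subgroupOfEquivOfLe inf_le_right).toEquiv, K.dat.cI,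
      K.dat.cB, inf_subgroupOf_right, index_eq_card] at h1
    omega
  obtain ⟨q, hq'⟩ := (hf.bijective_of_nat_card_le (by rw [hc, hq])).2 ⟨⟨Y', hY', h'⟩, hne'⟩
  induction q using Quotient.inductionOn' with
  | h b => exact ⟨b, b.2, congrArg (fun t : {Y : K.Lns // Y.1 ≠ B} => t.1.1) hq'⟩

theorem trans_lines {X l Y Y' : Subgroup G} (hX : IsCj A X) (hl : IsCj B l) (hXl : Inc X l)
    (hY : IsCj B Y) (h : Inc X Y) (hne : Y ≠ l) (hY' : IsCj B Y') (h' : Inc X Y') (hne' : Y' ≠ l) :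
    ∃ b ∈ l, cj b Y = Y' := by
  obtain ⟨g, rfl, rfl⟩ := K.flag hX hl hXl
  obtain ⟨b, hb, e⟩ := K.trans_base (hY.cj g⁻¹) (by simpa [cj_inv_cj] using h.cj g⁻¹)
    (fun e => hne (cj_eq_iff.1 e |>.trans (by rw [inv_inv]))) (hY'.cj g⁻¹)
    (by simpa [cj_inv_cj] using h'.cj g⁻¹) (fun e => hne' (cj_eq_iff.1 e |>.trans (by rw [inv_inv])))
  refine ⟨g * b * g⁻¹, conj_mem_cj.2 hb, ?_⟩
  rw [← cj_cj, ← cj_cj, e, cj_cj, mul_inv_cancel, cj_one]

/-- The elements of the point `A` on two lines generate it. -/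
theorem split_base {m : Subgroup G} (hm : IsCj B m) (h : Inc A m) (hne : m ≠ B) {a : G} (ha : a ∈ A) :
    ∃ w ∈ A ⊓ B, ∃ v ∈ A ⊓ m, a = w * v := by
  let f : (A ⊓ B : Subgroup G) × (A ⊓ m : Subgroup G) → A := fun p => ⟨p.1 * p.2, mul_mem p.1.2.1 p.2.2.1⟩
  have hf : Function.Injective f := by
    rintro ⟨w, v⟩ ⟨w', v'⟩ e
    have e' : (w : G) * v = w' * v' := congrArg Subtype.val e
    have h1 : (w' : G)⁻¹ * w = v' * (v : G)⁻¹ := by
      calc (w' : G)⁻¹ * w = (w' : G)⁻¹ * (w * v) * (v : G)⁻¹ := by group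
        _ = _ := by rw [e']; group
    have h2 : (w' : G)⁻¹ * w = 1 := by
      by_contra h3
      refine hne (K.symm.point_unique hm (IsCj.self B) (x := (w' : G)⁻¹ * w) ?_
        (mul_mem (inv_mem w'.2.2) w.2.2) h3)
      rw [h1]
      exact mul_mem v'.2.2 (inv_mem v.2.2)
    obtain rfl : w' = w := Subtype.ext (inv_mul_eq_one.1 h2)
    exact Prod.ext rfl (Subtype.ext (mul_left_cancel e'))
  obtain ⟨⟨w, v⟩, e⟩ := (hf.bijective_of_nat_card_le (by
    rw [Nat.card_prod, K.dat.cI, K.card_inf hm h, K.dat.cA])).2 ⟨a, ha⟩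
  exact ⟨w, w.2, v, v.2, (congrArg Subtype.val e).symm⟩

theorem split {X l m : Subgroup G} (hX : IsCj A X) (hl : IsCj B l) (hXl : Inc X l) (hm : IsCj B m)
    (hXm : Inc X m) (hne : m ≠ l) {a : G} (ha : a ∈ X) : ∃ w ∈ X ⊓ l, ∃ v ∈ X ⊓ m, a = w * v := by
  obtain ⟨g, rfl, rfl⟩ := K.flag hX hl hXl
  rw [mem_cj] at ha
  obtain ⟨w, hw, v, hv, e⟩ := K.split_base (hm.cj g⁻¹) (by simpa [cj_inv_cj] using hXm.cj g⁻¹)
    (fun e => hne (cj_eq_iff.1 e |>.trans (by rw [inv_inv]))) ha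
  have hv2 := mem_cj.1 (show v ∈ cj g⁻¹ m from hv.2)
  rw [inv_inv] at hv2
  refine ⟨g * w * g⁻¹, ⟨conj_mem_cj.2 hw.1, conj_mem_cj.2 hw.2⟩, g * v * g⁻¹, ⟨conj_mem_cj.2 hv.1, hv2⟩, ?_⟩
  calc a = g * (g⁻¹ * a * g) * g⁻¹ := by group
    _ = _ := by rw [e]; group

/-- Two points have at most one common line. -/
theorem meet_unique {X X' l m : Subgroup G} (hX : IsCj A X) (hX' : IsCj A X') (hne : X ≠ X')
    (hl : IsCj B l) (hm : IsCj B m) (hXl : Inc X l) (hXm : Inc X m) (hX'l : Inc X' l) (hX'm : Inc X' m) :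
    l = m := by
  by_contra hlm
  obtain ⟨b, hbX', hbl, hb1⟩ := id hX'l
  exact hne (K.point_unique hX hX' (K.regular hX hl hm hXl hXm (Ne.symm hlm) hbl
    (K.fix_line hX' hm hX'm hbX')) hbX' hb1)

/-- Two steps from a point: one orbit. -/
theorem path_trans {X l m P Q X' l' m' P' Q' : Subgroup G}
    (hX : IsCj A X) (hl : IsCj B l) (hm : IsCj B m) (hXl : Inc X l) (hXm : Inc X m) (hlm : m ≠ l)
    (hP : IsCj A P) (hPl : Inc P l) (hPX : P ≠ X) (hQ : IsCj A Q) (hQm : Inc Q m) (hQX : Q ≠ X)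
    (hX' : IsCj A X') (hl' : IsCj B l') (hm' : IsCj B m') (hXl' : Inc X' l') (hXm' : Inc X' m') (hlm' : m' ≠ l')
    (hP' : IsCj A P') (hPl' : Inc P' l') (hPX' : P' ≠ X') (hQ' : IsCj A Q') (hQm' : Inc Q' m') (hQX' : Q' ≠ X') :
    ∃ g, cj g P = P' ∧ cj g Q = Q' := by
  obtain ⟨g₁, hg₁A, hg₁B⟩ := K.flag hX hl hXl
  obtain ⟨g₂, hg₂A, hg₂B⟩ := K.flag hX' hl' hXl'
  set g := g₂ * g₁⁻¹
  have hgX : cj g X = X' := by rw [← cj_cj, ← hg₁A, cj_inv_cj, hg₂A]
  have hgl : cj g l = l' := by rw [← cj_cj, ← hg₁B, cj_inv_cj, hg₂B]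
  obtain ⟨b, hb, hbm⟩ := K.trans_lines hX' hl' hXl' (hm.cj g) (hgX ▸ hXm.cj g)
    (fun e => hlm (cj_inj (e.trans hgl.symm))) hm' hXm' hlm'
  have hbX : cj b X' = X' := K.fix_point hX' hl' hXl' hb
  set h := b * g
  have hhX : cj h X = X' := by rw [← cj_cj, hgX, hbX]
  have hhl : cj h l = l' := by rw [← cj_cj, hgl, cj_self hb]
  have hhm : cj h m = m' := by rw [← cj_cj, hbm]
  obtain ⟨a, ha, haP⟩ := K.symm.trans_lines hl' hX' hXl'.symm (hP.cj h) (hhl ▸ (hPl.cj h)).symm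
    (fun e => hPX (cj_inj (e.trans hhX.symm))) hP' hPl'.symm hPX'
  set k := a * h
  have hkX : cj k X = X' := by rw [← cj_cj, hhX, cj_self ha]
  have hkm : cj k m = m' := by rw [← cj_cj, hhm, K.fix_line hX' hm' hXm' ha]
  have hQk : Inc (cj k Q) m' := hkm ▸ hQm.cj k
  obtain ⟨c, hc, hcQ⟩ := K.symm.trans_lines hm' hX' hXm'.symm (hQ.cj k) hQk.symm
    (fun e => hQX (cj_inj (e.trans hkX.symm))) hQ' hQm'.symm hQX'
  obtain ⟨w, hw, v, hv, rfl⟩ := K.split hX' hl' hXl' hm' hXm' hlm' hc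
  refine ⟨w * k, ?_, ?_⟩
  · rw [← cj_cj, ← cj_cj a, haP, K.fix_point hP' hl' hPl' hw.2]
  · rw [← cj_cj, ← hcQ, ← cj_cj w v, K.fix_point (hQ.cj k) hm' hQk hv.2]

end Two

end CfsgLib.SylL34
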