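import Cfsg.Agent.ChzL34.FusedIso
import Cfsg.Agent.Classical.PSLThreeFour
import Mathlib.LinearAlgebra.Matrix.GeneralLinearGroup.Projective
import Mathlib.GroupTheory.Transfer
import Mathlib.GroupTheory.SpecificGroups.Cyclic

/-!
Groups on a plane of order four embed in `PGL(3, 4)`; odd subgroups of the latter have order prime to 35.
-/

set_option autoImplicit false
set_option linter.unusedSectionVars false
set_option linter.style.haveILetI false

namespace CfsgLib.SylL34

open Subgroup
open Cfsg.Agent.PlaneFour (Plane exists_iso eq_of_simple_of_card)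

/-- A small group on a plane of order four. -/
theorem embed_plane {α : Type*} [Fintype α] [DecidableEq α] {L : Set (Finset α)} (hA : Plane L) {X : Type*}
    [Group X] [Finite X] (hc : Nat.card X = 20160 ∨ Nat.card X = 60480) (ρ : X →* Equiv.Perm α)
    (hρ : Function.Injective ρ) (hL : ∀ g, ∀ l ∈ L, l.image (ρ g) ∈ L) {F : Type*} [Field F] [Fintype F]
    (hF : Fintype.card F = 4) :
    ∃ f : X →* GL (Fin 3) F ⧸ Subgroup.center (GL (Fin 3) F), Function.Injective f := by
  classical
  rcases hc with hc | hc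
  swap
  · obtain ⟨-, ⟨e⟩, -⟩ := ChzL34.iso_pgl hA hc ρ hρ hL hF
    exact ⟨e.toMonoidHom, e.injective⟩
  haveI : Fintype (Projectivization F (Fin 3 → F)) := Fintype.ofFinite _
  obtain ⟨LB, χ, -, hB, hχ, -⟩ := ChzL34.exists_model hF
  obtain ⟨HA, hA6, hAarc⟩ := hA.exists_oval
  obtain ⟨HB, hB6, hBarc⟩ := hB.exists_oval
  obtain ⟨e, he, -⟩ := exists_iso hA hB hA6 hAarc hB6 hBarc (Finset.equivOfCardEq (hA6.trans hB6.symm))
  let φ : X →* Equiv.Perm (Projectivization F (Fin 3 → F)) :=
    { toFun := fun g => e.permCongr (ρ g)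
      map_one' := Equiv.ext fun y => by simp [Equiv.permCongr_apply]
      map_mul' := fun g h => Equiv.ext fun y => by simp [Equiv.permCongr_apply, Equiv.Perm.mul_apply] }
  have hφA : ∀ g : X, φ g ∈ Cfsg.setSystemAut LB := by
    intro g
    refine hB.mem_aut_of_line_image fun l hl => ?_
    obtain ⟨b, hb, rfl⟩ := (show l ∈ (fun b => b.image e) '' L from he ▸ hl)
    have := he ▸ Set.mem_image_of_mem (fun b : Finset α => b.image e) (hL g b hb)
    convert! this using 1
    simp only [Finset.image_image]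
    congr 1
    funext x
    simp [φ, Equiv.permCongr_apply]
  let θ : X →* Cfsg.setSystemAut LB := φ.codRestrict _ hφA
  have hθ : Function.Injective θ := fun g h e' => hρ (e.permCongr.injective (congrArg Subtype.val e'))
  haveI : IsSimpleGroup (Matrix.ProjectiveSpecialLinearGroup (Fin 3) F) :=
    CfsgLib.Linear.isSimpleGroup_PSL (Or.inl (by simp))
  have hS : Nat.card χ.range = 20160 := by
    rw [← Nat.card_congr (MonoidHom.ofInjective hχ).toEquiv, ChzL34.card_psl_three hF]
  haveI : Nontrivial χ.range := Finite.one_lt_card_iff_nontrivial.mp (by rw [hS]; norm_num)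
  haveI : IsSimpleGroup χ.range :=
    IsSimpleGroup.isSimpleGroup_of_surjective χ.rangeRestrict χ.rangeRestrict_surjective
  have hX : Nat.card θ.range = 20160 := by
    rw [← Nat.card_congr (MonoidHom.ofInjective hθ).toEquiv, hc]
  let eX : X ≃* Matrix.ProjectiveSpecialLinearGroup (Fin 3) F := ((MonoidHom.ofInjective hθ).trans
    (MulEquiv.subgroupCongr (eq_of_simple_of_card hB.card_aut_le θ.range χ.range hX hS))).trans
    (MonoidHom.ofInjective hχ).symm
  exact ⟨Matrix.ProjectiveSpecialLinearGroup.toPGL.comp eX.toMonoidHom,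
    Matrix.ProjectiveSpecialLinearGroup.toPGL_injective.comp eX.injective⟩

/-- An element normalising a cyclic subgroup and of order prime to its automorphisms centralizes it. -/
theorem commute_of_coprime_aut {D : Type*} [Group D] [Finite D] {x n : D}
    (hn : n ∈ normalizer ((zpowers x : Subgroup D) : Set D))
    (hco : (orderOf n).Coprime (Nat.totient (orderOf x))) : Commute n x := by
  set f := normalizerMonoidHom (zpowers x) with hf
  have h1 : f ⟨n, hn⟩ = 1 := by
    refine orderOf_eq_one_iff.1 (Nat.eq_one_of_dvd_coprimes hco ?_ ?_)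
    · exact (orderOf_map_dvd f _).trans (by rw [← orderOf_coe])
    · rw [← Nat.card_zpowers x, ← IsCyclic.card_mulAut]
      exact orderOf_dvd_natCard _
  have h2 := congrArg Subtype.val (DFunLike.congr_fun h1 ⟨x, mem_zpowers x⟩)
  exact mul_inv_eq_iff_eq_mul.1 h2

variable {F : Type*} [Field F] [Fintype F]

/-- No element of order 35. -/
theorem no_order35 (hF : Fintype.card F = 4) (q : GL (Fin 3) F ⧸ Subgroup.center (GL (Fin 3) F)) :
    orderOf q ≠ 35 := by
  classical
  intro hq
  obtain ⟨g, rfl⟩ := QuotientGroup.mk_surjective q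
  have hdet : ((g ^ 3 : GL (Fin 3) F) : Matrix (Fin 3) (Fin 3) F).det = 1 := by
    rw [Units.val_pow_eq_pow_val, Matrix.det_pow]
    have h := FiniteField.pow_card_sub_one_eq_one _ (Matrix.GeneralLinearGroup.det_ne_zero g)
    rwa [hF] at h
  set s : Matrix.ProjectiveSpecialLinearGroup (Fin 3) F :=
    QuotientGroup.mk (⟨_, hdet⟩ : Matrix.SpecialLinearGroup (Fin 3) F) with hs
  let ι : Matrix.ProjectiveSpecialLinearGroup (Fin 3) F →* GL (Fin 3) F ⧸ Subgroup.center (GL (Fin 3) F) :=
    Matrix.ProjectiveSpecialLinearGroup.toPGL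
  have hι : Function.Injective ι := Matrix.ProjectiveSpecialLinearGroup.toPGL_injective
  have hmap : ι s = QuotientGroup.mk (g ^ 3) := congrArg QuotientGroup.mk (Units.ext rfl)
  have h35 : orderOf s = 35 := by
    rw [← orderOf_injective ι hι s, hmap, QuotientGroup.mk_pow, Nat.Coprime.orderOf_pow (by rw [hq]; norm_num), hq]
  rcases CfsgLib.Linear.ThreeFour.orderOf_cases hF s with h | h | h <;> rw [h35] at h <;> norm_num at h

/-- Odd subgroups have order prime to 35. -/
theorem no35 (hF : Fintype.card F = 4) (D : Subgroup (GL (Fin 3) F ⧸ Subgroup.center (GL (Fin 3) F)))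
    (hD : Odd (Nat.card D)) : ¬ 35 ∣ Nat.card D := by
  classical
  intro h35
  haveI : Fact (Nat.Prime 5) := ⟨by norm_num⟩
  haveI : Fact (Nat.Prime 7) := ⟨by norm_num⟩
  have h945 : Nat.card D ∣ 945 := by
    have h := card_subgroup_dvd_card D
    rw [ChzL34.card_pgl_three hF, show (60480 : ℕ) = 2 ^ 6 * 945 from rfl] at h
    exact ((Nat.coprime_two_right.2 hD).pow_right 6).dvd_of_dvd_mul_left h
  obtain ⟨P, -⟩ : ∃ P : Sylow 5 D, True := ⟨default, trivial⟩
  have hP : Nat.card (P : Subgroup D) = 5 := by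
    obtain ⟨k, hk⟩ := IsPGroup.iff_card.1 P.2
    have h1 : 5 ^ k ∣ 945 := hk ▸ (card_subgroup_dvd_card _).trans h945
    have h2 : k ≤ 1 := by
      by_contra h3
      exact absurd ((pow_dvd_pow 5 (show 2 ≤ k by omega)).trans h1) (by norm_num)
    have h3 : k ≠ 0 := fun e => P.ne_bot_of_dvd_card ((by norm_num : 5 ∣ 35).trans h35)
      (Subgroup.eq_bot_of_card_eq _ (by rw [hk, e, pow_zero]))
    rw [hk, show k = 1 by omega, pow_one]
  obtain ⟨y, hy⟩ := exists_prime_orderOf_dvd_card' (G := (P : Subgroup D)) 5 (by rw [hP])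
  have hy' : orderOf (y : D) = 5 := by rw [orderOf_coe]; exact hy
  have hPy : zpowers (y : D) = (P : Subgroup D) :=
    eq_of_le_of_card_ge (zpowers_le.2 y.2) (by rw [Nat.card_zpowers, hy', hP])
  have hcent : normalizer ((P : Subgroup D) : Set D) ≤ centralizer ((P : Subgroup D) : Set D) := by
    intro n hn
    rw [← hPy] at hn ⊢
    have hc := commute_of_coprime_aut hn (by
      rw [hy', Nat.totient_prime (by norm_num)]
      exact ((Nat.coprime_two_right.2 (hD.of_dvd_nat (orderOf_dvd_natCard n))).pow_right 2))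
    refine mem_centralizer_iff.2 fun x hx => ?_
    obtain ⟨i, rfl⟩ := mem_zpowers_iff.1 hx
    exact (hc.zpow_right i).eq.symm
  set M := (MonoidHom.transferSylow P hcent).ker
  have hMc : Nat.card M * 5 = Nat.card D := by
    have := (MonoidHom.ker_transferSylow_isComplement' P hcent).card_mul
    rwa [hP] at this
  have h189 : Nat.card M ∣ 189 := by
    rw [← hMc, show (945 : ℕ) = 189 * 5 from rfl] at h945
    exact Nat.dvd_of_mul_dvd_mul_right (by norm_num) h945
  have h7 : 7 ∣ Nat.card M := by
    rw [← hMc] at h35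
    exact (Nat.Coprime.dvd_of_dvd_mul_right (by norm_num) ((by norm_num : 7 ∣ 35).trans h35))
  obtain ⟨Q, -⟩ : ∃ Q : Sylow 7 M, True := ⟨default, trivial⟩
  have hQ : Nat.card (Q : Subgroup M) = 7 := by
    obtain ⟨k, hk⟩ := IsPGroup.iff_card.1 Q.2
    have h1 : 7 ^ k ∣ 189 := hk ▸ (card_subgroup_dvd_card _).trans h189
    have h2 : k ≤ 1 := by
      by_contra h3
      exact absurd ((pow_dvd_pow 7 (show 2 ≤ k by omega)).trans h1) (by norm_num)
    have h3 : k ≠ 0 := fun e => Q.ne_bot_of_dvd_card h7 (Subgroup.eq_bot_of_card_eq _ (by rw [hk, e, pow_zero]))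
    rw [hk, show k = 1 by omega, pow_one]
  haveI : Subsingleton (Sylow 7 M) := by
    have h27 : Nat.card (Sylow 7 M) ∣ 27 := by
      have hd := Q.card_dvd_index
      have hi := (Q : Subgroup M).card_mul_index
      rw [hQ] at hi
      refine hd.trans (Nat.dvd_of_mul_dvd_mul_left (by norm_num : 0 < 7) ?_)
      rw [hi]
      exact h189
    have hmod := card_sylow_modEq_one 7 M
    refine (Nat.card_eq_one_iff_unique.1 ?_).1
    have hle := Nat.le_of_dvd (by norm_num) h27
    unfold Nat.ModEq at hmod
    interval_cases Nat.card (Sylow 7 M) <;> omega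
  obtain ⟨x, hx⟩ := exists_prime_orderOf_dvd_card' (G := M) 7 h7
  have hx' : orderOf (x : D) = 7 := by rw [orderOf_coe]; exact hx
  have huniq : ∀ w : M, orderOf w = 7 → zpowers w = (Q : Subgroup M) := fun w hw => by
    obtain ⟨R, hR⟩ := (IsPGroup.of_card (n := 1) (by rw [Nat.card_zpowers, hw, pow_one]) :
      IsPGroup 7 (zpowers w)).exists_le_sylow
    rw [Subsingleton.elim R Q] at hR
    exact eq_of_le_of_card_ge hR (by rw [Nat.card_zpowers, hw, hQ])
  have hMn : M.Normal := MonoidHom.normal_ker _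
  have hnorm : (y : D) ∈ normalizer ((zpowers (x : D) : Subgroup D) : Set D) := by
    refine mem_normalizer_iff_map_conj_eq.2 ?_
    rw [MonoidHom.map_zpowers]
    set w : M := ⟨(y : D) * x * (y : D)⁻¹, hMn.conj_mem _ x.2 _⟩
    have hw : orderOf w = 7 := by
      rw [← orderOf_coe, ← hx']
      exact ((MulAut.conj (y : D)).orderOf_eq (x : D))
    have := congrArg (Subgroup.map M.subtype) ((huniq w hw).trans (huniq x hx).symm)
    rw [MonoidHom.map_zpowers, MonoidHom.map_zpowers] at this
    exact this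
  have hc := commute_of_coprime_aut hnorm (by rw [hy', hx', Nat.totient_prime (by norm_num)]; norm_num)
  have h := hc.orderOf_mul_eq_mul_orderOf_of_coprime (by rw [hy', hx']; norm_num)
  rw [hy', hx', ← orderOf_coe] at h
  exact no_order35 hF _ h

end CfsgLib.SylL34
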