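import Cfsg.Agent.SylL34.Tools

/-!
An abelian Sylow 2-subgroup of order at least eight whose automizer acts without fixed points on it, with
two classes of involutions, is normal modulo the odd core.
-/

set_option autoImplicit false
set_option linter.unusedSectionVars false
set_option linter.style.haveILetI false

namespace CfsgLib.SylL34

open Subgroup

variable {Y : Type*} [Group Y] [Finite Y]

theorem sylow_normal (P : Sylow 2 Y) (hsq : ∀ p ∈ (P : Subgroup Y), p * p = 1)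
    (h8 : 8 ≤ Nat.card (P : Subgroup Y))
    (hfpf : ∀ n ∈ normalizer ((P : Subgroup Y) : Set Y), ∀ p ∈ (P : Subgroup Y), p ≠ 1 → n * p = p * n →
      n ∈ centralizer ((P : Subgroup Y) : Set Y))
    (hcl : ∃ p ∈ (P : Subgroup Y), ∃ q ∈ (P : Subgroup Y), p ≠ 1 ∧ q ≠ 1 ∧ ¬ IsConj p q)
    (hO : Cfsg.oddCore Y = ⊥) : (P : Subgroup Y).Normal := by
  set V := (P : Subgroup Y)
  have hle : ∀ p ∈ V, V ≤ centralizer ({p} : Set Y) := fun p hp v hv =>
    mem_centralizer_singleton_iff.2 (comm_of_sq hsq hv hp)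
  -- centralizers of involutions are 2-nilpotent
  have hnil : ∀ p ∈ V, p ≠ 1 → (∀ g ∈ centralizer ({p} : Set Y), ∃ o ∈ Oc p, ∃ q ∈ V, g = o * q) ∧
      ∀ g ∈ centralizer ({p} : Set Y), Odd (orderOf g) → g ∈ Oc p := by
    intro p hp hp1
    set C := centralizer ({p} : Set Y)
    obtain ⟨h1, h2⟩ := twoNil (P.subtype (hle p hp)) (fun n hn => by
      have hn' : (n : Y) ∈ normalizer (V : Set Y) := mem_normalizer_of_conj_mem fun x hx => by
        have := (mem_normalizer_iff.1 hn ⟨x, hle p hp hx⟩).1 hx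
        exact this
      have hc := hfpf n hn' p hp hp1 (mem_centralizer_singleton_iff.1 n.2)
      exact mem_centralizer_iff.2 fun x hx => Subtype.ext (mem_centralizer_iff.1 hc x hx))
    refine ⟨fun g hg => ?_, fun g hg ho => ⟨⟨g, hg⟩, h2 ⟨g, hg⟩ (by rwa [← orderOf_coe]), rfl⟩⟩
    obtain ⟨o, ho, q, hq, e⟩ := h1 ⟨g, hg⟩
    exact ⟨o, ⟨o, ho, rfl⟩, q, hq, congrArg Subtype.val e⟩
  have hbal : ∀ a ∈ V, a ≠ 1 → ∀ b ∈ V, b ≠ 1 → ∀ x ∈ Oc a, x * b = b * x → x ∈ Oc b :=
    fun a _ _ b hb hb1 x hx hxb =>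
      (hnil b hb hb1).2 x (mem_centralizer_singleton_iff.2 hxb) (odd_orderOf_of_mem (Oc_odd a) hx)
  obtain ⟨W, hWodd, hWle, -, hWN, -⟩ := closure_props hsq h8 hbal
  have hgen : V ≤ closure {t : Y | t * t = 1} := fun x hx => subset_closure (hsq x hx)
  obtain ⟨p, hp, q, hq, hp1, hq1, hpq⟩ := hcl
  have hM : normalizer (W : Set Y) = ⊤ := by
    refine top_of_cent P hgen hWN ?_ hp (order_two (hsq p hp) hp1) hq (order_two (hsq q hq) hq1) hpq
    intro s hs hs2 g hg
    obtain ⟨o, ho, v, hv, rfl⟩ := (hnil s hs (Invol.ne_one hs2)).1 g hg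
    exact mul_mem (le_normalizer (hWle s hs (Invol.ne_one hs2) ho)) (hWN (le_normalizer hv))
  have hW : W = ⊥ := le_bot_iff.1 (hO ▸ le_ocore (normalizer_eq_top_iff.1 hM) hWodd)
  have hN : normalizer (V : Set Y) = ⊤ := by
    refine top_of_cent P hgen le_rfl ?_ hp (order_two (hsq p hp) hp1) hq (order_two (hsq q hq) hq1) hpq
    intro s hs hs2 g hg
    obtain ⟨o, ho, v, hv, rfl⟩ := (hnil s hs (Invol.ne_one hs2)).1 g hg
    have : o = 1 := by
      have := hWle s hs (Invol.ne_one hs2) ho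
      rwa [hW, mem_bot] at this
    rw [this, one_mul]
    exact le_normalizer hv
  exact normalizer_eq_top_iff.1 hN

end CfsgLib.SylL34
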