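import Cfsg.Agent.SylL34.Triangle
import Cfsg.Agent.SylL34.LinearThree
import Cfsg.Agent.PlaneFour.Automorphisms

/-!
Both sides fused: the plane of order four and its group.
-/

set_option autoImplicit false
set_option linter.unusedSectionVars false
set_option linter.unusedSimpArgs false
set_option linter.style.haveILetI false

namespace CfsgLib.SylL34

open Subgroup

variable {G : Type*} [Group G] [Finite G]

namespace Two

variable {S : Sylow 2 G} {A B : Subgroup G} (K : Two S A B)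
include K

/-- The points of the plane. -/
def InPlane (_K : Two S A B) (X : Subgroup G) : Prop := IsCj A X ∧ (X = A ∨ Coll B A X)

theorem inPlane_A : K.InPlane A := ⟨IsCj.self A, Or.inl rfl⟩

theorem line_at_A {X : Subgroup G} (h : K.InPlane X) : ∃ Y, IsCj B Y ∧ Inc A Y ∧ Inc X Y :=
  h.2.elim (fun e => ⟨B, IsCj.self B, K.inc_base, e ▸ K.inc_base⟩) id

theorem line_closed {X X' Y : Subgroup G} (h : K.InPlane X) (hY : IsCj B Y) (hXY : Inc X Y) (hX' : IsCj A X')
    (hX'Y : Inc X' Y) : K.InPlane X' := by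
  refine ⟨hX', ?_⟩
  by_cases e1 : X' = A
  · exact Or.inl e1
  right
  by_cases e2 : X = A
  · exact ⟨Y, hY, e2 ▸ hXY, hX'Y⟩
  obtain ⟨W, hW, hAW, hXW⟩ := K.line_at_A h
  by_cases e3 : W = Y
  · exact ⟨Y, hY, e3 ▸ hAW, hX'Y⟩
  by_cases e4 : X' = X
  · exact ⟨W, hW, hAW, e4 ▸ hXW⟩
  exact (K.coll_of_path h.1 hW hY hXW hXY (Ne.symm e3) (IsCj.self A) hAW (Ne.symm e2) hX' hX'Y e4).2

theorem exists_line {X X' : Subgroup G} (h : K.InPlane X) (h' : K.InPlane X') : Coll B X X' := by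
  obtain ⟨l, hl, hAl, hXl⟩ := K.line_at_A h
  obtain ⟨m, hm, hAm, hX'm⟩ := K.line_at_A h'
  by_cases e1 : X = A
  · exact ⟨m, hm, e1 ▸ hAm, hX'm⟩
  by_cases e2 : X' = A
  · exact ⟨l, hl, hXl, e2 ▸ hAl⟩
  by_cases e3 : m = l
  · exact ⟨l, hl, hXl, e3 ▸ hX'm⟩
  exact (K.coll_of_path (IsCj.self A) hl hm hAl hAm e3 h.1 hXl e1 h'.1 hX'm e2).2

theorem card_pts {Y : Subgroup G} (hY : IsCj B Y) :
    Nat.card {X : Subgroup G // IsCj A X ∧ Inc X Y} = 5 := by
  obtain ⟨g, rfl⟩ := hY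
  rw [← K.symm.card_lines]
  refine Nat.card_congr
    { toFun := fun X => ⟨cj g⁻¹ X.1, X.2.1.cj g⁻¹, by simpa [cj_inv_cj] using (X.2.2.cj g⁻¹).symm⟩
      invFun := fun X => ⟨cj g X.1, X.2.1.cj g, (X.2.2.cj g).symm⟩
      left_inv := fun X => Subtype.ext (by simp only [cj_cj, mul_inv_cancel, cj_one])
      right_inv := fun X => Subtype.ext (cj_inv_cj _ _) }

/-- The point type. -/
abbrev Pn (K : Two S A B) : Type _ := {X : Subgroup G // K.InPlane X}

theorem card_Pn : Nat.card K.Pn = 21 := by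
  classical
  let f : (Σ Y : K.Lns, {X : {X : Subgroup G // IsCj A X ∧ Inc X Y.1} // X.1 ≠ A}) → {P : K.Pn // P.1 ≠ A} :=
    fun p => ⟨⟨p.2.1.1, K.line_closed K.inPlane_A p.1.2.1 p.1.2.2 p.2.1.2.1 p.2.1.2.2⟩, p.2.2⟩
  have hf : Function.Bijective f := by
    constructor
    · rintro ⟨Y, ⟨X, hX⟩, hX1⟩ ⟨Y', ⟨X', hX'⟩, hX1'⟩ e
      obtain rfl : X = X' := congrArg (fun t : {P : K.Pn // P.1 ≠ A} => t.1.1) e
      obtain rfl : Y = Y' := Subtype.ext (K.meet_unique (IsCj.self A) hX.1 (Ne.symm hX1) Y.2.1 Y'.2.1 Y.2.2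
        Y'.2.2 hX.2 hX'.2)
      rfl
    · rintro ⟨⟨X, hX⟩, hX1⟩
      obtain ⟨Y, hY, hAY, hXY⟩ := K.line_at_A hX
      exact ⟨⟨⟨Y, hY, hAY⟩, ⟨X, hX.1, hXY⟩, hX1⟩, rfl⟩
  have h4 : ∀ Y : K.Lns, Nat.card {X : {X : Subgroup G // IsCj A X ∧ Inc X Y.1} // X.1 ≠ A} = 4 := by
    intro Y
    haveI := Fintype.ofFinite {X : Subgroup G // IsCj A X ∧ Inc X Y.1}
    rw [Nat.card_congr (Equiv.subtypeEquivRight
      (q := fun X : {X : Subgroup G // IsCj A X ∧ Inc X Y.1} => X ≠ ⟨A, IsCj.self A, Y.2.2⟩)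
      fun X => not_congr ⟨fun e => Subtype.ext e, fun e => congrArg Subtype.val e⟩), Nat.card_eq_fintype_card,
      Fintype.card_subtype_compl, ← Nat.card_eq_fintype_card, K.card_pts Y.2.1]
    simp
  haveI := Fintype.ofFinite K.Lns
  have h := Nat.card_congr (Equiv.ofBijective f hf)
  rw [Nat.card_sigma, Finset.sum_congr rfl (g := fun _ => 4) fun Y _ => h4 Y, Finset.sum_const, smul_eq_mul,
    Finset.card_univ, ← Nat.card_eq_fintype_card, K.card_lines] at h
  haveI := Fintype.ofFinite K.Pn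
  rw [Nat.card_congr (Equiv.subtypeEquivRight (q := fun P : K.Pn => P ≠ ⟨A, K.inPlane_A⟩)
    fun P => not_congr ⟨fun e => Subtype.ext e, fun e => congrArg Subtype.val e⟩), Nat.card_eq_fintype_card,
    Fintype.card_subtype_compl, ← Nat.card_eq_fintype_card] at h
  simp only [Fintype.card_unique] at h

  omega

/-- The lines of the plane. -/
def planeLines (K : Two S A B) : Set (Finset K.Pn) :=
  {s | ∃ Y : Subgroup G, IsCj B Y ∧ (∃ X : K.Pn, Inc X.1 Y) ∧ ∀ X : K.Pn, X ∈ s ↔ Inc X.1 Y}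

theorem plane [Fintype K.Pn] : Cfsg.Agent.PlaneFour.Plane K.planeLines := by
  classical
  refine ⟨⟨fun s hs => ?_, fun s hs => ?_⟩, by rw [← Nat.card_eq_fintype_card, K.card_Pn]⟩
  · obtain ⟨Y, hY, ⟨X₀, h₀⟩, hs⟩ := hs
    rw [← Fintype.card_coe, ← Nat.card_eq_fintype_card, ← K.card_pts hY]
    exact Nat.card_congr
      { toFun := fun X => ⟨X.1.1, X.1.2.1, (hs X.1).1 X.2⟩
        invFun := fun X => ⟨⟨X.1, K.line_closed X₀.2 hY h₀ X.2.1 X.2.2⟩, (hs _).2 X.2.2⟩
        left_inv := fun X => rfl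
        right_inv := fun X => rfl }
  · obtain ⟨P, Q, hPQ, rfl⟩ := Finset.card_eq_two.1 hs
    have hne : P.1 ≠ Q.1 := fun e => hPQ (Subtype.ext e)
    obtain ⟨Y, hY, hP, hQ⟩ := K.exists_line P.2 Q.2
    refine ⟨Finset.univ.filter fun X : K.Pn => Inc X.1 Y, ⟨⟨Y, hY, ⟨P, hP⟩, fun X => by simp⟩, ?_⟩, ?_⟩
    · intro X hX
      simp only [Finset.mem_insert, Finset.mem_singleton] at hX
      rcases hX with rfl | rfl <;> simp [hP, hQ]
    · rintro t ⟨⟨W, hW, -, ht⟩, hsub⟩
      have e := K.meet_unique P.2.1 Q.2.1 hne hY hW hP ((ht P).1 (hsub (by simp))) hQ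
        ((ht Q).1 (hsub (by simp)))
      ext X
      simp [ht, e]

/-- The stabilizer of the plane. -/
def planeStab (K : Two S A B) : Subgroup G where
  carrier := {g | ∀ X, K.InPlane X ↔ K.InPlane (cj g X)}
  one_mem' := fun X => by rw [cj_one]
  mul_mem' := fun {g h} hg hh X => (hh X).trans (by rw [hg (cj h X), cj_cj])
  inv_mem' := fun {g} hg X => by rw [hg (cj g⁻¹ X), cj_cj, mul_inv_cancel, cj_one]

theorem mem_stab {H : Subgroup G} (h : ∀ g ∈ H, ∀ X, K.InPlane X → K.InPlane (cj g X)) : H ≤ K.planeStab :=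
  fun g hg X => ⟨h g hg X, fun h' => by
    have := h g⁻¹ (inv_mem hg) _ h'
    rwa [cj_inv_cj] at this⟩

theorem normA_le_stab : normalizer (A : Set G) ≤ K.planeStab := by
  refine K.mem_stab fun g hg X hX => ?_
  obtain ⟨Y, hY, h1, h2⟩ := K.line_at_A hX
  exact K.line_closed K.inPlane_A (hY.cj g) (by simpa [cj_of_mem_normalizer hg] using h1.cj g) (hX.1.cj g)
    (h2.cj g)

theorem normB_le_stab : normalizer (B : Set G) ≤ K.planeStab := by
  refine K.mem_stab fun g hg X hX => ?_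
  obtain ⟨Y, hY, h1, h2⟩ := K.line_at_A hX
  have hA : K.InPlane (cj g A) := K.line_closed K.inPlane_A (IsCj.self B) K.inc_base ((IsCj.self A).cj g)
    (by simpa [cj_of_mem_normalizer hg] using K.inc_base.cj g)
  exact K.line_closed hA (hY.cj g) (h1.cj g) (hX.1.cj g) (h2.cj g)

theorem trans_stab {X : Subgroup G} (hX : K.InPlane X) : ∃ g ∈ K.planeStab, cj g A = X := by
  obtain ⟨Y, hY, h1, h2⟩ := K.line_at_A hX
  obtain ⟨n, hn, rfl⟩ := K.flag (IsCj.self A) hY h1
  obtain ⟨m, hmA, hmB⟩ := K.flag (hX.1.cj n⁻¹) (IsCj.self B) (by simpa [cj_inv_cj] using h2.cj n⁻¹)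
  refine ⟨n * m, mul_mem (K.normA_le_stab (mem_normalizer_of_cj hn)) (K.normB_le_stab (mem_normalizer_of_cj hmB)), ?_⟩
  rw [← cj_cj, hmA, cj_cj, mul_inv_cancel, cj_one]

/-- The action on the points. -/
def rho (K : Two S A B) : K.planeStab →* Equiv.Perm K.Pn where
  toFun g :=
    { toFun := fun X => ⟨cj (g : G) X.1, (g.2 X.1).1 X.2⟩
      invFun := fun X => ⟨cj (g : G)⁻¹ X.1, (K.planeStab.inv_mem g.2 X.1).1 X.2⟩
      left_inv := fun X => Subtype.ext (cj_inv_cj _ _)
      right_inv := fun X => Subtype.ext (by simp only [cj_cj, mul_inv_cancel, cj_one]) }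
  map_one' := Equiv.ext fun X => Subtype.ext (cj_one _)
  map_mul' g h := Equiv.ext fun X => Subtype.ext (cj_cj _ _ _).symm

theorem exists_other_line : ∃ Y, IsCj B Y ∧ Inc A Y ∧ Y ≠ B := by
  by_contra! hno
  haveI : Subsingleton K.Lns :=
    ⟨fun p q => Subtype.ext ((hno p.1 p.2.1 p.2.2).trans (hno q.1 q.2.1 q.2.2).symm)⟩
  have := K.card_lines
  rw [Nat.card_of_subsingleton ⟨B, IsCj.self B, K.inc_base⟩] at this
  omega

theorem exists_other_point {Y : Subgroup G} (hY : IsCj B Y) (hYA : Inc A Y) :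
    ∃ X, IsCj A X ∧ Inc X Y ∧ X ≠ A := by
  by_contra! hno
  haveI : Subsingleton {X : Subgroup G // IsCj A X ∧ Inc X Y} :=
    ⟨fun p q => Subtype.ext ((hno p.1 p.2.1 p.2.2).trans (hno q.1 q.2.1 q.2.2).symm)⟩
  have := K.card_pts hY
  rw [Nat.card_of_subsingleton ⟨A, IsCj.self A, hYA⟩] at this
  omega

theorem fix_at_A {g : G} (hg : ∀ X, K.InPlane X → cj g X = X) {Y : Subgroup G} (hY : IsCj B Y) (hYA : Inc A Y) :
    cj g Y = Y := by
  obtain ⟨X, hX, hXY, hXA⟩ := K.exists_other_point hY hYA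
  have hA := hg A K.inPlane_A
  have hX' := hg X (K.line_closed K.inPlane_A hY hYA hX hXY)
  exact (K.meet_unique (IsCj.self A) hX (Ne.symm hXA) hY (hY.cj g) hYA (by simpa [hA] using hYA.cj g) hXY
    (by simpa [hX'] using hXY.cj g)).symm

theorem fix_normS {g : G} (hg : ∀ X, K.InPlane X → cj g X = X) :
    g ∈ normalizer ((S : Subgroup G) : Set G) :=
  K.normAB (mem_normalizer_of_cj (hg A K.inPlane_A))
    (mem_normalizer_of_cj (K.fix_at_A hg (IsCj.self B) K.inc_base))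

theorem fix_invol {g : G} (hg : ∀ X, K.InPlane X → cj g X = X) (h2 : g * g = 1) : g ∈ A ⊓ B := by
  haveI : Fact (Nat.Prime 2) := ⟨Nat.prime_two⟩
  have hB : g ∈ A → g ∈ B := by
    intro h
    obtain ⟨X, hX, hXB, hXA⟩ := K.exists_other_point (IsCj.self B) K.inc_base
    exact K.symm.regular_base hX hXB.symm hXA h
      (hg X (K.line_closed K.inPlane_A (IsCj.self B) K.inc_base hX hXB))
  rcases K.dat.inv g (mem_of_two (k := 1) (by rw [pow_one, sq]; exact h2) (K.fix_normS hg)) h2 with h | h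
  · exact ⟨h, hB h⟩
  · obtain ⟨Y, hY, hYA, hYB⟩ := K.exists_other_line
    have hA := K.regular_base hY hYA hYB h (K.fix_at_A hg hY hYA)
    exact ⟨hA, h⟩

theorem fixing_bot {N : Subgroup G} (hfix : ∀ x ∈ N, ∀ X, K.InPlane X → cj x X = X)
    (hN : normalizer (A : Set G) ≤ normalizer (N : Set G)) : N = ⊥ := by
  haveI : Fact (Nat.Prime 2) := ⟨Nat.prime_two⟩
  have hodd : Odd (Nat.card N) := by
    rw [← Nat.not_even_iff_odd]
    intro he
    obtain ⟨t, ht⟩ := exists_prime_orderOf_dvd_card' (G := N) 2 (even_iff_two_dvd.1 he)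
    have ht2 : orderOf (t : G) = 2 := by rwa [orderOf_coe]
    obtain ⟨a, ha, haB⟩ := K.dat.exists_noncentral
    obtain ⟨n, hn, e⟩ := K.dat.exists_to K.fA (K.fix_invol (hfix t t.2) (Invol.mul_self_eq_one ht2))
      (Invol.ne_one ht2) ha (fun e => haB (e ▸ one_mem B))
    have hmem : a ∈ N := e ▸ conj_mem_of_normalizer (hN hn) t.2
    exact haB (K.fix_invol (hfix a hmem) (K.dat.eA a ha)).2
  refine eq_bot_iff.2 fun k hk => mem_bot.2 ?_
  refine inf_eq_bot_of_odd hodd S.2 hk (K.small.selfS (mem_centralizer_iff.2 fun s hs => ?_))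
  have hks := conj_mem_of_normalizer (K.fix_normS (hfix k hk)) hs
  have h1 : k * s * k⁻¹ * s⁻¹ ∈ (S : Subgroup G) := mul_mem hks (inv_mem hs)
  have h2 : k * s * k⁻¹ * s⁻¹ ∈ N := by
    rw [show k * s * k⁻¹ * s⁻¹ = k * (s * k⁻¹ * s⁻¹) by group]
    exact mul_mem hk (conj_mem_of_normalizer (hN (K.dat.le_normA hs)) (inv_mem hk))
  exact (mul_inv_eq_iff_eq_mul.1 (mul_inv_eq_one.1 (inf_eq_bot_of_odd hodd S.2 h2 h1))).symm

theorem rho_injective : Function.Injective K.rho := by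
  rw [← MonoidHom.ker_eq_bot_iff, ← map_eq_bot_iff_of_injective _ K.planeStab.subtype_injective]
  refine K.fixing_bot ?_ fun n hn => mem_normalizer_of_conj_mem ?_
  · rintro _ ⟨x, hx, rfl⟩ X hX
    exact congrArg Subtype.val (Equiv.ext_iff.1 (MonoidHom.mem_ker.1 hx) ⟨X, hX⟩)
  · rintro _ ⟨x, hx, rfl⟩
    let n' : K.planeStab := ⟨n, K.normA_le_stab hn⟩
    refine ⟨n' * x * n'⁻¹, (MonoidHom.normal_ker K.rho).conj_mem x hx n', ?_⟩
    rw [map_mul, map_mul, map_inv]
    simp only [Subgroup.coe_subtype, n']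

theorem card_normA {z : G} (hz : z ∈ A ⊓ B) (hz1 : z ≠ 1) :
    15 * Nat.card (centralizer ({z} : Set G)) = Nat.card (normalizer (A : Set G)) := by
  classical
  rw [← K.dat.orb_card z, Nat.card_congr (subgroupOfEquivOfLe (K.centA_le hz hz1)).toEquiv]
  congr 1
  have e : {x : A // x ≠ 1} ≃ K.dat.orb z :=
    { toFun := fun x => ⟨x.1, K.dat.exists_to K.fA hz hz1 x.1.2 fun e => x.2 (Subtype.ext e)⟩
      invFun := fun x => ⟨⟨x.1, K.dat.orb_A hz.1 x.2⟩, fun e => K.dat.orb_ne hz1 x.2 (congrArg Subtype.val e)⟩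
      left_inv := fun x => rfl
      right_inv := fun x => rfl }
  haveI := Fintype.ofFinite A
  rw [← Nat.card_congr e, Nat.card_eq_fintype_card, Fintype.card_subtype_compl, ← Nat.card_eq_fintype_card,
    K.dat.cA]
  simp

theorem card_stab : Nat.card K.planeStab = 21 * Nat.card (normalizer (A : Set G)) := by
  classical
  let f : K.planeStab ⧸ (normalizer (A : Set G)).subgroupOf K.planeStab → K.Pn := fun q => Quotient.liftOn' q
    (fun g => ⟨cj (g : G) A, (g.2 A).1 K.inPlane_A⟩) fun g h hgh => by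
      refine Subtype.ext ?_
      have h1 : (g : G)⁻¹ * h ∈ normalizer (A : Set G) := (QuotientGroup.leftRel_apply
        (s := (normalizer (A : Set G)).subgroupOf K.planeStab)).1 hgh
      show cj (g : G) A = cj (h : G) A
      have h2 := congrArg (cj (g : G)) (cj_of_mem_normalizer h1)
      rw [cj_cj, mul_inv_cancel_left] at h2
      exact h2.symm
  have hf : Function.Bijective f := by
    constructor
    · intro p q
      induction p using Quotient.inductionOn' with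
      | h g =>
      induction q using Quotient.inductionOn' with
      | h h =>
      intro e
      have e' : cj (g : G) A = cj (h : G) A := congrArg Subtype.val e
      refine QuotientGroup.eq.2 (mem_normalizer_of_cj ?_)
      show cj ((g : G)⁻¹ * h) A = A
      rw [← cj_cj, ← e', cj_inv_cj]
    · rintro ⟨X, hX⟩
      obtain ⟨g, hg, rfl⟩ := K.trans_stab hX
      exact ⟨QuotientGroup.mk ⟨g, hg⟩, rfl⟩
  have h := ((normalizer (A : Set G)).subgroupOf K.planeStab).card_mul_index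
  rw [Nat.card_congr (subgroupOfEquivOfLe K.normA_le_stab).toEquiv, index_eq_card,
    Nat.card_congr (Equiv.ofBijective f hf), K.card_Pn] at h
  rw [← h, mul_comm]

/-- The group of the plane. -/
theorem exists_model {z : G} (hz : z ∈ A ⊓ B) (hz1 : z ≠ 1) {F : Type*} [Field F] [Fintype F]
    (hF : Fintype.card F = 4) :
    ∃ H : Subgroup G, normalizer (A : Set G) ≤ H ∧ normalizer (B : Set G) ≤ H ∧
      Nat.card H = 315 * Nat.card (centralizer ({z} : Set G)) ∧
      ∃ f : H →* GL (Fin 3) F ⧸ Subgroup.center (GL (Fin 3) F), Function.Injective f := by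
  classical
  haveI : Fintype K.Pn := Fintype.ofFinite _
  have hρ : Function.Injective K.rho := K.rho_injective
  have hL : ∀ g : K.planeStab, ∀ l ∈ K.planeLines, l.image (K.rho g) ∈ K.planeLines := by
    rintro g l ⟨Y, hY, ⟨X₀, h₀⟩, hl⟩
    refine ⟨cj (g : G) Y, hY.cj _, ⟨K.rho g X₀, h₀.cj _⟩, fun X => ?_⟩
    rw [Finset.mem_image]
    constructor
    · rintro ⟨W, hW, rfl⟩
      exact ((hl W).1 hW).cj _
    · intro h
      refine ⟨(K.rho g).symm X, (hl _).2 ?_, Equiv.apply_symm_apply _ _⟩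
      have := h.cj (g : G)⁻¹
      rwa [cj_inv_cj] at this
  have hcard : Nat.card K.planeStab = 315 * Nat.card (centralizer ({z} : Set G)) := by
    rw [K.card_stab, ← K.card_normA hz hz1]
    omega
  refine ⟨K.planeStab, K.normA_le_stab, K.normB_le_stab, hcard, embed_plane K.plane ?_ K.rho hρ hL hF⟩
  have hle : Nat.card K.planeStab ≤ 120960 := by
    let θ : K.planeStab →* Cfsg.setSystemAut K.planeLines :=
      K.rho.codRestrict _ fun g => K.plane.mem_aut_of_line_image (hL g)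
    exact (Nat.card_le_card_of_injective θ fun g h e => hρ (congrArg Subtype.val e)).trans K.plane.card_aut_le
  obtain ⟨c, hc⟩ : 64 ∣ Nat.card (centralizer ({z} : Set G)) := by
    rw [← K.dat.cS]
    exact card_dvd_of_le (K.dat.le_cent hz)
  have hodd : ¬ 2 ∣ c := fun h => card_two_part S K.dat.cS (by
    refine dvd_trans ?_ (card_subgroup_dvd_card (centralizer ({z} : Set G)))
    rw [hc]
    exact (mul_dvd_mul_left 64 h))
  have h5 : c ≠ 5 := by
    intro e
    haveI : Fact (Nat.Prime 5) := ⟨by norm_num⟩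
    obtain ⟨g, hg⟩ := exists_prime_orderOf_dvd_card' (G := centralizer ({z} : Set G)) 5 (by rw [hc, e]; norm_num)
    have h24 := K.dat.pow24 hz hz1 g.2
    rw [K.small.core_bot K.dat hz hz1, mem_bot] at h24
    have : 5 ∣ 24 := by
      rw [← hg, ← orderOf_coe]
      exact orderOf_dvd_of_pow_eq_one h24
    norm_num at this
  rw [hc] at hcard
  omega

end Two

end CfsgLib.SylL34
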