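import Cfsg.Agent.SylL34.Side
import Cfsg.Agent.Solvable.CoprimeAbelian
import Cfsg.Agent.Solvable.CoprimeAct

/-!
Powers in the centralizer of a central involution, and elements of order five when `A` is normal.
-/

set_option autoImplicit false
set_option linter.unusedSectionVars false
set_option linter.unusedSimpArgs false
set_option linter.style.haveILetI false

namespace CfsgLib.SylL34

open Subgroup

variable {G : Type*} [Group G] [Finite G]

/-- Powers modulo a subgroup normalised by the factor. -/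
theorem pow_mul_mem {O : Subgroup G} {o c : G} (ho : o ∈ O) (hc : c ∈ normalizer (O : Set G)) (k : ℕ) :
    (o * c) ^ k * (c ^ k)⁻¹ ∈ O := by
  induction k with
  | zero => simp
  | succ k ih =>
    rw [pow_succ, pow_succ, show (o * c) ^ k * (o * c) * (c ^ k * c)⁻¹ =
      (o * c) ^ k * (c ^ k)⁻¹ * (c ^ k * o * (c ^ k)⁻¹) by group]
    exact mul_mem ih (conj_mem_of_normalizer (pow_mem hc k) ho)

/-- The odd core of a centralizer in a subgroup containing the centralizer. -/
theorem map_Oc_le {M : Subgroup G} (x : M) (h : centralizer ({(x : G)} : Set G) ≤ M) :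
    (Oc x).map M.subtype ≤ Oc (x : G) := by
  refine le_Oc ?_ (fun c hc => mem_normalizer_of_conj_mem ?_)
    (by rw [card_map_of_injective M.subtype_injective]; exact Oc_odd x)
  · rintro _ ⟨y, hy, rfl⟩
    exact mem_centralizer_singleton_iff.2 (congrArg Subtype.val (Oc_comm hy))
  · rintro _ ⟨y, hy, rfl⟩
    have hc' : (⟨c, h hc⟩ : M) ∈ centralizer ({x} : Set M) :=
      mem_centralizer_singleton_iff.2 (Subtype.ext (mem_centralizer_singleton_iff.1 hc))
    exact ⟨_, conj_mem_of_normalizer (cent_le_normalizer_Oc x hc') hy, rfl⟩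

namespace Dat

variable {S : Sylow 2 G} {A B : Subgroup G} (D : Dat S A B)
include D

/-- Twenty-fourth powers of elements centralizing a central involution lie in the core. -/
theorem pow24 {z g : G} (hz : z ∈ A ⊓ B) (hz1 : z ≠ 1) (hg : g ∈ centralizer ({z} : Set G)) :
    g ^ 24 ∈ Oc z := by
  classical
  obtain ⟨o, ho, n, hn, hnC, rfl⟩ := D.cz_decomp hz hz1 hg
  have hnZ := mem_centZ_iff.1 hnC
  have hnz : n ∈ normalizer (Oc z : Set G) :=
    cent_le_normalizer_Oc z (mem_centralizer_singleton_iff.2 (hnZ z hz))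
  have h24 := pow_mul_mem ho hnz 24
  suffices n ^ 24 ∈ Oc z by simpa using mul_mem h24 this
  obtain ⟨a, ha, haB⟩ := D.exists_noncentral
  have hnA := D.normS_le hn
  -- the images of `a` in three cosets
  have hout : ∀ j : ℕ, n ^ j * a * (n ^ j)⁻¹ ∈ A ∧ n ^ j * a * (n ^ j)⁻¹ ∉ B := fun j =>
    ⟨conj_mem_of_normalizer (pow_mem hnA j) ha, fun h => haB (by
      have := conj_mem_of_normalizer (inv_mem (pow_mem (D.symm.normS_le hn) j)) h
      simpa [mul_assoc] using this)⟩
  obtain ⟨c, hc, hcB, hacB⟩ : ∃ c ∈ A, c ∉ B ∧ a * c ∉ B := by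
    by_contra! h
    haveI := Fintype.ofFinite A
    haveI := Fintype.ofFinite (A ⊓ B : Subgroup G)
    have h8 : Nat.card A ≤ Nat.card ((A ⊓ B : Subgroup G) ⊕ (A ⊓ B : Subgroup G)) := by
      refine Nat.card_le_card_of_injective (fun x : A => if hx : (x : G) ∈ B then Sum.inl ⟨x, x.2, hx⟩
        else Sum.inr ⟨a * x, mul_mem ha x.2, h x x.2 hx⟩) ?_
      intro x y e
      by_cases hx : (x : G) ∈ B <;> by_cases hy : (y : G) ∈ B
      · simp only [dif_pos hx, dif_pos hy] at e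
        exact Subtype.ext (congrArg (fun t : (A ⊓ B : Subgroup G) => (t : G)) (Sum.inl_injective e) :)
      · simp [dif_pos hx, dif_neg hy] at e
      · simp [dif_neg hx, dif_pos hy] at e
      · simp only [dif_neg hx, dif_neg hy] at e
        exact Subtype.ext (mul_left_cancel
          (congrArg (fun t : (A ⊓ B : Subgroup G) => (t : G)) (Sum.inr_injective e)))
    rw [Nat.card_sum, D.cI, D.cA] at h8
    omega
  let f : Fin 4 → Fin 3 := fun j => if a * (n ^ (j : ℕ) * a * (n ^ (j : ℕ))⁻¹) ∈ B then 0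
    else if c * (n ^ (j : ℕ) * a * (n ^ (j : ℕ))⁻¹) ∈ B then 1 else 2
  obtain ⟨i, j, hij, hf⟩ := Fintype.exists_ne_map_eq_of_card_lt f (by simp)
  wlog hlt : i < j generalizing i j
  · exact this j i hij.symm hf.symm (lt_of_le_of_ne (not_lt.1 hlt) hij.symm)
  set x := n ^ (i : ℕ) * a * (n ^ (i : ℕ))⁻¹ with hx
  set y := n ^ (j : ℕ) * a * (n ^ (j : ℕ))⁻¹ with hy
  have hxy : x * y ∈ A ⊓ B := by
    refine mem_inf.2 ⟨mul_mem (hout _).1 (hout _).1, ?_⟩
    have hpair : ∀ p ∈ A, p * x ∈ B → p * y ∈ B → x * y ∈ B := fun p hp h1 h2 => by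
      have := mul_mem h1 h2
      rwa [comm_of_sq D.eA hp (hout _).1, show x * p * (p * y) = x * (p * p) * y by group, D.eA p hp,
        mul_one] at this
    have hcos : ∀ k : ℕ, a * (n ^ k * a * (n ^ k)⁻¹) ∈ B ∨ c * (n ^ k * a * (n ^ k)⁻¹) ∈ B ∨
        a * c * (n ^ k * a * (n ^ k)⁻¹) ∈ B := fun k =>
      (D.cosets ha hc haB hcB hacB (hout k).1).resolve_left (hout k).2
    simp only [f] at hf
    split_ifs at hf with h1 h2 h3 h4 h5 h6
    all_goals first
      | exact absurd hf (by decide)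
      | exact hpair a ha ‹_› ‹_›
      | exact hpair c hc ‹_› ‹_›
      | (refine hpair (a * c) (mul_mem ha hc) ?_ ?_
         · exact ((hcos _).resolve_left ‹_›).resolve_left ‹_›
         · exact ((hcos _).resolve_left ‹_›).resolve_left ‹_›)
  set d := (j : ℕ) - i with hd
  have hd0 : 0 < d := by omega
  have hd3 : d ≤ 3 := by omega
  have hxd : x⁻¹ * (n ^ d * x * (n ^ d)⁻¹) ∈ A ⊓ B := by
    have : n ^ d * x * (n ^ d)⁻¹ = y := by
      rw [hy, hx, show (j : ℕ) = d + i by omega, pow_add]; group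
    rw [this, inv_eq_of_sq (D.eA x (hout _).1)]
    exact hxy
  have hnd : ∀ w ∈ A ⊓ B, n ^ d * w = w * n ^ d := fun w hw => ((show Commute n w from hnZ w hw).pow_left d).eq
  have hall := D.act_any (pow_mem hn d) hnd (D.hA (hout _).1) (fun h => (hout _).2 (mem_inf.1 h).2) hxd
  obtain ⟨o₁, ho₁, w, hw, he⟩ := D.cS_decomp hz hz1 (D.sq_cent hnd hall)
  have hwz : w ∈ centralizer ({z} : Set G) := D.le_cent hz (D.z_le_S hw)
  have h4 : n ^ (4 * d) ∈ Oc z := by
    rw [show 4 * d = d + d + (d + d) by ring, pow_add, pow_add, he,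
      show o₁ * w * (o₁ * w) = o₁ * (w * o₁ * w⁻¹) * (w * w) by group, D.eA w (mem_inf.1 hw).1, mul_one]
    exact mul_mem ho₁ (conj_mem_of_normalizer (cent_le_normalizer_Oc z hwz) ho₁)
  have h6 : d * (6 / d) = 6 := by interval_cases d <;> rfl
  rw [show 24 = 4 * d * (6 / d) by rw [mul_assoc, h6]; norm_num, pow_mul]
  exact pow_mem h4 _

/-- With `A` normal and small centralizers, an odd group normalised by a complement of `A` has order prime
to five. -/
theorem no_five (hSm : Small S A B) (hn : A.Normal) {U X : Subgroup G} (hU : U ≤ B)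
    (hU4 : Nat.card U = 4) (hUA : ∀ u ∈ U, u ∈ A → u = 1) (hUX : U ≤ normalizer (X : Set G))
    (hX : Odd (Nat.card X)) : ¬ 5 ∣ Nat.card X := by
  intro h5
  haveI : Fact (Nat.Prime 2) := ⟨Nat.prime_two⟩
  haveI : Fact (Nat.Prime 5) := ⟨by norm_num⟩
  have hel : Cfsg.IsElementaryAbelian 2 U :=
    ⟨⟨⟨fun a b => Subtype.ext (comm_of_sq D.eB (hU a.2) (hU b.2))⟩⟩,
      fun a ha => by rw [sq]; exact D.eB a (hU ha)⟩
  haveI := hel.1
  have hcop : (Nat.card U).Coprime (Nat.card X) := Signalizer.coprime_card hel hX.not_two_dvd_nat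
  obtain ⟨P, hP⟩ := CfsgLib.CoprimeAct.exists_invariant_sylow hUX hcop (Or.inl (Signalizer.isSolvable hel)) 5
  set P' := (P : Subgroup X).map X.subtype
  have hP' : P' ≠ ⊥ := fun e => by
    have h1 : (P : Subgroup X) = ⊥ := (map_eq_bot_iff_of_injective _ X.subtype_injective).1 e
    exact P.ne_bot_of_dvd_card h5 h1
  have hP2 : ¬ 2 ∣ Nat.card P' := (Odd.of_dvd_nat hX (card_dvd_of_le (map_subtype_le _))).not_two_dvd_nat
  refine hP' (eq_bot_iff.2 (Signalizer.le_of_forall_centralizer hel le_rfl (by rw [hU4]; norm_num) hP hP2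
    fun u hu hu1 y hy => ?_))
  rw [mem_bot]
  obtain ⟨hyP, hyu⟩ := hy
  obtain ⟨k, hk⟩ := (P.2.map X.subtype) ⟨y, hyP⟩
  have hk' : y ^ 5 ^ k = 1 := congrArg Subtype.val hk
  have hyu' : y * u = u * y := mem_centralizer_singleton_iff.1 hyu
  have huA : u ∉ A := fun h => hu1 (hUA u hu h)
  -- `y` permutes the centre
  have hZ : ∀ j : ℕ, ∀ w ∈ A ⊓ B, y ^ j * w * (y ^ j)⁻¹ ∈ A ⊓ B := by
    intro j w hw
    have hA' : y ^ j * w * (y ^ j)⁻¹ ∈ A := hn.conj_mem w (mem_inf.1 hw).1 _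
    refine mem_inf.2 ⟨hA', D.symm.centA (hU hu) huA (D.hA hA') ?_⟩
    have hc : Commute (y ^ j) u := (show Commute y u from hyu').pow_left j
    have hwu : Commute w u := D.cen w hw u (D.hB (hU hu))
    exact ((hc.mul_left hwu).mul_left hc.inv_left).eq
  have hyZ : ∀ w ∈ A ⊓ B, y * w = w * y := by
    intro w hw
    by_cases hw1 : w = 1
    · subst hw1; simp
    let g : Fin 4 → {v : (A ⊓ B : Subgroup G) // v ≠ 1} := fun j => ⟨⟨_, hZ j w hw⟩, fun e =>
      hw1 (conj_eq_one_iff.1 (congrArg Subtype.val e))⟩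
    haveI := Fintype.ofFinite (A ⊓ B : Subgroup G)
    classical
    obtain ⟨i, j, hij, hg⟩ := Fintype.exists_ne_map_eq_of_card_lt g (by
      rw [Fintype.card_subtype_compl, Fintype.card_subtype_eq, Fintype.card_fin, ← Nat.card_eq_fintype_card, D.cI]
      norm_num)
    wlog hlt : i < j generalizing i j
    · exact this j i hij.symm hg.symm (lt_of_le_of_ne (not_lt.1 hlt) hij.symm)
    set d := (j : ℕ) - i with hd
    have hd0 : 0 < d := by omega
    have hd3 : d ≤ 3 := by omega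
    have hfix : Commute (y ^ d) w := by
      have e : y ^ (i : ℕ) * w * (y ^ (i : ℕ))⁻¹ = y ^ (j : ℕ) * w * (y ^ (j : ℕ))⁻¹ :=
        congrArg (fun t => ((t.1 : (A ⊓ B : Subgroup G)) : G)) hg
      rw [show (j : ℕ) = i + d by omega, pow_add,
        show y ^ (i : ℕ) * y ^ d * w * (y ^ (i : ℕ) * y ^ d)⁻¹ =
          y ^ (i : ℕ) * (y ^ d * w * (y ^ d)⁻¹) * (y ^ (i : ℕ))⁻¹ by group] at e
      exact mul_inv_eq_iff_eq_mul.1 (mul_left_cancel (mul_right_cancel e)).symm
    have hco : Nat.Coprime (5 ^ k) d := by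
      refine Nat.Coprime.pow_left k ?_
      interval_cases d <;> norm_num
    obtain ⟨m, hm⟩ := exists_pow_eq_self_of_coprime (x := y)
      (hco.symm.coprime_dvd_right (orderOf_dvd_of_pow_eq_one hk'))
    rw [← hm]
    exact (hfix.pow_left m).eq
  obtain ⟨z, hz, hz1⟩ := D.exists_zne
  have hyS := hSm.cent z hz hz1 (mem_centralizer_singleton_iff.2 (hyZ z hz))
  have hall := D.act_any hyS hyZ (D.hB (hU hu)) (fun h => huA (mem_inf.1 h).1) (by
    rw [hyu', mul_inv_cancel_right, inv_mul_cancel]; exact one_mem _)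
  obtain ⟨m, hm⟩ := S.2 ⟨y * y, hSm.selfS (D.sq_cent hyZ hall)⟩
  have hm' : y ^ 2 ^ (m + 1) = 1 := by
    rw [pow_succ', pow_mul, sq]
    exact congrArg Subtype.val hm
  exact orderOf_eq_one_iff.1 (Nat.eq_one_of_dvd_coprimes (Nat.Coprime.pow (m + 1) k (by norm_num : Nat.Coprime 2 5))
    (orderOf_dvd_of_pow_eq_one hm') (orderOf_dvd_of_pow_eq_one hk'))

end Dat

theorem Small.core_bot {S : Sylow 2 G} {A B : Subgroup G} (D : Dat S A B) (h : Small S A B) {z : G}
    (hz : z ∈ A ⊓ B) (hz1 : z ≠ 1) : Oc z = ⊥ := by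
  refine eq_bot_iff.2 fun o ho => mem_bot.2 ?_
  have hn := h.cent z hz hz1 (Oc_le z ho)
  refine inf_eq_bot_of_odd (Oc_odd z) S.2 ho (h.selfS (mem_centralizer_iff.2 fun x hx => ?_))
  have h1 : o * x * o⁻¹ * x⁻¹ ∈ Oc z := by
    rw [show o * x * o⁻¹ * x⁻¹ = o * (x * o⁻¹ * x⁻¹) by group]
    exact mul_mem ho (conj_mem_of_normalizer (cent_le_normalizer_Oc z (D.le_cent hz hx)) (inv_mem ho))
  have h2 : o * x * o⁻¹ * x⁻¹ ∈ (S : Subgroup G) :=
    mul_mem (conj_mem_of_normalizer hn hx) (inv_mem hx)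
  exact (mul_inv_eq_iff_eq_mul.1 (mul_inv_eq_one.1 (inf_eq_bot_of_odd (Oc_odd z) S.2 h1 h2))).symm

end CfsgLib.SylL34
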