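import Cfsg.Agent.SylL34.Axis

/-!
A fused side, small centralizers, and passage to a quotient by an odd subgroup.
-/

set_option autoImplicit false
set_option linter.unusedSectionVars false
set_option linter.unusedSimpArgs false
set_option linter.style.haveILetI false

namespace CfsgLib.SylL34

open Subgroup

variable {G : Type*} [Group G] [Finite G]

/-- Centralizers of central involutions lie in the Sylow normalizer. -/
structure Small (S : Sylow 2 G) (A B : Subgroup G) : Prop where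
  cent : ∀ z ∈ A ⊓ B, z ≠ 1 → centralizer ({z} : Set G) ≤ normalizer ((S : Subgroup G) : Set G)
  selfS : centralizer ((S : Subgroup G) : Set G) ≤ (S : Subgroup G)

theorem Small.symm {S : Sylow 2 G} {A B : Subgroup G} (h : Small S A B) : Small S B A :=
  ⟨fun z hz => h.cent z (by rwa [inf_comm]), h.selfS⟩

namespace Dat

variable {S : Sylow 2 G} {A B : Subgroup G} (D : Dat S A B)
include D

theorem small_of_core (h : ∀ z ∈ A ⊓ B, z ≠ 1 → Oc z = ⊥) : Small S A B := by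
  refine ⟨fun z hz hz1 g hg => ?_, fun g hg => ?_⟩
  · obtain ⟨o, ho, n, hn, -, rfl⟩ := D.cz_decomp hz hz1 hg
    rw [h z hz hz1, mem_bot] at ho
    rw [ho, one_mul]; exact hn
  · obtain ⟨z, hz, hz1⟩ := D.exists_zne
    obtain ⟨o, ho, w, hw, rfl⟩ := D.cS_decomp hz hz1 hg
    rw [h z hz hz1, mem_bot] at ho
    rw [ho, one_mul]; exact D.z_le_S hw

theorem exists_to (hF : Fus A B) {z e : G} (hz : z ∈ A ⊓ B) (hz1 : z ≠ 1) (he : e ∈ A) (he1 : e ≠ 1) :
    ∃ n ∈ normalizer (A : Set G), n * z * n⁻¹ = e :=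
  D.trans_of_fus hF (mem_inf.1 hz).1 he hz1 he1

theorem bal_fused (hF : Fus A B) {e e' x : G} (he' : e' ∈ A) (he : e ∈ A) (he1 : e ≠ 1) (hx : x ∈ Oc e')
    (hxe : x * e = e * x) : x ∈ Oc e := by
  obtain ⟨z, hz, hz1⟩ := D.exists_zne
  obtain ⟨n, hn, rfl⟩ := D.exists_to hF hz hz1 he he1
  have h := D.bal_z hz hz1 (e := n⁻¹ * e' * n)
    (Or.inl (by simpa using conj_mem_of_normalizer (inv_mem hn) he'))
    (x := n⁻¹ * x * n) (by simpa using conj_mem_Oc (g := n⁻¹) hx) (by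
      calc n⁻¹ * x * n * z = n⁻¹ * (x * (n * z * n⁻¹)) * n := by group
        _ = n⁻¹ * (n * z * n⁻¹ * x) * n := by rw [hxe]
        _ = z * (n⁻¹ * x * n) := by group)
  simpa [mul_assoc] using conj_mem_Oc (g := n) h

theorem cent_fused (hF : Fus A B) {e g : G} (he : e ∈ A) (he1 : e ≠ 1)
    (hg : g ∈ centralizer ({e} : Set G)) : ∃ o ∈ Oc e, ∃ m ∈ normalizer (A : Set G), g = o * m := by
  obtain ⟨z, hz, hz1⟩ := D.exists_zne
  obtain ⟨n, hn, rfl⟩ := D.exists_to hF hz hz1 he he1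
  obtain ⟨o, ho, m, hm, -, e'⟩ := D.cz_decomp hz hz1 (cent_conj.1 hg)
  refine ⟨n * o * n⁻¹, conj_mem_Oc ho, n * m * n⁻¹, mul_mem (mul_mem hn (D.normS_le hm)) (inv_mem hn), ?_⟩
  calc g = n * (n⁻¹ * g * n) * n⁻¹ := by group
    _ = n * (o * m) * n⁻¹ := by rw [e']
    _ = _ := by group

/-- The signalizer of a fused side. -/
theorem fused_closure (hF : Fus A B) :
    ∃ W : Subgroup G, Odd (Nat.card W) ∧ (∀ a ∈ A, a ≠ 1 → Oc a ≤ W) ∧
      normalizer (A : Set G) ≤ normalizer (W : Set G) ∧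
      (∀ a ∈ A, a ≠ 1 → centralizer ({a} : Set G) ≤ normalizer (W : Set G)) ∧
      W ≤ ⨆ e : {e : G // e ∈ A ⊓ B ∧ e ≠ 1}, Oc (e : G) := by
  obtain ⟨W, hWodd, hWle, -, hWN, hWgen⟩ := closure_props D.eA (by rw [D.cA]; norm_num)
    (fun a ha _ b hb hb1 x hx hxb => D.bal_fused hF ha hb hb1 hx hxb)
  refine ⟨W, hWodd, hWle, hWN, fun a ha ha1 g hg => ?_, hWgen _ inf_le_left (by rw [D.cI])⟩
  obtain ⟨o, ho, m, hm, rfl⟩ := D.cent_fused hF ha ha1 hg
  exact mul_mem (le_normalizer (hWle a ha ha1 ho)) (hWN hm)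

theorem map_inj {H : Type*} [Group H] {f : G →* H} (hker : Odd (Nat.card f.ker)) {x y : G}
    (hx : x ∈ (S : Subgroup G)) (hy : y ∈ (S : Subgroup G)) (h : f x = f y) : x = y := by
  have h1 : x * y⁻¹ ∈ f.ker := by rw [MonoidHom.mem_ker, map_mul, map_inv, h, mul_inv_cancel]
  exact mul_inv_eq_one.1 (inf_eq_bot_of_odd hker S.2 h1 (mul_mem hx (inv_mem hy)))

theorem map_card {H : Type*} [Group H] {f : G →* H} (hker : Odd (Nat.card f.ker)) {X : Subgroup G}
    (hX : X ≤ (S : Subgroup G)) : Nat.card (X.map f) = Nat.card X :=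
  (Nat.card_congr (Equiv.ofBijective (fun x : X => (⟨f x, mem_map_of_mem f x.2⟩ : X.map f))
    ⟨fun x y e => Subtype.ext (D.map_inj hker (hX x.2) (hX y.2) (congrArg Subtype.val e)),
      fun ⟨_, x, hx, e⟩ => ⟨⟨x, hx⟩, Subtype.ext e⟩⟩)).symm

theorem map_inf_eq {H : Type*} [Group H] {f : G →* H} (hker : Odd (Nat.card f.ker)) :
    A.map f ⊓ B.map f = (A ⊓ B).map f := by
  refine le_antisymm ?_ (map_inf_le _ _ _)
  rintro _ ⟨⟨a, ha, rfl⟩, b, hb, hab⟩
  obtain rfl := D.map_inj hker (D.hB hb) (D.hA ha) hab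
  exact mem_map_of_mem f (mem_inf.2 ⟨ha, hb⟩)

/-- The image in a quotient by an odd subgroup. -/
theorem map {H : Type*} [Group H] [Finite H] {f : G →* H} (hf : Function.Surjective f)
    (hker : Odd (Nat.card f.ker)) :
    haveI : Fact (Nat.Prime 2) := ⟨Nat.prime_two⟩
    Dat (S.mapSurjective hf) (A.map f) (B.map f) := by
  haveI : Fact (Nat.Prime 2) := ⟨Nat.prime_two⟩
  refine ⟨map_mono D.hA, map_mono D.hB, ?_, ?_, by rw [D.map_card hker D.hA, D.cA],
    by rw [D.map_card hker D.hB, D.cB], by rw [D.map_inf_eq hker, D.map_card hker D.z_le_S, D.cI],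
    (D.map_card hker le_rfl).trans D.cS, ?_, ?_, ?_⟩
  · rintro _ ⟨x, hx, rfl⟩
    rw [← map_mul, D.eA x hx, map_one]
  · rintro _ ⟨x, hx, rfl⟩
    rw [← map_mul, D.eB x hx, map_one]
  · rintro _ ⟨x, hx, rfl⟩ h
    rw [← map_mul, ← map_one f] at h
    rcases D.inv x hx (D.map_inj hker (mul_mem hx hx) (one_mem _) h) with h' | h'
    · exact Or.inl (mem_map_of_mem f h')
    · exact Or.inr (mem_map_of_mem f h')
  · intro w hw y hy
    rw [D.map_inf_eq hker] at hw
    obtain ⟨w, hw', rfl⟩ := hw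
    obtain ⟨x, hx, rfl⟩ := hy
    rw [← map_mul, ← map_mul, D.cen w hw' x hx]
  · rintro _ ⟨a, ha, rfl⟩ haB _ ⟨b, hb, rfl⟩ h
    rw [← map_mul, ← map_mul] at h
    exact mem_map_of_mem f (D.selfA a ha (fun e => haB (mem_map_of_mem f e)) b hb
      (D.map_inj hker (mul_mem (D.hA ha) (D.hB hb)) (mul_mem (D.hB hb) (D.hA ha)) h))

theorem fus_map {H : Type*} [Group H] {f : G →* H} (hker : Odd (Nat.card f.ker)) (hF : Fus A B) :
    Fus (A.map f) (B.map f) := by
  obtain ⟨a, ha, haB, z, hz, hc⟩ := hF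
  refine ⟨f a, mem_map_of_mem f ha, ?_, f z, map_inf_le _ _ _ (mem_map_of_mem f hz), f.map_isConj hc⟩
  rintro ⟨b, hb, e⟩
  exact haB (D.map_inj hker (D.hB hb) (D.hA ha) e ▸ hb)

/-- Conjugacy of involutions pulls back through an odd kernel. -/
theorem isConj_of_map {H : Type*} [Group H] {f : G →* H} (hf : Function.Surjective f)
    (hker : Odd (Nat.card f.ker)) {x y : G} (hx : x ∈ (S : Subgroup G)) (hy : y ∈ (S : Subgroup G))
    (hx2 : x * x = 1) (hy2 : y * y = 1) (h : IsConj (f x) (f y)) : IsConj x y := by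
  by_cases hy1 : y = 1
  · subst hy1
    rw [map_one] at h
    obtain ⟨v, hv⟩ := isConj_iff.1 h
    rw [conj_eq_one_iff, ← map_one f] at hv
    rw [D.map_inj hker hx (one_mem _) hv]
  obtain ⟨v, hv⟩ := isConj_iff.1 h
  obtain ⟨g, rfl⟩ := hf v
  have hgx2 := conj_sq g x hx2
  have hfy : f (g * x * g⁻¹) = f y := by rw [map_mul, map_mul, map_inv, hv]
  have hgx1 : g * x * g⁻¹ ≠ 1 := fun e => hy1 (D.map_inj hker hy (one_mem _) (by rw [← hfy, e]))
  have hmem : g * x * g⁻¹ * y ∈ f.ker := by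
    rw [MonoidHom.mem_ker, map_mul, hfy, ← map_mul, hy2, map_one]
  obtain ⟨o, -, ho⟩ := exists_conj_mod hker (Invol.orderOf_eq_two hy2 hy1) (Invol.orderOf_eq_two hgx2 hgx1) hmem
  exact isConj_iff.2 ⟨o⁻¹ * g, by
    calc o⁻¹ * g * x * (o⁻¹ * g)⁻¹ = o⁻¹ * (g * x * g⁻¹) * o := by group
      _ = o⁻¹ * (o * y * o⁻¹) * o := by rw [ho]
      _ = y := by group⟩

theorem not_fus_map {H : Type*} [Group H] {f : G →* H} (hf : Function.Surjective f)
    (hker : Odd (Nat.card f.ker)) (hF : ¬ Fus A B) : ¬ Fus (A.map f) (B.map f) := by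
  rintro ⟨_, ⟨a, ha, rfl⟩, haB, w, hw, hc⟩
  rw [D.map_inf_eq hker] at hw
  obtain ⟨z, hz, rfl⟩ := hw
  exact hF ⟨a, ha, fun e => haB (mem_map_of_mem f e), z, hz,
    D.isConj_of_map hf hker (D.hA ha) (D.z_le_S hz) (D.eA a ha) (D.eA z (mem_inf.1 hz).1) hc⟩

theorem small_map {H : Type*} [Group H] [Finite H] {f : G →* H} (hf : Function.Surjective f)
    (hker : Odd (Nat.card f.ker)) (hO : ∀ z ∈ A ⊓ B, z ≠ 1 → Oc z ≤ f.ker) :
    haveI : Fact (Nat.Prime 2) := ⟨Nat.prime_two⟩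
    Small (S.mapSurjective hf) (A.map f) (B.map f) := by
  haveI : Fact (Nat.Prime 2) := ⟨Nat.prime_two⟩
  refine ⟨fun w hw hw1 v hv => ?_, fun v hv => ?_⟩
  · rw [D.map_inf_eq hker] at hw
    obtain ⟨z, hz, rfl⟩ := hw
    obtain ⟨g, rfl⟩ := hf v
    have hz1 : z ≠ 1 := fun e => hw1 (by rw [e, map_one])
    have hz2 := D.eA z (mem_inf.1 hz).1
    have hc : f g * f z = f z * f g := mem_centralizer_singleton_iff.1 hv
    have hmem : g * z * g⁻¹ * z ∈ f.ker := by
      rw [MonoidHom.mem_ker, map_mul, map_mul, map_mul, map_inv, hc, mul_inv_cancel_right, ← map_mul, hz2,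
        map_one]
    obtain ⟨o, ho, hoz⟩ := exists_conj_mod hker (Invol.orderOf_eq_two hz2 hz1)
      (Invol.orderOf_eq_two (conj_sq g z hz2) fun e => hz1 (conj_eq_one_iff.1 e)) hmem
    have h1 : o⁻¹ * g ∈ centralizer ({z} : Set G) := by
      refine mem_centralizer_singleton_iff.2 ?_
      calc o⁻¹ * g * z = o⁻¹ * (g * z * g⁻¹) * g := by group
        _ = o⁻¹ * (o * z * o⁻¹) * g := by rw [hoz]
        _ = z * (o⁻¹ * g) := by group
    obtain ⟨o', ho', n, hn, -, e⟩ := D.cz_decomp hz hz1 h1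
    have : f g = f n := by
      rw [show g = o * (o' * n) by rw [← e]; group, map_mul, map_mul, MonoidHom.mem_ker.1 ho,
        MonoidHom.mem_ker.1 (hO z hz hz1 ho'), one_mul, one_mul]
    rw [this]
    exact le_normalizer_map f (mem_map_of_mem f hn)
  · have hv' : v ∈ normalizer (((S : Subgroup G).map f : Subgroup H) : Set H) := centralizer_le_normalizer _ hv
    obtain ⟨n, hn, rfl⟩ := sylow_lift f hf S hv'
    obtain ⟨z, hz, hz1⟩ := D.exists_zne
    have hnS : n ∈ centralizer ((S : Subgroup G) : Set G) := mem_centralizer_iff.2 fun x hx => by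
      refine (mul_inv_eq_iff_eq_mul.1 (D.map_inj hker (conj_mem_of_normalizer hn hx) hx ?_)).symm
      rw [map_mul, map_mul, map_inv, ← mem_centralizer_iff.1 hv (f x) (mem_map_of_mem f hx),
        mul_inv_cancel_right]
    obtain ⟨o, ho, w, hw, rfl⟩ := D.cS_decomp hz hz1 hnS
    rw [map_mul, MonoidHom.mem_ker.1 (hO z hz hz1 ho), one_mul]
    exact mem_map_of_mem f (D.z_le_S hw)

end Dat

end CfsgLib.SylL34
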