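import Cfsg.Agent.SylL34.Incidence
import Mathlib.GroupTheory.Nilpotent
import Mathlib.GroupTheory.Perm.Cycle.Type

/-!
Both sides fused: odd elements inverted by involutions, and a triangle.
-/

set_option autoImplicit false
set_option linter.unusedSectionVars false
set_option linter.unusedSimpArgs false
set_option linter.style.haveILetI false

namespace CfsgLib.SylL34

open Subgroup

variable {G : Type*} [Group G] [Finite G]

/-- An odd element normalising a 2-group and inverted by one of its elements is trivial. -/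
theorem odd_inverted {P : Subgroup G} (hP : IsPGroup 2 P) {s y : G} (hs : s ∈ P)
    (hy : y ∈ normalizer (P : Set G)) (ho : Odd (orderOf y)) (h : s * y * s⁻¹ = y⁻¹) : y = 1 := by
  have hm : y * y ∈ P := by
    have h' : s * y⁻¹ * s⁻¹ = y := by
      have := congrArg (fun t : G => t⁻¹) h
      simpa [mul_assoc] using this
    conv => arg 2; arg 2; rw [← h']
    rw [show y * (s * y⁻¹ * s⁻¹) = y * s * y⁻¹ * s⁻¹ by group]
    exact mul_mem (conj_mem_of_normalizer hy hs) (inv_mem hs)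
  obtain ⟨k, hk⟩ := hP ⟨_, hm⟩
  exact eq_one_odd_two (k := k + 1) ho (by
    rw [pow_succ', pow_mul, sq]
    exact congrArg Subtype.val hk)

/-- Odd powers of an inverting element invert. -/
theorem inverts_odd {g y : G} (h : g * y * g⁻¹ = y⁻¹) (j : ℕ) :
    g ^ (2 * j + 1) * y * (g ^ (2 * j + 1))⁻¹ = y⁻¹ := by
  have h' : g * y⁻¹ * g⁻¹ = y := by
    have := congrArg (fun t : G => t⁻¹) h
    simpa [mul_assoc] using this
  have hc : g ^ (2 * j) * y * (g ^ (2 * j))⁻¹ = y := by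
    induction j with
    | zero => simp
    | succ j ih =>
      rw [show 2 * (j + 1) = 2 + 2 * j by ring, pow_add,
        show g ^ 2 * g ^ (2 * j) * y * (g ^ 2 * g ^ (2 * j))⁻¹ =
          g ^ 2 * (g ^ (2 * j) * y * (g ^ (2 * j))⁻¹) * (g ^ 2)⁻¹ by group, ih, sq,
        show g * g * y * (g * g)⁻¹ = g * (g * y * g⁻¹) * g⁻¹ by group, h, h']
  rw [pow_succ', show g * g ^ (2 * j) * y * (g * g ^ (2 * j))⁻¹ =
    g * (g ^ (2 * j) * y * (g ^ (2 * j))⁻¹) * g⁻¹ by group, hc, h]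

/-- A walk in a dihedral group of permutations. -/
theorem walk {F : Type*} [Finite F] (T₁ T₂ U : Equiv.Perm F) (h₁ : T₁ * T₁ = 1) (h₂ : T₂ * T₂ = 1)
    (f₁ : ∀ x, T₁ x ≠ x) (f₂ : ∀ x, T₂ x ≠ x) (c₁ : Commute U T₁) (c₂ : Commute U T₂) {e : F} (he : U e = T₁ e) :
    ∃ x, U x = T₂ x ∨ (U x = T₁ x ∧ x ≠ e ∧ x ≠ T₁ e) := by
  classical
  set R := T₁ * T₂ with hR
  have hinv : T₁ * R * T₁⁻¹ = R⁻¹ := by
    rw [hR, mul_inv_rev, inv_eq_of_sq h₁, inv_eq_of_sq h₂, ← mul_assoc, h₁, one_mul]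
  have hflip : ∀ j : ℕ, T₁ * R ^ j = (R ^ j)⁻¹ * T₁ := by
    intro j
    have := conj_pow (i := j) (a := T₁) (b := R)
    rw [hinv, inv_pow] at this
    rw [this]
    group
  have hflip' : ∀ j : ℕ, R ^ j * T₁ = T₁ * (R ^ j)⁻¹ := fun j => by
    calc R ^ j * T₁ = T₁ * (T₁ * R ^ j) * T₁ := by rw [← mul_assoc T₁ T₁, h₁, one_mul]
      _ = T₁ * (R ^ j)⁻¹ := by rw [hflip, mul_assoc, mul_assoc, h₁, mul_one]
  have hT₂ : T₂ = T₁ * R := by rw [hR, ← mul_assoc, h₁, one_mul]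
  have hTR : T₂ = R⁻¹ * T₁ := by rw [hT₂]; simpa using hflip 1
  -- the orbit of `e` does not contain its mate
  have hmate : ∀ j : ℕ, (R ^ j) e ≠ T₁ e := by
    intro j hj
    have hsym : T₁ ((R ^ j) e) = e := by
      rw [hj, ← Equiv.Perm.mul_apply, h₁, Equiv.Perm.one_apply]
    rcases Nat.even_or_odd' j with ⟨i, rfl | rfl⟩
    · refine f₁ ((R ^ i) e) ?_
      have : (T₁ * R ^ i) e = (R ^ i * (T₁ * R ^ (2 * i))) e := by
        rw [hflip i, hflip (2 * i), two_mul i, pow_add]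
        simp [mul_assoc]
      rw [Equiv.Perm.mul_apply, Equiv.Perm.mul_apply, Equiv.Perm.mul_apply] at this
      rwa [hsym] at this
    · refine f₂ ((R ^ i) e) ?_
      have : (T₂ * R ^ i) e = (R ^ i * (T₁ * R ^ (2 * i + 1))) e := by
        rw [hTR, mul_assoc, hflip i, hflip (2 * i + 1), show 2 * i + 1 = i + 1 + i by ring, pow_add, pow_succ]
        simp [mul_assoc]
      rw [Equiv.Perm.mul_apply, Equiv.Perm.mul_apply, Equiv.Perm.mul_apply] at this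
      rwa [hsym] at this
  have hex : ∃ n, 0 < n ∧ (R ^ n) e = e :=
    ⟨orderOf R, (isOfFinOrder_of_finite R).orderOf_pos, by rw [pow_orderOf_eq_one, Equiv.Perm.one_apply]⟩
  obtain ⟨hn0, hne⟩ := Nat.find_spec hex
  set n := Nat.find hex with hn
  have hU : ∀ j : ℕ, U ((R ^ j) e) = (R ^ j * T₁) e := by
    intro j
    have hc : Commute U (R ^ j) := (c₁.mul_right c₂).pow_right j
    rw [← Equiv.Perm.mul_apply, hc.eq, Equiv.Perm.mul_apply, he, ← Equiv.Perm.mul_apply]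
  rcases Nat.even_or_odd' n with ⟨i, hi | hi⟩
  · refine ⟨(R ^ i) e, Or.inr ⟨?_, ?_, hmate i⟩⟩
    · have h1 : ((R ^ i)⁻¹) e = (R ^ i) e := by
        rw [Equiv.Perm.inv_eq_iff_eq, ← Equiv.Perm.mul_apply, ← pow_add, ← two_mul, ← hi, hne]
      rw [hU, hflip', Equiv.Perm.mul_apply, h1]
    · exact fun h => Nat.find_min hex (m := i) (by omega) ⟨by omega, h⟩
  · refine ⟨(R ^ i) e, Or.inl ?_⟩
    have h1 : ((R ^ i)⁻¹) e = (R ^ (i + 1)) e := by
      rw [Equiv.Perm.inv_eq_iff_eq, ← Equiv.Perm.mul_apply, ← pow_add, show i + (i + 1) = 2 * i + 1 by ring,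
        ← hi, hne]
    rw [hU, hflip', Equiv.Perm.mul_apply, h1, hT₂, pow_succ']
    rfl

/-- Odd, nontrivial, inverted by an involution. -/
def Inverted (y : G) : Prop := Odd (orderOf y) ∧ y ≠ 1 ∧ ∃ u : G, u * u = 1 ∧ u * y * u⁻¹ = y⁻¹

theorem Inverted.conj {y : G} (h : Inverted y) (g : G) : Inverted (g * y * g⁻¹) := by
  obtain ⟨ho, hy, u, hu, e⟩ := h
  refine ⟨by rwa [Invol.orderOf_conj_eq], fun e' => hy (conj_eq_one_iff.1 e'), g * u * g⁻¹, conj_sq g u hu, ?_⟩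
  calc g * u * g⁻¹ * (g * y * g⁻¹) * (g * u * g⁻¹)⁻¹ = g * (u * y * u⁻¹) * g⁻¹ := by group
    _ = _ := by rw [e]; group

namespace Two

variable {S : Sylow 2 G} {A B : Subgroup G} (K : Two S A B)
include K

theorem normZ {g : G} (h : cj g (A ⊓ B) = A ⊓ B) : g ∈ normalizer ((S : Subgroup G) : Set G) := by
  obtain ⟨z, hz, hz1⟩ := K.dat.exists_zne
  have hw : g * z * g⁻¹ ∈ A ⊓ B := h ▸ conj_mem_cj.2 hz
  obtain ⟨n, hn, e⟩ := K.dat.burn hz hw rfl
  have h1 : n⁻¹ * g ∈ centralizer ({z} : Set G) := mem_centralizer_singleton_iff.2 (by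
    calc n⁻¹ * g * z = n⁻¹ * (g * z * g⁻¹) * g := by group
      _ = n⁻¹ * (n * z * n⁻¹) * g := by rw [e]
      _ = z * (n⁻¹ * g) := by group)
  simpa using mul_mem hn (K.small.cent z hz hz1 h1)

/-- An element of odd order of `C(z)` is inverted by no involution. -/
theorem no_inverted_z {z y : G} (hz : z ∈ A ⊓ B) (hz1 : z ≠ 1) (hy : y * z = z * y) : ¬ Inverted y := by
  haveI : Fact (Nat.Prime 2) := ⟨Nat.prime_two⟩
  rintro ⟨ho, hy1, u, -, hinv⟩
  obtain ⟨o, hoz, y', hyN, hyC, e⟩ := K.dat.cz_decomp hz hz1 (mem_centralizer_singleton_iff.2 hy)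
  rw [K.small.core_bot K.dat hz hz1, mem_bot] at hoz
  obtain rfl : y = y' := by rw [e, hoz, one_mul]
  have hyZ := mem_centZ_iff.1 hyC
  have hCS : ∀ x ∈ (S : Subgroup G), x * y = y * x → x ∈ A ⊓ B := by
    intro x hx hxy
    by_contra hxZ
    have hall := K.dat.act_any hyN hyZ hx hxZ (by
      rw [← hxy, mul_inv_cancel_right, inv_mul_cancel]; exact one_mem _)
    obtain ⟨k, hk⟩ := S.2 ⟨_, K.small.selfS (K.dat.sq_cent hyZ hall)⟩
    exact hy1 (eq_one_odd_two (k := k + 1) ho (by rw [pow_succ', pow_mul, sq]; exact congrArg Subtype.val hk))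
  set C := centralizer ({y} : Set G)
  set Z := A ⊓ B
  have hZC : Z ≤ C := fun w hw => mem_centralizer_singleton_iff.2 (hyZ w hw).symm
  have hZ2 : IsPGroup 2 Z := isPGroup_of_sq fun w hw => K.dat.eA w hw.1
  obtain ⟨Q, hQ⟩ := (hZ2.comap_subtype : IsPGroup 2 (Z.subgroupOf C)).exists_le_sylow
  have hQZ : (Q : Subgroup C) ≤ Z.subgroupOf C := by
    haveI : Group.IsNilpotent (Q : Subgroup C) := Q.2.isNilpotent
    by_contra hlt
    have hne : (Z.subgroupOf C).subgroupOf (Q : Subgroup C) < ⊤ :=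
      lt_top_iff_ne_top.2 fun e => hlt (subgroupOf_eq_top.1 e)
    obtain ⟨t, ht, htZ⟩ := SetLike.exists_of_lt (Group.normalizerCondition_of_isNilpotent _ hne)
    have htn : ((t : C) : G) ∈ normalizer ((S : Subgroup G) : Set G) := by
      refine K.normZ (cj_eq_of_conj_mem fun w hw => ?_)
      exact (mem_normalizer_iff.1 ht ⟨⟨w, hZC hw⟩, hQ hw⟩).1 hw
    obtain ⟨k, hk⟩ := Q.2 t
    exact htZ (hCS _ (mem_of_two (congrArg (fun q : (Q : Subgroup C) => ((q : C) : G)) hk) htn)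
      (mem_centralizer_singleton_iff.1 (t : C).2))
  have hcu : cj u Z ≤ C := by
    intro x hx
    rw [mem_cj] at hx
    refine mem_centralizer_singleton_iff.2 ?_
    have hc : Commute (u⁻¹ * x * u) y⁻¹ := (show Commute (u⁻¹ * x * u) y from (hyZ _ hx).symm).inv_right
    calc x * y = u * ((u⁻¹ * x * u) * (u⁻¹ * y * u)) * u⁻¹ := by group
      _ = u * ((u⁻¹ * x * u) * y⁻¹) * u⁻¹ := by
          rw [show u⁻¹ * y * u = y⁻¹ by
            calc u⁻¹ * y * u = u⁻¹ * (y⁻¹)⁻¹ * u := by rw [inv_inv]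
              _ = u⁻¹ * (u * y * u⁻¹)⁻¹ * u := by rw [hinv]
              _ = y⁻¹ := by group]
      _ = u * (y⁻¹ * (u⁻¹ * x * u)) * u⁻¹ := by rw [hc.eq]
      _ = (u * y * u⁻¹)⁻¹ * x := by group
      _ = y * x := by rw [hinv, inv_inv]
  obtain ⟨c, hc⟩ := exists_cj_le Q ((hZ2.map _).comap_subtype : IsPGroup 2 ((cj u Z).subgroupOf C))
  have hg : (c : G) * u ∈ normalizer ((S : Subgroup G) : Set G) := by
    refine K.normZ (cj_eq_of_conj_mem fun w hw => ?_)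
    have hw' : u * w * u⁻¹ ∈ cj u Z := conj_mem_cj.2 hw
    have := hQZ (hc ((conj_mem_cj (g := c)).2 (show (⟨_, hcu hw'⟩ : C) ∈ (cj u Z).subgroupOf C from hw')))
    show (c : G) * u * w * ((c : G) * u)⁻¹ ∈ Z
    rw [show (c : G) * u * w * ((c : G) * u)⁻¹ = c * (u * w * u⁻¹) * (c : G)⁻¹ by group]
    exact this
  have hgi : (c : G) * u * y * ((c : G) * u)⁻¹ = y⁻¹ := by
    rw [show (c : G) * u * y * ((c : G) * u)⁻¹ = c * (u * y * u⁻¹) * (c : G)⁻¹ by group, hinv]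
    exact mul_inv_eq_iff_eq_mul.2 (show Commute (c : G) y from mem_centralizer_singleton_iff.1 c.2).inv_right.eq
  obtain ⟨m, k, ⟨j, rfl⟩, hk⟩ := exists_odd_pow ((c : G) * u)
  exact hy1 (odd_inverted S.2 (mem_of_two hk (pow_mem hg _)) hyN ho (inverts_odd hgi j))

/-- An inverted element centralizes no involution. -/
theorem no_commuting {y t : G} (hy : Inverted y) (ht : t * t = 1) (ht1 : t ≠ 1) : y * t ≠ t * y := by
  intro hc
  obtain ⟨g, hg⟩ := exists_conj_mem S ht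
  obtain ⟨z, hz, hz1⟩ := K.dat.exists_zne
  have h2 := conj_sq g t ht
  have h1 : g * t * g⁻¹ ≠ 1 := fun e => ht1 (conj_eq_one_iff.1 e)
  obtain ⟨n, e⟩ : ∃ n : G, n * z * n⁻¹ = g * t * g⁻¹ := by
    rcases K.dat.inv _ hg h2 with h | h
    · exact ⟨_, (K.dat.exists_to K.fA hz hz1 h h1).choose_spec.2⟩
    · exact ⟨_, (K.dat.symm.exists_to K.fB (by rwa [inf_comm]) hz1 h h1).choose_spec.2⟩
  refine K.no_inverted_z hz hz1 ?_ (hy.conj (n⁻¹ * g))
  rw [show z = n⁻¹ * g * t * (n⁻¹ * g)⁻¹ by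
    rw [show n⁻¹ * g * t * (n⁻¹ * g)⁻¹ = n⁻¹ * (g * t * g⁻¹) * n by group, ← e]; group,
    show n⁻¹ * g * y * (n⁻¹ * g)⁻¹ * (n⁻¹ * g * t * (n⁻¹ * g)⁻¹) = n⁻¹ * g * (y * t) * (n⁻¹ * g)⁻¹ by group, hc]
  group

theorem not_all_fixed {δ : G} (hδ : Inverted δ) (hA : cj δ A = A) (hB : cj δ B = B)
    (h : ∀ Y, IsCj B Y → Inc A Y → cj δ Y = Y) : False := by
  obtain ⟨Y, hY, hYA, hYB⟩ : ∃ Y, IsCj B Y ∧ Inc A Y ∧ Y ≠ B := by
    by_contra! hno
    haveI : Subsingleton K.Lns := ⟨fun p q => Subtype.ext ((hno p.1 p.2.1 p.2.2).trans (hno q.1 q.2.1 q.2.2).symm)⟩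
    have := K.card_lines
    rw [Nat.card_of_subsingleton ⟨B, IsCj.self B, K.inc_base⟩] at this
    omega
  obtain ⟨b, hb, hbA⟩ := K.dat.symm.exists_noncentral
  have hnA := mem_normalizer_of_cj hA
  have hnB := mem_normalizer_of_cj hB
  have hd := conj_mem_of_normalizer hnB hb
  have hw : b⁻¹ * (δ * b * δ⁻¹) ∈ A ⊓ B := by
    have hwB : b⁻¹ * (δ * b * δ⁻¹) ∈ B := mul_mem (inv_mem hb) hd
    refine ⟨K.regular_base hY hYA hYB hwB ?_, hwB⟩
    have h1 : cj δ⁻¹ Y = Y := by conv_lhs => rw [← h Y hY hYA, cj_inv_cj]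
    have hbA' : Inc A (cj b Y) := by
      have := hYA.cj b
      rwa [cj_of_mem_normalizer (K.dat.le_normA (K.dat.hB hb))] at this
    rw [← cj_cj, ← cj_cj, ← cj_cj, h1, h _ (hY.cj b) hbA', cj_inv_cj]
  set w := b⁻¹ * (δ * b * δ⁻¹) with hw'
  have hZ : ∀ v ∈ A ⊓ B, δ * v * δ⁻¹ ∈ A ⊓ B := fun v hv =>
    ⟨conj_mem_of_normalizer hnA hv.1, conj_mem_of_normalizer hnB hv.2⟩
  let f : (A ⊓ B : Subgroup G) → (A ⊓ B : Subgroup G) := fun v =>
    ⟨δ * v * δ⁻¹ * v, mul_mem (hZ v v.2) v.2⟩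
  have hf : Function.Injective f := by
    intro v v' e
    have e' : δ * v * δ⁻¹ * v = δ * v' * δ⁻¹ * v' := congrArg Subtype.val e
    by_contra hne
    have hp : (v : G) * v' ≠ 1 := fun e => hne (Subtype.ext (by
      rw [← inv_eq_of_sq (K.dat.eA v' v'.2.1)]; exact eq_inv_of_mul_eq_one_left e))
    refine K.no_commuting hδ (K.dat.eA _ (mul_mem v.2 v'.2).1) hp (commute_of_conj_eq ?_)
    have ha := (hZ v v.2).1
    have ha' := (hZ v' v'.2).1
    rw [conj_mul_conj]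
    calc δ * v * δ⁻¹ * (δ * v' * δ⁻¹)
        = δ * v * δ⁻¹ * v * (v : G)⁻¹ * (δ * v' * δ⁻¹) := by group
      _ = δ * v' * δ⁻¹ * v' * (v : G)⁻¹ * (δ * v' * δ⁻¹) := by rw [e']
      _ = δ * v' * δ⁻¹ * ((v' * v) * (δ * v' * δ⁻¹)) := by rw [inv_eq_of_sq (K.dat.eA v v.2.1)]; group
      _ = δ * v' * δ⁻¹ * ((δ * v' * δ⁻¹) * (v' * v)) := by
          rw [comm_of_sq K.dat.eA (mul_mem v'.2.1 v.2.1) ha']
      _ = v' * v := by rw [← mul_assoc, K.dat.eA _ ha', one_mul]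
      _ = v * v' := comm_of_sq K.dat.eA v'.2.1 v.2.1
  obtain ⟨v, hv⟩ := Finite.injective_iff_surjective.1 hf ⟨w, hw⟩
  have e : δ * v * δ⁻¹ * v = w := congrArg Subtype.val hv
  refine K.no_commuting hδ (t := b * v) (K.dat.eB _ (mul_mem hb v.2.2))
    (fun e' => hbA (by rw [eq_inv_of_mul_eq_one_left e']; exact inv_mem v.2.1)) (commute_of_conj_eq ?_)
  have e2 : δ * v * δ⁻¹ = w * v := by rw [← e, mul_assoc _ (v : G) v, K.dat.eA v v.2.1, mul_one]
  rw [conj_mul_conj, show δ * b * δ⁻¹ = b * w by rw [hw', mul_inv_cancel_left], e2, mul_assoc, ← mul_assoc w,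
    K.dat.eA w hw.1, one_mul]

/-- An inverted element fixing a flag fixes exactly one more line. -/
theorem two_base {δ : G} (hδ : Inverted δ) (hA : cj δ A = A) (hB : cj δ B = B) :
    ∃ Y, IsCj B Y ∧ Inc A Y ∧ Y ≠ B ∧ cj δ Y = Y ∧
      ∀ Y', IsCj B Y' → Inc A Y' → cj δ Y' = Y' → Y' = B ∨ Y' = Y := by
  classical
  haveI := Fintype.ofFinite K.Lns
  have hmem : ∀ g : G, cj g A = A → ∀ Y : K.Lns, IsCj B (cj g Y.1) ∧ Inc A (cj g Y.1) := fun g hg Y =>
    ⟨Y.2.1.cj g, by simpa [hg] using Y.2.2.cj g⟩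
  have hA' : cj δ⁻¹ A = A := by conv_lhs => rw [← hA, cj_inv_cj]
  let σ : Equiv.Perm K.Lns :=
    { toFun := fun Y => ⟨cj δ Y.1, hmem δ hA Y⟩
      invFun := fun Y => ⟨cj δ⁻¹ Y.1, hmem δ⁻¹ hA' Y⟩
      left_inv := fun Y => Subtype.ext (cj_inv_cj _ _)
      right_inv := fun Y => Subtype.ext (by simp only [cj_cj, mul_inv_cancel, cj_one]) }
  have hpow : ∀ (j : ℕ) (Y : K.Lns), ((σ ^ j) Y).1 = cj (δ ^ j) Y.1 := by
    intro j
    induction j with
    | zero => intro Y; simp [cj_one]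
    | succ j ih =>
      intro Y
      rw [pow_succ', Equiv.Perm.mul_apply, pow_succ', ← cj_cj, ← ih]
      rfl
  have hodd : Odd (orderOf σ) := hδ.1.of_dvd_nat (orderOf_dvd_of_pow_eq_one (Equiv.ext fun Y => Subtype.ext (by
    rw [hpow, pow_orderOf_eq_one, cj_one]; rfl)))
  set B₀ : K.Lns := ⟨B, IsCj.self B, K.inc_base⟩
  have hB₀ : B₀ ∉ σ.support := by
    rw [Equiv.Perm.mem_support, not_not]
    exact Subtype.ext hB
  have hne : σ ≠ 1 := fun e => K.not_all_fixed hδ hA hB fun Y hY hYA =>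
    congrArg Subtype.val (Equiv.ext_iff.1 e (⟨Y, hY, hYA⟩ : K.Lns))
  have h4 : σ.support.card ≤ 4 := by
    have h := Finset.card_le_card (Finset.subset_univ (insert B₀ σ.support))
    rw [Finset.card_insert_of_notMem hB₀, Finset.card_univ, ← Nat.card_eq_fintype_card, K.card_lines] at h
    omega
  have h3 : σ.support.card = 3 := by
    rw [← Equiv.Perm.sum_cycleType] at h4 ⊢
    have hpart : ∀ n ∈ σ.cycleType, 3 ≤ n ∧ Odd n := fun n hn => by
      have h2 := Equiv.Perm.two_le_of_mem_cycleType hn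
      have ho := hodd.of_dvd_nat (Equiv.Perm.dvd_of_mem_cycleType hn)
      obtain ⟨k, hk⟩ := ho
      exact ⟨by omega, ⟨k, hk⟩⟩
    obtain ⟨n, hn⟩ := Multiset.exists_mem_of_ne_zero (fun e => hne (Equiv.Perm.cycleType_eq_zero.1 e))
    obtain ⟨t, ht⟩ := Multiset.exists_cons_of_mem hn
    rw [ht, Multiset.sum_cons] at h4 ⊢
    obtain ⟨hn3, k, hk⟩ := hpart n hn
    rcases t.empty_or_exists_mem with rfl | ⟨m, hm⟩
    · simp at h4 ⊢; omega
    · have := (hpart m (ht ▸ Multiset.mem_cons_of_mem hm)).1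
      have := Multiset.le_sum_of_mem hm
      omega
  have hc : σ.supportᶜ.card = 2 := by
    rw [Finset.card_compl, h3, ← Nat.card_eq_fintype_card, K.card_lines]
  obtain ⟨Y, hY⟩ : ∃ Y, σ.supportᶜ.erase B₀ = {Y} := Finset.card_eq_one.1 (by
    rw [Finset.card_erase_of_mem (by simpa using hB₀), hc])
  have hY' : Y ∈ σ.supportᶜ.erase B₀ := by rw [hY]; exact Finset.mem_singleton_self Y
  simp only [Finset.mem_erase, Finset.mem_compl, Equiv.Perm.mem_support, not_not] at hY'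
  refine ⟨Y.1, Y.2.1, Y.2.2, fun e => hY'.1 (Subtype.ext e), congrArg Subtype.val hY'.2,
    fun Y' h1 h2 h3 => ?_⟩
  by_cases e : Y' = B
  · exact Or.inl e
  have hmem : (⟨Y', h1, h2⟩ : K.Lns) ∈ σ.supportᶜ.erase B₀ := by
    simp only [Finset.mem_erase, Finset.mem_compl, Equiv.Perm.mem_support, not_not]
    exact ⟨fun e' => e (congrArg Subtype.val e'), Subtype.ext h3⟩
  rw [hY, Finset.mem_singleton] at hmem
  exact Or.inr (congrArg Subtype.val hmem)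

theorem two_lines {δ : G} (hδ : Inverted δ) {X l : Subgroup G} (hX : IsCj A X) (hl : IsCj B l) (h : Inc X l)
    (hδX : cj δ X = X) (hδl : cj δ l = l) :
    ∃ Y, IsCj B Y ∧ Inc X Y ∧ Y ≠ l ∧ cj δ Y = Y ∧
      ∀ Y', IsCj B Y' → Inc X Y' → cj δ Y' = Y' → Y' = l ∨ Y' = Y := by
  obtain ⟨g, rfl, rfl⟩ := K.flag hX hl h
  have key : ∀ T : Subgroup G, cj (g⁻¹ * δ * g) T = T ↔ cj δ (cj g T) = cj g T := fun T => by
    rw [mul_assoc, ← cj_cj, ← cj_cj, cj_eq_iff, inv_inv]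
  obtain ⟨Y, hY, hYA, hYB, hYδ, huniq⟩ := K.two_base (δ := g⁻¹ * δ * g) (by simpa using hδ.conj g⁻¹)
    ((key A).2 hδX) ((key B).2 hδl)
  refine ⟨cj g Y, hY.cj g, hYA.cj g, fun e => hYB (cj_inj e), (key Y).1 hYδ, fun Y' h1 h2 h3 => ?_⟩
  obtain ⟨T, rfl⟩ : ∃ T, cj g T = Y' := ⟨cj g⁻¹ Y', by rw [cj_cj, mul_inv_cancel, cj_one]⟩
  rcases huniq T (by simpa [cj_inv_cj] using h1.cj g⁻¹) (by simpa [cj_inv_cj] using h2.cj g⁻¹) ((key T).2 h3)
    with e | e
  · exact Or.inl (congrArg (cj g) e)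
  · exact Or.inr (congrArg (cj g) e)

/-- An involution fixing a point lies in it or in one of its lines. -/
theorem invol_at {v : G} (hv : v * v = 1) {X : Subgroup G} (hX : IsCj A X) (hfix : cj v X = X) (hvX : v ∉ X) :
    ∃ Y, IsCj B Y ∧ Inc X Y ∧ v ∈ Y := by
  obtain ⟨g, rfl⟩ := hX
  have hn : g⁻¹ * v * g ∈ normalizer (A : Set G) := mem_normalizer_of_cj (by
    rw [mul_assoc, ← cj_cj, ← cj_cj, hfix, cj_inv_cj])
  have h2 : g⁻¹ * v * g * (g⁻¹ * v * g) = 1 := by simpa using conj_sq g⁻¹ v hv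
  obtain ⟨m, hm, hmS⟩ := conj_into S K.dat.le_normA hn h2
  rcases K.dat.inv _ hmS (conj_sq m _ h2) with h | h
  · exfalso
    have h' := conj_mem_of_normalizer (inv_mem hm) h
    rw [show m⁻¹ * (m * (g⁻¹ * v * g) * m⁻¹) * m⁻¹⁻¹ = g⁻¹ * v * g by group] at h'
    exact hvX (mem_cj.2 h')
  · refine ⟨cj (g * m⁻¹) B, (IsCj.self B).cj _, ?_, ?_⟩
    · have := K.inc_base.cj (g * m⁻¹)
      rwa [← cj_cj g m⁻¹ A, cj_of_mem_normalizer (inv_mem hm)] at this
    · rw [mem_cj]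
      simpa [mul_assoc] using h

theorem five_cases {B' p q r s : Subgroup G} (h : [B', p, q, r, s].Nodup)
    (hall : ∀ Y ∈ [B', p, q, r, s], IsCj B Y ∧ Inc A Y) {Y : Subgroup G} (hY : IsCj B Y) (hYA : Inc A Y) :
    Y ∈ [B', p, q, r, s] := by
  classical
  by_contra hno
  haveI := Fintype.ofFinite K.Lns
  have hnd : (Y :: [B', p, q, r, s]).Nodup := List.nodup_cons.2 ⟨hno, h⟩
  have hmem : ∀ T ∈ Y :: [B', p, q, r, s], IsCj B T ∧ Inc A T := fun T hT => by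
    rcases List.mem_cons.1 hT with rfl | hT
    · exact ⟨hY, hYA⟩
    · exact hall T hT
  have := (hnd.pmap (f := fun T hT => (⟨T, hT⟩ : K.Lns)) (H := hmem)
    fun _ _ _ _ e => congrArg Subtype.val e).length_le_card
  rw [List.length_pmap, ← Nat.card_eq_fintype_card, K.card_lines] at this
  simp at this

theorem exists_setup : ∃ u δ : G, ∃ p q : Subgroup G,
    u ∈ B ∧ u ∉ A ∧ Odd (orderOf δ) ∧ u * δ * u⁻¹ = δ⁻¹ ∧ δ ≠ 1 ∧ cj δ A = A ∧ cj δ B ≠ B ∧
    IsCj B p ∧ Inc A p ∧ cj δ p = p ∧ cj δ q = q ∧ cj u p = q ∧ q ≠ p := by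
  classical
  haveI := Fintype.ofFinite K.Lns
  obtain ⟨u, hu, huA⟩ := K.dat.symm.exists_noncentral
  have hune : ∀ Y, IsCj B Y → Inc A Y → Y ≠ B → cj u Y ≠ Y := fun Y h1 h2 h3 e =>
    huA (K.regular_base h1 h2 h3 hu e)
  have huu := K.dat.eB u hu
  have hu' : u⁻¹ = u := inv_eq_of_sq huu
  have huA' : cj u A = A := cj_of_mem_normalizer (K.dat.le_normA (K.dat.hB hu))
  have huL : ∀ Y, IsCj B Y → Inc A Y → IsCj B (cj u Y) ∧ Inc A (cj u Y) := fun Y h1 h2 =>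
    ⟨h1.cj u, by simpa [huA'] using h2.cj u⟩
  have hpick : ∀ l : List (Subgroup G), l.length < 5 → ∃ Y, IsCj B Y ∧ Inc A Y ∧ Y ∉ l := by
    intro l hl
    by_contra! hno
    have h := Finset.card_le_card_of_injOn (s := (Finset.univ : Finset K.Lns)) (t := l.toFinset) (fun Y => Y.1)
      (fun Y _ => by simpa using hno Y.1 Y.2.1 Y.2.2) fun a _ b _ e => Subtype.ext e
    rw [Finset.card_univ, ← Nat.card_eq_fintype_card, K.card_lines] at h
    have := l.toFinset_card_le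
    omega
  obtain ⟨p, hp, hpA, hpB⟩ := hpick [B] (by simp)
  rw [List.mem_singleton] at hpB
  set q := cj u p with hq
  have hqB : q ≠ B := fun e => hpB (cj_inj (e.trans (cj_self hu).symm))
  have hqp : q ≠ p := hune p hp hpA hpB
  obtain ⟨r, hr, hrA, hrn⟩ := hpick [B, p, q] (by simp)
  simp only [List.mem_cons, List.not_mem_nil, or_false, not_or] at hrn
  obtain ⟨hrB, hrp, hrq⟩ := hrn
  set r' := cj u r with hr'
  have huu' : ∀ Y : Subgroup G, cj u (cj u Y) = Y := fun Y => by rw [cj_cj, huu, cj_one]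
  have hr'B : r' ≠ B := fun e => hrB (cj_inj (e.trans (cj_self hu).symm))
  have hr'r : r' ≠ r := hune r hr hrA hrB
  have hr'p : r' ≠ p := fun e => hrq (by rw [hq, ← e, hr', huu'])
  have hr'q : r' ≠ q := fun e => hrp (cj_inj (e.trans hq))
  obtain ⟨v, hv, hvp⟩ := K.trans_lines (IsCj.self A) hr hrA hp hpA (Ne.symm hrp) (huL p hp hpA).1
    (huL p hp hpA).2 (Ne.symm hrq)
  have hvA : v ∉ A := fun h => hqp (hvp.symm.trans (K.fix_line (IsCj.self A) hp hpA h))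
  have hvA' : cj v A = A := K.fix_point (IsCj.self A) hr hrA hv
  have hvv : v * v = 1 := by
    obtain ⟨g, rfl⟩ := hr
    exact cj_sq K.dat.eB v hv
  have hvv' : ∀ Y : Subgroup G, cj v (cj v Y) = Y := fun Y => by rw [cj_cj, hvv, cj_one]
  have hvq : cj v q = p := by rw [hq, ← hvp, hvv']
  have hvB : cj v B = r' := by
    have hmem := K.five_cases (B' := B) (p := p) (q := q) (r := r) (s := r')
      (by
        simp only [List.nodup_cons, List.mem_cons, List.not_mem_nil, or_false, not_or, not_false_iff,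
          List.nodup_nil, and_true]
        exact ⟨⟨Ne.symm hpB, Ne.symm hqB, Ne.symm hrB, Ne.symm hr'B⟩, ⟨Ne.symm hqp, Ne.symm hrp, Ne.symm hr'p⟩,
          ⟨Ne.symm hrq, Ne.symm hr'q⟩, Ne.symm hr'r⟩)
      (by
        intro Y hY
        simp only [List.mem_cons, List.not_mem_nil, or_false] at hY
        rcases hY with e | e | e | e | e <;> rw [e]
        exacts [⟨IsCj.self B, K.inc_base⟩, ⟨hp, hpA⟩, huL p hp hpA, ⟨hr, hrA⟩, huL r hr hrA])
      ((IsCj.self B).cj v) (by simpa [hvA'] using K.inc_base.cj v)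
    simp only [List.mem_cons, List.not_mem_nil, or_false] at hmem
    rcases hmem with e | e | e | e | e
    · exact absurd (K.regular (IsCj.self A) hr (IsCj.self B) hrA K.inc_base (Ne.symm hrB) hv e) hvA
    · exact absurd (cj_inj (e.trans hvq.symm)) (Ne.symm hqB)
    · exact absurd (cj_inj (e.trans hvp.symm)) (Ne.symm hpB)
    · exact absurd (cj_inj (e.trans (cj_self hv).symm)) (Ne.symm hrB)
    · exact e
  set d := u * v with hd
  have hdA : d ∈ normalizer (A : Set G) :=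
    mul_mem (mem_normalizer_of_cj huA') (mem_normalizer_of_cj hvA')
  have hdB : cj d B = r := by rw [← cj_cj, hvB, hr', huu']
  have hdr : cj d r = r' := by rw [← cj_cj, cj_self hv]
  have hdr' : cj d r' = B := by rw [← cj_cj, ← hvB, hvv', cj_self hu]
  have hd3 : ∀ i : ℕ, cj (d ^ (3 * i)) B = B := by
    intro i
    induction i with
    | zero => simp [cj_one]
    | succ i ih =>
      rw [show 3 * (i + 1) = 3 * i + 1 + 1 + 1 by ring, pow_succ', pow_succ', pow_succ', ← cj_cj d, ← cj_cj d,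
        ← cj_cj d, ih, hdB, hdr, hdr']
  have hmove : ∀ j : ℕ, ¬ 3 ∣ j → cj (d ^ j) B ≠ B := by
    intro j hj
    rw [← Nat.mod_add_div j 3, pow_add, ← cj_cj, hd3]
    rcases (by omega : j % 3 = 1 ∨ j % 3 = 2) with e | e <;> rw [e]
    · rw [pow_one, hdB]; exact hrB
    · rw [sq, ← cj_cj, hdB, hdr]; exact hr'B
  obtain ⟨k, m, hm, hkm⟩ := Nat.exists_eq_two_pow_mul_odd (orderOf_pos d).ne'
  refine ⟨u, d ^ 2 ^ k, p, q, hu, huA, hm.of_dvd_nat (orderOf_dvd_of_pow_eq_one ?_), ?_, ?_, ?_, ?_, hp, hpA, ?_, ?_,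
    rfl, hqp⟩
  · rw [← pow_mul, ← hkm, pow_orderOf_eq_one]
  · rw [← conj_pow, hd, show u * (u * v) * u⁻¹ = u * u * v * u⁻¹ by group, huu, one_mul, hu', ← inv_pow,
      mul_inv_rev, hu', inv_eq_of_sq hvv]
  · intro e
    refine hmove (2 ^ k) ?_ (by rw [e, cj_one])
    exact fun h => absurd ((Nat.prime_dvd_prime_iff_eq Nat.prime_three Nat.prime_two).1
      (Nat.prime_three.dvd_of_dvd_pow h)) (by norm_num)
  · exact cj_of_mem_normalizer (pow_mem hdA _)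
  · exact hmove (2 ^ k) fun h => absurd ((Nat.prime_dvd_prime_iff_eq Nat.prime_three Nat.prime_two).1
      (Nat.prime_three.dvd_of_dvd_pow h)) (by norm_num)
  · exact cj_of_mem_normalizer (pow_mem (mem_normalizer_of_cj (by rw [hd, ← cj_cj, hvp, huu']))  _)
  · exact cj_of_mem_normalizer (pow_mem (mem_normalizer_of_cj (by rw [hd, ← cj_cj, hvq])) _)

/-- The other fixed line and the other fixed point. -/
def Flg (_K : Two S A B) (δ : G) : Type _ :=
  {f : Subgroup G × Subgroup G // IsCj A f.1 ∧ IsCj B f.2 ∧ Inc f.1 f.2 ∧ cj δ f.1 = f.1 ∧ cj δ f.2 = f.2}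

/-- A triangle. -/
theorem triangle : ∃ X l m P Q : Subgroup G, IsCj A X ∧ IsCj B l ∧ IsCj B m ∧ Inc X l ∧ Inc X m ∧ m ≠ l ∧
    IsCj A P ∧ Inc P l ∧ P ≠ X ∧ IsCj A Q ∧ Inc Q m ∧ Q ≠ X ∧ P ≠ Q ∧ Coll B P Q := by
  classical
  obtain ⟨u, δ, p, q, hu, huA, hodd, hinv, hδ1, hδA, hδB, hp, hpA, hδp, hδq, hup, hqp⟩ := K.exists_setup
  have huu := K.dat.eB u hu
  have hI : Inverted δ := ⟨hodd, hδ1, u, huu, hinv⟩
  haveI : Finite (K.Flg δ) := inferInstanceAs (Finite {f : Subgroup G × Subgroup G // _})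
  have hfix : ∀ X : Subgroup G, cj δ X = X → cj δ (cj u X) = cj u X := by
    intro X h
    have h' : cj δ⁻¹ X = X := by conv_lhs => rw [← h, cj_inv_cj]
    have e : δ * u = u * δ⁻¹ := by
      rw [← hinv, inv_eq_of_sq huu, show u * (u * δ * u) = u * u * δ * u by group, huu, one_mul]
    rw [cj_cj, e, ← cj_cj, h']
  choose L hL using fun f : K.Flg δ => K.two_lines hI f.2.1 f.2.2.1 f.2.2.2.1 f.2.2.2.2.1 f.2.2.2.2.2
  choose P hP using fun f : K.Flg δ => K.symm.two_lines hI f.2.2.1 f.2.1 f.2.2.2.1.symm f.2.2.2.2.2 f.2.2.2.2.1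
  let t₁ : K.Flg δ → K.Flg δ := fun f =>
    ⟨(f.1.1, L f), f.2.1, (hL f).1, (hL f).2.1, f.2.2.2.2.1, (hL f).2.2.2.1⟩
  let t₂ : K.Flg δ → K.Flg δ := fun f =>
    ⟨(P f, f.1.2), (hP f).1, f.2.2.1, (hP f).2.1.symm, (hP f).2.2.2.1, f.2.2.2.2.2⟩
  let tu : K.Flg δ → K.Flg δ := fun f =>
    ⟨(cj u f.1.1, cj u f.1.2), f.2.1.cj u, f.2.2.1.cj u, f.2.2.2.1.cj u, hfix _ f.2.2.2.2.1, hfix _ f.2.2.2.2.2⟩
  have hu₂ : ∀ Y : Subgroup G, cj u (cj u Y) = Y := fun Y => by rw [cj_cj, huu, cj_one]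
  have u₁ : ∀ f g : K.Flg δ, g.1.1 = f.1.1 → g.1.2 ≠ f.1.2 → g = t₁ f := by
    intro f g h1 h2
    refine Subtype.ext (Prod.ext h1 ?_)
    exact ((hL f).2.2.2.2 _ g.2.2.1 (h1 ▸ g.2.2.2.1) g.2.2.2.2.2).resolve_left h2
  have u₂ : ∀ f g : K.Flg δ, g.1.2 = f.1.2 → g.1.1 ≠ f.1.1 → g = t₂ f := by
    intro f g h1 h2
    refine Subtype.ext (Prod.ext ?_ h1)
    exact ((hP f).2.2.2.2 _ g.2.1 (h1 ▸ g.2.2.2.1.symm) g.2.2.2.2.1).resolve_left h2
  have i₁ : Function.Involutive t₁ := fun f => (u₁ (t₁ f) f rfl (Ne.symm (hL f).2.2.1)).symm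
  have i₂ : Function.Involutive t₂ := fun f => (u₂ (t₂ f) f rfl (Ne.symm (hP f).2.2.1)).symm
  have iu : Function.Involutive tu := fun f => Subtype.ext (Prod.ext (hu₂ _) (hu₂ _))
  set e : K.Flg δ := ⟨(A, p), IsCj.self A, hp, hpA, hδA, hδp⟩ with he
  have huA' : cj u A = A := cj_of_mem_normalizer (K.dat.le_normA (K.dat.hB hu))
  have he₁ : tu e = t₁ e := u₁ e (tu e) huA' (by show cj u p ≠ p; rw [hup]; exact hqp)
  obtain ⟨x, hx⟩ := walk (i₁.toPerm t₁) (i₂.toPerm t₂) (iu.toPerm tu)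
    (Equiv.ext fun f => i₁ f) (Equiv.ext fun f => i₂ f)
    (fun f e' => (hL f).2.2.1 (congrArg (fun g : K.Flg δ => g.1.2) e'))
    (fun f e' => (hP f).2.2.1 (congrArg (fun g : K.Flg δ => g.1.1) e'))
    (Equiv.ext fun f => u₁ (tu f) (tu (t₁ f)) rfl fun e' => (hL f).2.2.1 (cj_inj e'))
    (Equiv.ext fun f => u₂ (tu f) (tu (t₂ f)) rfl fun e' => (hP f).2.2.1 (cj_inj e'))
    (e := e) he₁
  simp only [Function.Involutive.coe_toPerm] at hx
  have hBδ : IsCj B (cj δ B) := (IsCj.self B).cj δ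
  have hAδ : Inc A (cj δ B) := by simpa [hδA] using K.inc_base.cj δ
  rcases hx with hx | ⟨hx, hxe, hxe'⟩
  · -- a fixed line
    have hX : cj u x.1.1 = P x := congrArg (fun g : K.Flg δ => g.1.1) hx
    have hl : cj u x.1.2 = x.1.2 := congrArg (fun g : K.Flg δ => g.1.2) hx
    have hul : u ∉ x.1.2 := fun h => (hP x).2.2.1 (hX.symm.trans (K.fix_point x.2.1 x.2.2.1 x.2.2.2.1 h))
    obtain ⟨T, hT, hTl, huT⟩ := K.symm.invol_at huu x.2.2.1 hl hul
    have hu1 : u ≠ 1 := fun e' => huA (e' ▸ one_mem A)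
    have hTA : T ≠ A := fun e' => huA (e' ▸ huT)
    have hTB : Inc T B := ⟨u, huT, hu, hu1⟩
    refine ⟨A, B, cj δ B, T, cj δ T, IsCj.self A, IsCj.self B, hBδ, K.inc_base, hAδ, hδB, hT, hTB, hTA,
      hT.cj δ, hTB.cj δ, fun e' => hTA (cj_inj (e'.trans hδA.symm)), fun e' => hδB ?_,
      x.1.2, x.2.2.1, hTl.symm, by simpa [x.2.2.2.2.2] using hTl.symm.cj δ⟩
    exact (K.meet_unique (IsCj.self A) hT (Ne.symm hTA) (IsCj.self B) hBδ K.inc_base hAδ hTB
      (by conv => arg 1; rw [e']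
          exact hTB.cj δ)).symm
  · -- a fixed point other than `A`
    exfalso
    have hX : cj u x.1.1 = x.1.1 := congrArg (fun g : K.Flg δ => g.1.1) hx
    have hXA : x.1.1 ≠ A := fun h => by
      by_cases h2 : x.1.2 = p
      · exact hxe (Subtype.ext (Prod.ext h h2))
      · exact hxe' (u₁ e x h h2)
    have huX : u ∉ x.1.1 := fun h => (hL x).2.2.1 ((congrArg (fun g : K.Flg δ => g.1.2) hx).symm.trans
      (K.fix_line x.2.1 x.2.2.1 x.2.2.2.1 h))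
    obtain ⟨Y, hY, hXY, huY⟩ := K.invol_at huu x.2.1 hX huX
    obtain rfl := K.symm.point_unique hY (IsCj.self B) huY hu fun e' => huA (e' ▸ one_mem A)
    exact hδB (K.meet_unique (IsCj.self A) x.2.1 (Ne.symm hXA) (IsCj.self _) hBδ K.inc_base hAδ hXY
      (by simpa [x.2.2.2.2.1] using hXY.cj δ)).symm

/-- Points at two steps are collinear. -/
theorem coll_of_path {X l m P Q : Subgroup G}
    (hX : IsCj A X) (hl : IsCj B l) (hm : IsCj B m) (hXl : Inc X l) (hXm : Inc X m) (hlm : m ≠ l)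
    (hP : IsCj A P) (hPl : Inc P l) (hPX : P ≠ X) (hQ : IsCj A Q) (hQm : Inc Q m) (hQX : Q ≠ X) :
    P ≠ Q ∧ Coll B P Q := by
  obtain ⟨X', l', m', P', Q', h1, h2, h3, h4, h5, h6, h7, h8, h9, h10, h11, h12, hne, hc⟩ := K.triangle
  obtain ⟨g, e₁, e₂⟩ := K.path_trans h1 h2 h3 h4 h5 h6 h7 h8 h9 h10 h11 h12 hX hl hm hXl hXm hlm hP hPl hPX hQ
    hQm hQX
  have hcoll := hc.cj g
  obtain ⟨Y, ⟨k, hk⟩, i1, i2⟩ := hcoll
  refine ⟨fun e => hne (cj_inj (e₁.trans (e.trans e₂.symm))), Y, ?_, e₁ ▸ i1, e₂ ▸ i2⟩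
  exact ⟨k, hk⟩

end Two

end CfsgLib.SylL34
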