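import Cfsg.Agent.Invol.Dihedral
import Mathlib.GroupTheory.Sylow
import Mathlib.GroupTheory.Index
import Mathlib.Tactic.Group

/-!
The structure of a group of order 64 of the type of a Sylow 2-subgroup of `PSL(3, 4)`: two elementary
abelian subgroups `A`, `B` of order 16 meeting in the centre.
-/

set_option autoImplicit false
set_option linter.unusedSectionVars false
set_option linter.style.haveILetI false

namespace CfsgLib.SylL34

open Subgroup

/-- The data on a Sylow 2-subgroup. -/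
structure Dat {G : Type*} [Group G] (S : Sylow 2 G) (A B : Subgroup G) : Prop where
  hA : A ≤ (S : Subgroup G)
  hB : B ≤ (S : Subgroup G)
  eA : ∀ x ∈ A, x * x = 1
  eB : ∀ x ∈ B, x * x = 1
  cA : Nat.card A = 16
  cB : Nat.card B = 16
  cI : Nat.card (A ⊓ B : Subgroup G) = 4
  cS : Nat.card (S : Subgroup G) = 64
  inv : ∀ x ∈ (S : Subgroup G), x * x = 1 → x ∈ A ∨ x ∈ B
  cen : ∀ w ∈ A ⊓ B, ∀ x ∈ (S : Subgroup G), w * x = x * w
  selfA : ∀ a ∈ A, a ∉ B → ∀ b ∈ B, a * b = b * a → b ∈ A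

section Elem

variable {G : Type*} [Group G] {H : Subgroup G}

theorem inv_eq_of_sq {x : G} (h : x * x = 1) : x⁻¹ = x :=
  inv_eq_of_mul_eq_one_right h

theorem comm_of_sq (h : ∀ x ∈ H, x * x = 1) {x y : G} (hx : x ∈ H) (hy : y ∈ H) : x * y = y * x := by
  have h1 := inv_eq_of_sq (h _ (mul_mem hx hy))
  rwa [mul_inv_rev, inv_eq_of_sq (h x hx), inv_eq_of_sq (h y hy), eq_comm] at h1

theorem order_two {x : G} (h : x * x = 1) (h1 : x ≠ 1) : orderOf x = 2 :=
  Invol.orderOf_eq_two h h1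

theorem conj_sq (g x : G) (h : x * x = 1) : g * x * g⁻¹ * (g * x * g⁻¹) = 1 := by
  rw [show g * x * g⁻¹ * (g * x * g⁻¹) = g * (x * x) * g⁻¹ by group, h]; group

/-- A conjugate of a subgroup. -/
def cj (g : G) (X : Subgroup G) : Subgroup G := X.map (MulAut.conj g).toMonoidHom

theorem mem_cj {g : G} {X : Subgroup G} {x : G} : x ∈ cj g X ↔ g⁻¹ * x * g ∈ X := by
  constructor
  · rintro ⟨y, hy, rfl⟩
    simpa [mul_assoc] using hy
  · intro h
    exact ⟨_, h, by simp [mul_assoc]⟩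

theorem conj_mem_cj {g : G} {X : Subgroup G} {x : G} : g * x * g⁻¹ ∈ cj g X ↔ x ∈ X := by
  rw [mem_cj, show g⁻¹ * (g * x * g⁻¹) * g = x by group]

theorem cj_cj (g h : G) (X : Subgroup G) : cj g (cj h X) = cj (g * h) X := by
  ext x
  rw [mem_cj, mem_cj, mem_cj, show h⁻¹ * (g⁻¹ * x * g) * h = (g * h)⁻¹ * x * (g * h) by group]

theorem cj_one (X : Subgroup G) : cj 1 X = X := by
  ext x
  simp [mem_cj]

theorem cj_inv_cj (g : G) (X : Subgroup G) : cj g⁻¹ (cj g X) = X := by
  rw [cj_cj, inv_mul_cancel, cj_one]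

theorem card_cj (g : G) (X : Subgroup G) : Nat.card (cj g X) = Nat.card X :=
  card_map_of_injective (MulAut.conj g).injective

theorem cj_sq {g : G} {X : Subgroup G} (h : ∀ x ∈ X, x * x = 1) : ∀ x ∈ cj g X, x * x = 1 := by
  rintro _ ⟨y, hy, rfl⟩
  exact conj_sq g y (h y hy)

theorem mem_normalizer_of_cj {g : G} {X : Subgroup G} (h : cj g X = X) : g ∈ normalizer (X : Set G) :=
  mem_normalizer_iff_map_conj_eq.2 h

theorem cj_of_mem_normalizer {g : G} {X : Subgroup G} (h : g ∈ normalizer (X : Set G)) : cj g X = X :=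
  mem_normalizer_iff_map_conj_eq.1 h

theorem conj_mem_of_normalizer {g x : G} {X : Subgroup G} (h : g ∈ normalizer (X : Set G)) (hx : x ∈ X) :
    g * x * g⁻¹ ∈ X :=
  (mem_normalizer_iff.1 h x).1 hx

theorem cj_eq_of_conj_mem [Finite G] {g : G} {X : Subgroup G} (h : ∀ x ∈ X, g * x * g⁻¹ ∈ X) : cj g X = X :=
  eq_of_le_of_card_ge (by rintro _ ⟨y, hy, rfl⟩; exact h y hy) (card_cj g X).ge

theorem mem_normalizer_of_conj_mem [Finite G] {g : G} {X : Subgroup G} (h : ∀ x ∈ X, g * x * g⁻¹ ∈ X) :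
    g ∈ normalizer (X : Set G) :=
  mem_normalizer_of_cj (cj_eq_of_conj_mem h)

end Elem

namespace Dat

variable {G : Type*} [Group G] [Finite G] {S : Sylow 2 G} {A B : Subgroup G} (D : Dat S A B)
include D

theorem symm : Dat S B A := by
  refine ⟨D.hB, D.hA, D.eB, D.eA, D.cB, D.cA, by rw [inf_comm]; exact D.cI, D.cS,
    fun x hx h => (D.inv x hx h).symm, fun w hw => D.cen w (by rwa [inf_comm]), ?_⟩
  intro b hb hbA a ha hab
  by_contra haB
  exact hbA (D.selfA a ha haB b hb hab.symm)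

theorem center_comm {w x : G} (hw : w ∈ A ⊓ B) (hx : x ∈ (S : Subgroup G)) : x * w = w * x :=
  (D.cen w hw x hx).symm

theorem z_le_S : A ⊓ B ≤ (S : Subgroup G) := inf_le_left.trans D.hA

/-- `S = A B`. -/
theorem decomp {x : G} (hx : x ∈ (S : Subgroup G)) : ∃ a ∈ A, ∃ b ∈ B, x = a * b := by
  classical
  let f : A × B → (S : Subgroup G) := fun p => ⟨p.1 * p.2, mul_mem (D.hA p.1.2) (D.hB p.2.2)⟩
  suffices hf : Function.Surjective f by
    obtain ⟨⟨a, b⟩, h⟩ := hf ⟨x, hx⟩
    exact ⟨a, a.2, b, b.2, (congrArg Subtype.val h).symm⟩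
  by_contra hns
  haveI := Fintype.ofFinite (A × B)
  haveI := Fintype.ofFinite (S : Subgroup G)
  -- each fibre has at most four elements
  have hfib : ∀ y : (S : Subgroup G), (Finset.univ.filter fun p => f p = y).card ≤ 4 := by
    intro y
    rcases (Finset.univ.filter fun p => f p = y).eq_empty_or_nonempty with h | ⟨⟨a, b⟩, hp⟩
    · simp [h]
    haveI := Fintype.ofFinite (A ⊓ B : Subgroup G)
    rw [← D.cI, Nat.card_eq_fintype_card, ← Finset.card_univ]
    have hab : (a : G) * b = y := congrArg Subtype.val (Finset.mem_filter.1 hp).2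
    refine Finset.card_le_card_of_injOn (fun p => if h : (p.1 : G)⁻¹ * a ∈ A ⊓ B then ⟨_, h⟩ else 1)
      (fun p _ => Finset.mem_coe.2 (Finset.mem_univ _)) ?_
    intro p hp q hq e
    have key : ∀ r ∈ (Finset.univ.filter fun p => f p = y), ((r : A × B).1 : G)⁻¹ * a = (r.2 : G) * (b : G)⁻¹ := by
      intro r hr
      have h1 : (r.1 : G) * r.2 = y := congrArg Subtype.val (Finset.mem_filter.1 hr).2
      have : (r.1 : G) * r.2 = a * b := h1.trans hab.symm
      calc ((r : A × B).1 : G)⁻¹ * a = (r.1 : G)⁻¹ * (a * b) * (b : G)⁻¹ := by group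
        _ = _ := by rw [← this]; group
    have hmem : ∀ r ∈ (Finset.univ.filter fun p => f p = y), ((r : A × B).1 : G)⁻¹ * a ∈ A ⊓ B := fun r hr =>
      mem_inf.2 ⟨mul_mem (inv_mem r.1.2) a.2, by rw [key r hr]; exact mul_mem r.2.2 (inv_mem b.2)⟩
    simp only [dif_pos (hmem p hp), dif_pos (hmem q hq), Subtype.mk.injEq] at e
    have h2 : (p.1 : G) = q.1 := inv_injective (mul_right_cancel e)
    have e' : (p.1 : G) * p.2 = q.1 * q.2 := congrArg Subtype.val
      ((Finset.mem_filter.1 hp).2.trans (Finset.mem_filter.1 hq).2.symm)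
    rw [h2] at e'
    exact Prod.ext (Subtype.ext h2) (Subtype.ext (mul_left_cancel e'))
  have h1 := Finset.card_eq_sum_card_fiberwise (f := f) (s := Finset.univ) (t := Finset.univ.image f)
    fun p _ => Finset.mem_coe.2 (Finset.mem_image_of_mem f (Finset.mem_univ p))
  have h2 : (Finset.univ.image f).card < 64 := by
    rw [← D.cS, Nat.card_eq_fintype_card]
    refine Finset.card_lt_iff_ne_univ _ |>.2 fun h => hns fun y => ?_
    have := Finset.mem_univ y
    rw [← h, Finset.mem_image] at this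
    obtain ⟨p, -, hp⟩ := this
    exact ⟨p, hp⟩
  have h3 : (Finset.univ : Finset (A × B)).card = 256 := by
    rw [Finset.card_univ, ← Nat.card_eq_fintype_card, Nat.card_prod, D.cA, D.cB]
  have h4 := Finset.sum_le_card_nsmul (Finset.univ.image f)
    (fun y => (Finset.univ.filter fun p => f p = y).card) 4 fun y _ => hfib y
  rw [← h1, h3, smul_eq_mul] at h4
  omega

theorem conjB_memA {a b : G} (ha : a ∈ A) (hb : b ∈ B) : b * a * b⁻¹ ∈ A := by
  by_cases haB : a ∈ B
  · rw [comm_of_sq D.eB hb haB, mul_inv_cancel_right]; exact ha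
  rcases D.inv _ (mul_mem (mul_mem (D.hB hb) (D.hA ha)) (inv_mem (D.hB hb))) (conj_sq b a (D.eA a ha)) with h | h
  · exact h
  · refine absurd ?_ haB
    simpa [mul_assoc] using mul_mem (mul_mem (inv_mem hb) h) hb

/-- `A` is normal in `S`. -/
theorem normA {x a : G} (hx : x ∈ (S : Subgroup G)) (ha : a ∈ A) : x * a * x⁻¹ ∈ A := by
  obtain ⟨a', ha', b, hb, rfl⟩ := D.decomp hx
  rw [show a' * b * a * (a' * b)⁻¹ = a' * (b * a * b⁻¹) * a'⁻¹ by group]
  exact mul_mem (mul_mem ha' (D.conjB_memA ha hb)) (inv_mem ha')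

theorem le_normA : (S : Subgroup G) ≤ normalizer (A : Set G) :=
  fun _ hx => mem_normalizer_of_conj_mem fun _ ha => D.normA hx ha

/-- Commutators lie in the intersection. -/
theorem comm_mem {a b : G} (ha : a ∈ A) (hb : b ∈ B) : a * b * a⁻¹ * b⁻¹ ∈ A ⊓ B := by
  refine mem_inf.2 ⟨?_, mul_mem (D.symm.conjB_memA hb ha) (inv_mem hb)⟩
  rw [show a * b * a⁻¹ * b⁻¹ = a * (b * a⁻¹ * b⁻¹) by group]
  exact mul_mem ha (D.conjB_memA (inv_mem ha) hb)

theorem conj_coset {a x : G} (ha : a ∈ A) (hx : x ∈ (S : Subgroup G)) : ∃ w ∈ A ⊓ B, x * a * x⁻¹ = a * w := by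
  obtain ⟨a', ha', b, hb, rfl⟩ := D.decomp hx
  refine ⟨a⁻¹ * b * a * b⁻¹, ?_, ?_⟩
  · simpa using D.comm_mem (inv_mem ha) hb
  · have h : a' * (b * a * b⁻¹) * a'⁻¹ = b * a * b⁻¹ := by
      rw [comm_of_sq D.eA ha' (D.conjB_memA ha hb), mul_inv_cancel_right]
    rw [show a' * b * a * (a' * b)⁻¹ = a' * (b * a * b⁻¹) * a'⁻¹ by group, h]; group

/-- The coset of a non-central element is one class of `S`. -/
theorem exists_comm {a w : G} (ha : a ∈ A) (haB : a ∉ B) (hw : w ∈ A ⊓ B) :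
    ∃ b ∈ B, b * a * b⁻¹ = a * w := by
  classical
  let f : B → (A ⊓ B : Subgroup G) := fun b => ⟨a⁻¹ * b * a * (b : G)⁻¹, by
    simpa using D.comm_mem (inv_mem ha) b.2⟩
  suffices hf : Function.Surjective f by
    obtain ⟨b, hb⟩ := hf ⟨w, hw⟩
    refine ⟨b, b.2, ?_⟩
    rw [← show a⁻¹ * (b : G) * a * (b : G)⁻¹ = w from congrArg Subtype.val hb]; group
  haveI := Fintype.ofFinite B
  haveI := Fintype.ofFinite (A ⊓ B : Subgroup G)
  by_contra hns
  have hfib : ∀ y : (A ⊓ B : Subgroup G), (Finset.univ.filter fun b => f b = y).card ≤ 4 := by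
    intro y
    rcases (Finset.univ.filter fun b => f b = y).eq_empty_or_nonempty with h | ⟨b₀, hb₀⟩
    · simp [h]
    rw [← D.cI, Nat.card_eq_fintype_card, ← Finset.card_univ]
    refine Finset.card_le_card_of_injOn (fun b => if h : (b₀ : G)⁻¹ * b ∈ A ⊓ B then ⟨_, h⟩ else 1)
      (fun p _ => Finset.mem_coe.2 (Finset.mem_univ _)) ?_
    intro p hp q hq e
    have hmem : ∀ r ∈ (Finset.univ.filter fun b => f b = y), (b₀ : G)⁻¹ * ((r : B) : G) ∈ A ⊓ B := by
      intro r hr
      have e1 : a⁻¹ * (r : G) * a * (r : G)⁻¹ = a⁻¹ * (b₀ : G) * a * (b₀ : G)⁻¹ :=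
        congrArg Subtype.val ((Finset.mem_filter.1 hr).2.trans (Finset.mem_filter.1 hb₀).2.symm)
      have e2 : (r : G) * a * (r : G)⁻¹ = (b₀ : G) * a * (b₀ : G)⁻¹ := by
        simpa [mul_assoc] using e1
      refine mem_inf.2 ⟨D.selfA a ha haB _ (mul_mem (inv_mem b₀.2) r.2) ?_, mul_mem (inv_mem b₀.2) r.2⟩
      calc a * ((b₀ : G)⁻¹ * (r : G)) = (b₀ : G)⁻¹ * ((b₀ : G) * a * (b₀ : G)⁻¹) * r := by group
        _ = (b₀ : G)⁻¹ * ((r : G) * a * (r : G)⁻¹) * r := by rw [e2]
        _ = (b₀ : G)⁻¹ * (r : G) * a := by group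
    simp only [dif_pos (hmem p hp), dif_pos (hmem q hq), Subtype.mk.injEq] at e
    exact Subtype.ext (mul_left_cancel e)
  have h1 := Finset.card_eq_sum_card_fiberwise (f := f) (s := Finset.univ) (t := Finset.univ.image f)
    fun p _ => Finset.mem_coe.2 (Finset.mem_image_of_mem f (Finset.mem_univ p))
  have h2 : (Finset.univ.image f).card < 4 := by
    rw [← D.cI, Nat.card_eq_fintype_card]
    refine Finset.card_lt_iff_ne_univ _ |>.2 fun h => hns fun y => ?_
    have := Finset.mem_univ y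
    rw [← h, Finset.mem_image] at this
    obtain ⟨p, -, hp⟩ := this
    exact ⟨p, hp⟩
  have h3 : (Finset.univ : Finset B).card = 16 := by
    rw [Finset.card_univ, ← Nat.card_eq_fintype_card, D.cB]
  have h4 := Finset.sum_le_card_nsmul (Finset.univ.image f)
    (fun y => (Finset.univ.filter fun b => f b = y).card) 4 fun y _ => hfib y
  rw [← h1, h3, smul_eq_mul] at h4
  omega

/-- The centralizer of a non-central element of `A` in `S` is `A`. -/
theorem centA {a x : G} (ha : a ∈ A) (haB : a ∉ B) (hx : x ∈ (S : Subgroup G)) (h : x * a = a * x) :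
    x ∈ A := by
  obtain ⟨a', ha', b, hb, rfl⟩ := D.decomp hx
  refine mul_mem ha' (D.selfA a ha haB b hb ?_)
  calc a * b = a'⁻¹ * (a' * a) * b := by group
    _ = a'⁻¹ * (a * a') * b := by rw [comm_of_sq D.eA ha' ha]
    _ = a'⁻¹ * (a * (a' * b)) := by group
    _ = a'⁻¹ * (a' * b * a) := by rw [h]
    _ = b * a := by group

/-- The only elementary abelian subgroups of order 16 are `A` and `B`. -/
theorem sixteen {E : Subgroup G} (hE : E ≤ (S : Subgroup G)) (hsq : ∀ x ∈ E, x * x = 1)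
    (hc : Nat.card E = 16) : E = A ∨ E = B := by
  by_cases hA : E ≤ A
  · exact Or.inl (eq_of_le_of_card_ge hA (by rw [hc, D.cA]))
  by_cases hB : E ≤ B
  · exact Or.inr (eq_of_le_of_card_ge hB (by rw [hc, D.cB]))
  obtain ⟨x, hx, hxA⟩ := SetLike.not_le_iff_exists.1 hA
  obtain ⟨y, hy, hyB⟩ := SetLike.not_le_iff_exists.1 hB
  have hxB := (D.inv x (hE hx) (hsq x hx)).resolve_left hxA
  have hyA := (D.inv y (hE hy) (hsq y hy)).resolve_right hyB
  exact absurd (D.centA hyA hyB (hE hx) (comm_of_sq hsq hx hy)) hxA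

theorem orderA {a : G} (ha : a ∈ A) (ha1 : a ≠ 1) : orderOf a = 2 := order_two (D.eA a ha) ha1

theorem card_zsub : Nat.card (A ⊓ B : Subgroup G) = 4 := D.cI

theorem exists_noncentral : ∃ a ∈ A, a ∉ B := by
  by_contra! h
  have := card_le_of_le (le_inf le_rfl h : A ≤ A ⊓ B)
  rw [D.cI, D.cA] at this
  omega

theorem exists_zne : ∃ z ∈ A ⊓ B, z ≠ 1 := by
  by_contra! h
  have : Nat.card (A ⊓ B : Subgroup G) = 1 := by
    rw [(Subgroup.eq_bot_iff_forall _).2 h, card_bot]
  rw [D.cI] at this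
  omega

theorem exists_third {z w : G} (hz : z ∈ A ⊓ B) (hw : w ∈ A ⊓ B) (hz1 : z ≠ 1) (hw1 : w ≠ 1) (hne : z ≠ w)
    {v : G} (hv : v ∈ A ⊓ B) : v = 1 ∨ v = z ∨ v = w ∨ v = z * w := by
  classical
  haveI := Fintype.ofFinite (A ⊓ B : Subgroup G)
  have h4 : Fintype.card (A ⊓ B : Subgroup G) = 4 := by rw [← Nat.card_eq_fintype_card, D.cI]
  set z' : (A ⊓ B : Subgroup G) := ⟨z, hz⟩
  set w' : (A ⊓ B : Subgroup G) := ⟨w, hw⟩
  have hzz : z * z = 1 := D.eA z hz.1
  have e1 : z * w ≠ 1 := fun h => hne (by rw [← inv_eq_of_sq hzz, inv_eq_of_mul_eq_one_right h])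
  have e2 : z * w ≠ z := fun h => hw1 (mul_left_cancel (h.trans (mul_one z).symm))
  have e3 : z * w ≠ w := fun h => hz1 (mul_right_cancel (h.trans (one_mul w).symm))
  have hu : (Finset.univ : Finset (A ⊓ B : Subgroup G)) = {1, z', w', z' * w'} := by
    refine (Finset.eq_univ_of_card _ ?_).symm
    rw [h4, Finset.card_insert_of_notMem, Finset.card_insert_of_notMem, Finset.card_insert_of_notMem,
      Finset.card_singleton]
    · simpa [z', w', Subtype.ext_iff] using e3.symm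
    · simp only [Finset.mem_insert, Finset.mem_singleton, not_or]
      exact ⟨fun h => hne (congrArg Subtype.val h), fun h => e2 (congrArg Subtype.val h).symm⟩
    · simp only [Finset.mem_insert, Finset.mem_singleton, not_or]
      exact ⟨fun h => hz1 (congrArg Subtype.val h).symm, fun h => hw1 (congrArg Subtype.val h).symm,
        fun h => e1 (congrArg Subtype.val h).symm⟩
  have := Finset.mem_univ (⟨v, hv⟩ : (A ⊓ B : Subgroup G))
  rw [hu] at this
  simp only [Finset.mem_insert, Finset.mem_singleton] at this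
  rcases this with h | h | h | h
  · exact Or.inl (congrArg Subtype.val h)
  · exact Or.inr (Or.inl (congrArg Subtype.val h))
  · exact Or.inr (Or.inr (Or.inl (congrArg Subtype.val h)))
  · exact Or.inr (Or.inr (Or.inr (congrArg Subtype.val h)))

/-- The data restrict to a subgroup containing `S`. -/
theorem restrict (M : Subgroup G) (hM : (S : Subgroup G) ≤ M) :
    Dat (S.subtype hM) (A.subgroupOf M) (B.subgroupOf M) := by
  have hc : ∀ X : Subgroup G, X ≤ M → Nat.card (X.subgroupOf M) = Nat.card X := fun X hX =>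
    Nat.card_congr (subgroupOfEquivOfLe hX).toEquiv
  have hAM := D.hA.trans hM
  have hBM := D.hB.trans hM
  refine ⟨fun x hx => D.hA hx, fun x hx => D.hB hx, fun x hx => Subtype.ext (D.eA x hx),
    fun x hx => Subtype.ext (D.eB x hx), by rw [hc A hAM, D.cA], by rw [hc B hBM, D.cB], ?_, ?_,
    fun x hx h => D.inv x hx (congrArg Subtype.val h), fun w hw x hx => Subtype.ext (D.cen w hw x hx),
    fun a ha haB b hb h => D.selfA a ha haB b hb (congrArg Subtype.val h)⟩
  · rw [show A.subgroupOf M ⊓ B.subgroupOf M = (A ⊓ B).subgroupOf M from rfl,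
      hc _ (inf_le_left.trans hAM), D.cI]
  · rw [Sylow.coe_subtype, hc _ hM, D.cS]

end Dat

end CfsgLib.SylL34
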